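/-
Hyperbolic frames of a three-dimensional unitary space; three non-collinear full centres give SU.
-/
import Cfsg.Agent.Geo.UnitTv

set_option autoImplicit false

namespace CfsgLib.Geo.SU3

open Matrix Cfsg Cfsg.Geo CfsgLib.Geo CfsgLib.Geo.UTv

variable {q : ℕ} {F : Type*} [Field F]

local notation "hh" => Cfsg.hermForm 3 F q

/-- A hyperbolic pair with an anisotropic vector orthogonal to it. -/
structure Frame (q : ℕ) (e f w : Fin 3 → F) : Prop where
  ee : Cfsg.hermForm 3 F q e e = 0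
  ff : Cfsg.hermForm 3 F q f f = 0
  ef : Cfsg.hermForm 3 F q e f = 1
  we : Cfsg.hermForm 3 F q w e = 0
  wf : Cfsg.hermForm 3 F q w f = 0
  ww : Cfsg.hermForm 3 F q w w ≠ 0

variable [Finite F] (hF : Nat.card F = q ^ 2)
include hF

lemma zero_left (x : Fin 3 → F) : hh 0 x = 0 := (Unit.linLeft (isUnitaryForm hF)).zero_left x

lemma herm_swap0 {x y : Fin 3 → F} (h : hh x y = 0) : hh y x = 0 := by
  rw [(isUnitaryForm hF).herm, h, map_zero]

/-- Two orthogonal isotropic vectors are dependent. -/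
lemma mem_span_of_orth {u v : Fin 3 → F} (hu0 : u ≠ 0) (hu : hh u u = 0) (hv : hh v v = 0) (h : hh v u = 0) :
    v ∈ F ∙ u := by
  have hf := isUnitaryForm hF (n := 3)
  by_contra hn
  have hlt : (F ∙ u) < (F ∙ u) ⊔ (F ∙ v) := lt_of_le_of_ne le_sup_left fun e => hn (by
    rw [e]; exact Submodule.mem_sup_right (Submodule.mem_span_singleton_self v))
  have h1 := Submodule.finrank_lt_finrank_of_lt hlt
  rw [finrank_span_singleton hu0] at h1
  have h2 := Unit.finrank_add_le_of_perp hf (T := (F ∙ u) ⊔ (F ∙ v)) (S := (F ∙ u) ⊔ (F ∙ v)) (by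
    intro t ht s hs
    obtain ⟨a, ha, b, hb, rfl⟩ := Submodule.mem_sup.1 ht
    obtain ⟨c, hc, d, hd, rfl⟩ := Submodule.mem_sup.1 hs
    obtain ⟨a, rfl⟩ := Submodule.mem_span_singleton.1 ha
    obtain ⟨b, rfl⟩ := Submodule.mem_span_singleton.1 hb
    obtain ⟨c, rfl⟩ := Submodule.mem_span_singleton.1 hc
    obtain ⟨d, rfl⟩ := Submodule.mem_span_singleton.1 hd
    simp [hf.add_left, Unit.add_right hf, hf.smul_left, Unit.smul_right hf, hu, hv, h, herm_swap0 hF h])
  rw [Fintype.card_fin] at h2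
  omega

lemma exists_unit_pair {u v : Fin 3 → F} (h : hh u v ≠ 0) : ∃ c : F, c ≠ 0 ∧ hh u (c • v) = 1 := by
  obtain ⟨c, hc⟩ := (frobEquiv hF).surjective (hh u v)⁻¹
  refine ⟨c, fun e => ?_, ?_⟩
  · rw [e, map_zero] at hc
    exact inv_ne_zero h hc.symm
  · rw [Unit.smul_right (isUnitaryForm hF), hc, inv_mul_cancel₀ h]

/-- A hyperbolic pair extends to a frame. -/
lemma exists_frame_of_pair {e f : Fin 3 → F} (hee : hh e e = 0) (hff : hh f f = 0) (hef : hh e f = 1) :
    ∃ w, Frame q e f w := by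
  have hf := isUnitaryForm hF (n := 3)
  let R : (Fin 3 → F) →ₗ[F] (Fin 2 → F) := LinearMap.pi fun j => (Unit.linLeft hf).toLin (![e, f] j)
  obtain ⟨w, hw, hw0⟩ : ∃ w ∈ LinearMap.ker R, w ≠ 0 := Submodule.exists_mem_ne_zero_of_ne_bot fun h => by
    have h1 := R.finrank_range_add_finrank_ker
    have h2 := Submodule.finrank_le (LinearMap.range R)
    rw [h, finrank_bot, Module.finrank_fintype_fun_eq_card, Fintype.card_fin] at h1
    rw [Module.finrank_fintype_fun_eq_card, Fintype.card_fin] at h2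
    omega
  have hwe : hh w e = 0 := congrFun (LinearMap.mem_ker.1 hw) 0
  have hwf : hh w f = 0 := congrFun (LinearMap.mem_ker.1 hw) 1
  refine ⟨w, hee, hff, hef, hwe, hwf, fun h => hw0 ?_⟩
  have he0 : e ≠ 0 := fun h' => by rw [h', zero_left hF] at hef; exact zero_ne_one hef
  obtain ⟨c, rfl⟩ := Submodule.mem_span_singleton.1 (mem_span_of_orth hF he0 hee h hwe)
  rw [hf.smul_left, hef, mul_one] at hwf
  rw [hwf, zero_smul]

/-- Every isotropic vector lies in a frame. -/
lemma exists_frame {e : Fin 3 → F} (he : e ≠ 0) (hee : hh e e = 0) : ∃ f w, Frame q e f w := by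
  have hf := isUnitaryForm hF (n := 3)
  obtain ⟨x, hx⟩ := (hf.nondegenerate e he).1
  obtain ⟨c, hc⟩ := Unit.exists_isotropic_add hf (v := x) hee
    (fun h => hx (herm_swap0 hF h))
  have h1 : hh e (x + c • e) ≠ 0 := by
    rw [Unit.add_right hf, Unit.smul_right hf, hee, mul_zero, add_zero]
    exact fun h => hx (herm_swap0 hF h)
  obtain ⟨d, hd, hd1⟩ := exists_unit_pair hF h1
  obtain ⟨w, hw⟩ := exists_frame_of_pair hF (f := d • (x + c • e)) hee
    (by rw [hf.smul_left, Unit.smul_right hf, hc, mul_zero, mul_zero]) hd1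
  exact ⟨_, w, hw⟩

namespace Frame

variable {e f w : Fin 3 → F} (hB : Frame q e f w)
include hB

lemma fe : hh f e = 1 := by rw [(isUnitaryForm hF).herm, hB.ef, map_one]

lemma ew : hh e w = 0 := herm_swap0 hF hB.we

lemma fw : hh f w = 0 := herm_swap0 hF hB.wf

lemma e_ne : e ≠ 0 := fun h => by
  have := hB.ef
  rw [h, zero_left hF] at this
  exact zero_ne_one this

lemma f_ne : f ≠ 0 := fun h => by
  have := hB.fe hF
  rw [h, zero_left hF] at this
  exact zero_ne_one this

lemma symm : Frame q f e w := ⟨hB.ff, hB.ee, hB.fe hF, hB.wf, hB.we, hB.ww⟩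

lemma coord_e (a b c : F) : hh (a • e + b • f + c • w) e = b := by
  have hf := isUnitaryForm hF (n := 3)
  simp [hf.add_left, hf.smul_left, hB.ee, hB.fe hF, hB.we]

lemma coord_f (a b c : F) : hh (a • e + b • f + c • w) f = a := by
  have hf := isUnitaryForm hF (n := 3)
  simp [hf.add_left, hf.smul_left, hB.ef, hB.ff, hB.wf]

lemma coord_w (a b c : F) : hh (a • e + b • f + c • w) w = c * hh w w := by
  have hf := isUnitaryForm hF (n := 3)
  simp [hf.add_left, hf.smul_left, hB.ew hF, hB.fw hF]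

lemma inj {a b c a' b' c' : F} (h : a • e + b • f + c • w = a' • e + b' • f + c' • w) :
    a = a' ∧ b = b' ∧ c = c' := by
  refine ⟨?_, ?_, ?_⟩
  · rw [← hB.coord_f hF a b c, h, hB.coord_f hF]
  · rw [← hB.coord_e hF a b c, h, hB.coord_e hF]
  · refine mul_right_cancel₀ hB.ww ?_
    rw [← hB.coord_w hF a b c, h, hB.coord_w hF]

/-- The coordinates with respect to a frame. -/
lemma decomp (x : Fin 3 → F) :
    x = hh x f • e + hh x e • f + (hh x w / hh w w) • w := by
  have hf := isUnitaryForm hF (n := 3)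
  let R : (Fin 3 → F) →ₗ[F] (Fin 3 → F) := LinearMap.pi fun j => (Unit.linLeft hf).toLin (![f, e, w] j)
  have hR : ∀ y j, R y j = hh y (![f, e, w] j) := fun y j => rfl
  have hsurj : Function.Surjective R := fun t => by
    refine ⟨t 0 • e + t 1 • f + (t 2 / hh w w) • w, funext fun j => ?_⟩
    rw [hR]
    fin_cases j
    · exact hB.coord_f hF _ _ _
    · exact hB.coord_e hF _ _ _
    · exact (hB.coord_w hF _ _ _).trans (div_mul_cancel₀ _ hB.ww)
  refine LinearMap.injective_iff_surjective.2 hsurj (funext fun j => ?_)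
  rw [hR, hR]
  fin_cases j
  · exact (hB.coord_f hF _ _ _).symm
  · exact (hB.coord_e hF _ _ _).symm
  · exact ((hB.coord_w hF _ _ _).trans (div_mul_cancel₀ _ hB.ww)).symm

lemma herm_coord (a b c a' b' c' : F) :
    hh (a • e + b • f + c • w) (a' • e + b' • f + c' • w) =
      a * frobEquiv hF b' + b * frobEquiv hF a' + c * frobEquiv hF c' * hh w w := by
  have hf := isUnitaryForm hF (n := 3)
  simp only [hf.add_left, Unit.add_right hf, hf.smul_left, Unit.smul_right hf, hB.ee, hB.ff, hB.ef,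
    hB.fe hF, hB.we, hB.wf, hB.ew hF, hB.fw hF]
  ring

lemma self_coord (a b c : F) :
    hh (a • e + b • f + c • w) (a • e + b • f + c • w) =
      a * frobEquiv hF b + b * frobEquiv hF a + c * frobEquiv hF c * hh w w :=
  hB.herm_coord hF a b c a b c

lemma unit_iso {x z : F} :
    hh (x • e + f + z • w) (x • e + f + z • w) = x + frobEquiv hF x + z * frobEquiv hF z * hh w w := by
  have := hB.self_coord hF x 1 z
  rwa [one_smul, map_one, mul_one, one_mul] at this

/-- An isotropic vector off the line of `e` is a multiple of some `x e + f + z w`. -/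
lemma normal_form {y : Fin 3 → F} (hy : hh y y = 0) (hye : y ∉ F ∙ e) :
    hh y e ≠ 0 ∧ ∃ x z : F, y = hh y e • (x • e + f + z • w) ∧
      x + frobEquiv hF x + z * frobEquiv hF z * hh w w = 0 := by
  have hf := isUnitaryForm hF (n := 3)
  have h0 : hh y e ≠ 0 := fun h => hye (mem_span_of_orth hF (hB.e_ne hF) hB.ee hy h)
  refine ⟨h0, hh y f / hh y e, hh y w / hh w w / hh y e, ?_, ?_⟩
  · conv_lhs => rw [hB.decomp hF y]
    rw [smul_add, smul_add, smul_smul, smul_smul, mul_div_cancel₀ _ h0, mul_div_cancel₀ _ h0]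
  · rw [← hB.unit_iso hF]
    have e1 : (hh y f / hh y e) • e + f + (hh y w / hh w w / hh y e) • w = (hh y e)⁻¹ • y := by
      conv_rhs => arg 2; rw [hB.decomp hF y]
      rw [smul_add, smul_add, smul_smul, smul_smul, smul_smul, inv_mul_cancel₀ h0, one_smul, div_eq_inv_mul,
        div_eq_inv_mul (hh y w / hh w w)]
    rw [e1, hf.smul_left, Unit.smul_right hf, hy, mul_zero, mul_zero]

variable {M : Subgroup (GL (Fin 3) F)}

lemma full_unit_add (hMI : M ≤ suGL 3 F q) (he : Full q M e) {x x' z : F} (hy : Full q M (x • e + f + z • w))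
    (hx' : x' + frobEquiv hF x' + z * frobEquiv hF z * hh w w = 0) : Full q M (x' • e + f + z • w) := by
  have e1 : x • e + f + z • w + (x' - x) • e = x' • e + f + z • w := by module
  rw [← e1]
  refine full_add_smul hF hMI he hy ?_ _ (by rw [e1, hB.unit_iso hF, hx'])
  have := hB.coord_e hF x 1 z
  rw [one_smul] at this
  rw [this]
  exact one_ne_zero

/-- From `e`, `f` and a full point off their line, every point with an irrational ratio is full. -/
lemma full_step (hMI : M ≤ suGL 3 F q) (he : Full q M e) (hfF : Full q M f) {x₁ z₁ : F} (hz₁ : z₁ ≠ 0)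
    (h₁ : Full q M (x₁ • e + f + z₁ • w)) {x z : F} (hα : frobEquiv hF (z / z₁) ≠ z / z₁)
    (hy : x + frobEquiv hF x + z * frobEquiv hF z * hh w w = 0) : Full q M (x • e + f + z • w) := by
  have hf := isUnitaryForm hF (n := 3)
  set α := z / z₁ with hαdef
  obtain ⟨δ, hδ0, hδ⟩ := Unit.exists_skew hf.ne_refl hf.involutive
  have hd0 : δ * (α - frobEquiv hF α) ≠ 0 := mul_ne_zero hδ0 (sub_ne_zero.2 (Ne.symm hα))
  set t := δ * (-(α * x₁ + frobEquiv hF (α * x₁) + z * frobEquiv hF z * hh w w) /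
    (δ * (α - frobEquiv hF α))) with htdef
  have ht : frobEquiv hF t = -t := by
    rw [htdef]
    simp only [map_mul, map_div₀, map_neg, map_add, map_sub, hf.involutive, hδ, Unit.sigma_self hf]
    have e1 : -δ * (frobEquiv hF α - α) = δ * (α - frobEquiv hF α) := by ring
    rw [e1]
    field_simp
    ring
  have hR : Full q M ((x₁ + t) • e + f + z₁ • w) := by
    refine hB.full_unit_add hF hMI he h₁ ?_
    have := h₁.1
    rw [hB.unit_iso hF] at this
    rw [map_add, ht]
    linear_combination this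
  have hα1 : (1 : F) - α ≠ 0 := fun h => hα (by rw [← sub_eq_zero.1 h, map_one])
  have hkey : α * t + frobEquiv hF (α * t) =
      -(α * x₁ + frobEquiv hF (α * x₁) + z * frobEquiv hF z * hh w w) := by
    rw [map_mul, ht, htdef]
    field_simp
    ring
  have hiso : α * (x₁ + t) + frobEquiv hF (α * (x₁ + t)) + z * frobEquiv hF z * hh w w = 0 := by
    simp only [mul_add, map_add]
    linear_combination hkey
  have hne : hh f ((x₁ + t) • e + f + z₁ • w) ≠ 0 := by
    rw [hf.herm, ne_eq, map_eq_zero_iff _ (frobEquiv hF).injective]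
    intro h
    have := hB.coord_f hF (x₁ + t) 1 z₁
    rw [one_smul] at this
    rw [this] at h
    have h1 := hR.1
    rw [hB.unit_iso hF, h, map_zero, zero_add, zero_add] at h1
    rcases mul_eq_zero.1 h1 with h2 | h2
    · rcases mul_eq_zero.1 h2 with h3 | h3
      · exact hz₁ h3
      · exact hz₁ ((map_eq_zero_iff _ (frobEquiv hF).injective).1 h3)
    · exact hB.ww h2
  have e2 : (α * (x₁ + t)) • e + f + z • w =
      (1 - α) • (f + (α / (1 - α)) • ((x₁ + t) • e + f + z₁ • w)) := by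
    rw [smul_add, smul_smul, mul_div_cancel₀ _ hα1, smul_add, smul_add, smul_smul, smul_smul, hαdef,
      div_mul_cancel₀ _ hz₁]
    module
  have hy' : Full q M ((α * (x₁ + t)) • e + f + z • w) := by
    rw [e2]
    refine full_smul hF (full_add_smul hF hMI hR hfF hne _ ?_) _
    have h0 : hh ((α * (x₁ + t)) • e + f + z • w) ((α * (x₁ + t)) • e + f + z • w) = 0 := by
      rw [hB.unit_iso hF, hiso]
    rw [e2, hf.smul_left, Unit.smul_right hf] at h0
    have hσα : (1 : F) - frobEquiv hF α ≠ 0 := fun h => hα (by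
      have e3 : α = 1 := (frobEquiv hF).injective (by rw [map_one, ← sub_eq_zero.1 h])
      rw [e3, map_one])
    simpa [hα1, hσα, map_eq_zero_iff _ (frobEquiv hF).injective] using h0
  exact hB.full_unit_add hF hMI he hy' hy

end Frame

variable {M : Subgroup (GL (Fin 3) F)}

/-- Three full centres that are not collinear give the whole group. -/
theorem suGL_le_of_three (hq : 3 ≤ q) (hMI : M ≤ suGL 3 F q) {u v y : Fin 3 → F} (hu : Full q M u)
    (hv : Full q M v) (hy : Full q M y) (hu0 : u ≠ 0) (hvu : v ∉ F ∙ u) (hyuv : y ∉ (F ∙ u) ⊔ (F ∙ v)) :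
    suGL 3 F q ≤ M := by
  have hf := isUnitaryForm hF (n := 3)
  obtain ⟨c, hc0, hc⟩ := exists_unit_pair hF (u := u) (v := v) fun h =>
    hvu (mem_span_of_orth hF hu0 hu.1 hv.1 (herm_swap0 hF h))
  have hf' : Full q M (c • v) := full_smul hF hv c
  obtain ⟨w, hB⟩ := exists_frame_of_pair hF hu.1 hf'.1 hc
  have hyu : y ∉ F ∙ u := fun h => hyuv (Submodule.mem_sup_left h)
  obtain ⟨hy0, x₁, z₁, hyeq, -⟩ := hB.normal_form hF hy.1 hyu
  have h₁ : Full q M (x₁ • u + c • v + z₁ • w) := by
    have := full_smul hF hy (hh y u)⁻¹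
    nth_rewrite 2 [hyeq] at this
    rwa [smul_smul, inv_mul_cancel₀ hy0, one_smul] at this
  have hz₁ : z₁ ≠ 0 := fun h => hyuv (by
    rw [hyeq, h, zero_smul, add_zero]
    exact Submodule.smul_mem _ _ (Submodule.add_mem _
      (Submodule.mem_sup_left (Submodule.smul_mem _ _ (Submodule.mem_span_singleton_self u)))
      (Submodule.mem_sup_right (Submodule.smul_mem _ _ (Submodule.mem_span_singleton_self v)))))
  obtain ⟨η, hη⟩ : ∃ η, frobEquiv hF η ≠ η := by
    by_contra h
    push Not at h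
    exact hf.ne_refl (RingEquiv.ext h)
  obtain ⟨x₃, hx₃⟩ := Unit.exists_trace_eq hf.ne_refl hf.involutive
    (t := -((η * z₁) * frobEquiv hF (η * z₁) * hh w w))
    (by rw [map_neg, map_mul, map_mul, hf.involutive, Unit.sigma_self hf]; ring)
  have hx₃' : x₃ + frobEquiv hF x₃ + η * z₁ * frobEquiv hF (η * z₁) * hh w w = 0 := by
    linear_combination hx₃
  have h₃ : Full q M (x₃ • u + c • v + (η * z₁) • w) :=
    hB.full_step hF hMI hu hf' hz₁ h₁ (by rwa [mul_div_cancel_right₀ _ hz₁]) hx₃'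
  refine suGL_le_of_full' hF (by norm_num) (by omega) fun t ht => ?_
  by_cases htu : t ∈ F ∙ u
  · obtain ⟨a, rfl⟩ := Submodule.mem_span_singleton.1 htu
    exact full_smul hF hu a
  obtain ⟨-, x, z, hteq, hx⟩ := hB.normal_form hF ht htu
  rw [hteq]
  refine full_smul hF ?_ _
  rcases eq_or_ne z 0 with rfl | hz
  · refine hB.full_unit_add hF hMI hu (x := 0) ?_ hx
    simpa using hf'
  by_cases hk : frobEquiv hF (z / z₁) = z / z₁
  · have hη0 : η ≠ 0 := fun h => hη (by rw [h, map_zero])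
    refine hB.full_step hF hMI hu hf' (mul_ne_zero hη0 hz₁) h₃ (fun h => ?_) hx
    have e1 : z / z₁ = η * (z / (η * z₁)) := by field_simp
    rw [e1, map_mul, h] at hk
    exact hη (mul_right_cancel₀ (div_ne_zero hz (mul_ne_zero hη0 hz₁)) hk)
  · exact hB.full_step hF hMI hu hf' hz₁ h₁ hk hx

/-- A subgroup moving a full centre off every point gives the whole group. -/
theorem suGL_le_of_full_of_irred (hq : 3 ≤ q) (hMI : M ≤ suGL 3 F q) {u : Fin 3 → F} (hu : Full q M u) (hu0 : u ≠ 0)
    (hirr : ∀ x : Fin 3 → F, x ≠ 0 → ∃ g ∈ M, (g : Matrix (Fin 3) (Fin 3) F) *ᵥ x ∉ F ∙ x) :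
    suGL 3 F q ≤ M := by
  classical
  have hf := isUnitaryForm hF (n := 3)
  obtain ⟨g, hg, hgu⟩ := hirr u hu0
  have hv := full_conj hF hMI hu hg
  set v := (g : Matrix (Fin 3) (Fin 3) F) *ᵥ u with hvdef
  by_contra hcon
  have hall : ∀ h ∈ M, (h : Matrix (Fin 3) (Fin 3) F) *ᵥ u ∈ (F ∙ u) ⊔ (F ∙ v) := fun h hh' => by
    by_contra hn
    exact hcon (suGL_le_of_three hF hq hMI hu hv (full_conj hF hMI hu hh') hu0 hgu hn)
  -- the pole of the line through the two centres would be fixed
  obtain ⟨c, -, hc⟩ := exists_unit_pair hF (u := u) (v := v) fun h =>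
    hgu (mem_span_of_orth hF hu0 hu.1 hv.1 (herm_swap0 hF h))
  obtain ⟨w, hB⟩ := exists_frame_of_pair hF hu.1 (full_smul hF hv c).1 hc
  have hw0 : w ≠ 0 := fun h => hB.ww (by rw [h, zero_left hF])
  obtain ⟨k, hk, hkw⟩ := hirr w hw0
  refine hkw ?_
  have hperp : ∀ h ∈ M, hh ((k : Matrix (Fin 3) (Fin 3) F) *ᵥ w) ((h : Matrix (Fin 3) (Fin 3) F) *ᵥ u) = 0 := by
    intro h hh'
    have h1 := hall _ (mul_mem (inv_mem hk) hh')
    rw [mul_mulVec] at h1
    obtain ⟨a, ha, b, hb, hab⟩ := Submodule.mem_sup.1 h1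
    obtain ⟨a, rfl⟩ := Submodule.mem_span_singleton.1 ha
    obtain ⟨b, rfl⟩ := Submodule.mem_span_singleton.1 hb
    have e1 : hh w (a • u + b • v) = 0 := by
      have hwv : hh w v = 0 := by
        have := hB.wf
        rw [Unit.smul_right hf] at this
        refine (mul_eq_zero.1 this).resolve_left fun h0 => ?_
        rw [Unit.smul_right hf, h0, zero_mul] at hc
        exact zero_ne_one hc
      rw [Unit.add_right hf, Unit.smul_right hf, Unit.smul_right hf, hB.we, hwv]
      ring
    have e2 := herm_mulVec (hMI hk) w (a • u + b • v)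
    rw [hab, mulVec_inv_mulVec, ← hab, e1] at e2
    exact e2
  have h1 := hperp 1 M.one_mem
  have h2 := hperp g hg
  rw [Units.val_one, Matrix.one_mulVec] at h1
  rw [← hvdef] at h2
  set t := (k : Matrix (Fin 3) (Fin 3) F) *ᵥ w
  rw [hB.decomp hF t, h1, Unit.smul_right hf, h2, mul_zero, zero_smul, zero_smul, zero_add, zero_add]
  exact Submodule.smul_mem _ _ (Submodule.mem_span_singleton_self w)

end CfsgLib.Geo.SU3
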