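/-
The stabiliser of an anisotropic point of a unitary plane acting on the polar chord as Moebius transformations.
-/
import Cfsg.Agent.Geo.SUThree.Basic
import Cfsg.Agent.Geo.SLThree.Unitary
import Cfsg.Agent.Dickson.Torus
import Cfsg.Agent.Dickson.PGLSub
import Cfsg.Agent.Classical.PSLTwoSub
import Cfsg.Agent.Classical.PSLTwoTorus
import Cfsg.Agent.MinIdxPSU.Count
import Cfsg.Agent.Forms.FiniteQ
import Mathlib.FieldTheory.IsAlgClosed.AlgebraicClosure

set_option autoImplicit false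
set_option linter.unusedSectionVars false

namespace CfsgLib.Geo.SU3

open Matrix Cfsg Cfsg.Geo CfsgLib.Geo CfsgLib.Geo.UTv CfsgLib.Dickson
open scoped OnePoint
open scoped Classical

variable {q : ℕ} {F : Type*} [Field F] [Finite F] (hF : Nat.card F = q ^ 2)

local notation "hh" => Cfsg.hermForm 3 F q
local notation "σ" => frobEquiv hF

/-- The fixed field of the involution. -/
noncomputable abbrev fixF : Subfield F := RingHom.eqLocusField (frobEquiv hF).toRingHom (RingHom.id F)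

include hF

lemma mem_fixF {x : F} : x ∈ fixF hF ↔ σ x = x := Iff.rfl

lemma card_fixF : Nat.card (fixF hF) = q := by
  refine Eq.trans (Nat.card_congr (Equiv.subtypeEquivRight fun x => ?_)) (MinIdxPSU.card_fix_skew hF).1
  rw [mem_fixF hF, frobEquiv_apply]
  rfl

/-- The stabiliser of the point of `w` in the special unitary group. -/
abbrev lineStab (q : ℕ) (w : Fin 3 → F) : Subgroup (GL (Fin 3) F) :=
  subspaceStabilizer (F ∙ w) ⊓ suGL 3 F q

lemma mem_lineStab {w : Fin 3 → F} {g : GL (Fin 3) F} :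
    g ∈ lineStab q w ↔ (g : Matrix (Fin 3) (Fin 3) F) *ᵥ w ∈ F ∙ w ∧ g ∈ suGL 3 F q := by
  refine ⟨fun h => ⟨mem_subspaceStabilizer.1 h.1 w (Submodule.mem_span_singleton_self w), h.2⟩,
    fun h => ⟨mem_subspaceStabilizer.2 fun v hv => ?_, h.2⟩⟩
  obtain ⟨c, rfl⟩ := Submodule.mem_span_singleton.1 hv
  rw [Matrix.mulVec_smul]
  exact Submodule.smul_mem _ _ h.1

lemma perp_lineStab {w : Fin 3 → F} (hw : hh w w ≠ 0) {g : GL (Fin 3) F} (hg : g ∈ lineStab q w)
    {y : Fin 3 → F} (hy : hh y w = 0) : hh ((g : Matrix (Fin 3) (Fin 3) F) *ᵥ y) w = 0 := by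
  have hf := isUnitaryForm hF (n := 3)
  obtain ⟨hgw, hgs⟩ := (mem_lineStab hF).1 hg
  obtain ⟨ν, hν⟩ := Submodule.mem_span_singleton.1 hgw
  have h := herm_mulVec hgs y w
  rw [← hν, Unit.smul_right hf, hy] at h
  refine (mul_eq_zero.1 h).resolve_left fun h0 => ?_
  have h1 := herm_mulVec hgs w w
  rw [← hν, Unit.smul_right hf, h0, zero_mul] at h1
  exact hw h1.symm

namespace Frame

variable {e f w : Fin 3 → F} (hB : Frame q e f w) {δ : F} (hδ0 : δ ≠ 0) (hδ : frobEquiv hF δ = -δ)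

/-- The matrix on the chord, in the basis `e`, `δ f`. -/
noncomputable def chordMat (q : ℕ) (e f : Fin 3 → F) (δ : F) (g : GL (Fin 3) F) : Matrix (Fin 2) (Fin 2) F :=
  !![Cfsg.hermForm 3 F q ((g : Matrix (Fin 3) (Fin 3) F) *ᵥ e) f,
      δ * Cfsg.hermForm 3 F q ((g : Matrix (Fin 3) (Fin 3) F) *ᵥ f) f;
    Cfsg.hermForm 3 F q ((g : Matrix (Fin 3) (Fin 3) F) *ᵥ e) e / δ,
      Cfsg.hermForm 3 F q ((g : Matrix (Fin 3) (Fin 3) F) *ᵥ f) e]

include hB

lemma expand_perp {y : Fin 3 → F} (hy : hh y w = 0) : y = hh y f • e + hh y e • f := by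
  conv_lhs => rw [hB.decomp hF y, hy, zero_div, zero_smul, add_zero]

lemma chord_apply (g : GL (Fin 3) F) {y : Fin 3 → F} (hy : hh y w = 0) (v : Fin 3 → F) :
    hh ((g : Matrix (Fin 3) (Fin 3) F) *ᵥ y) v =
      hh y f * hh ((g : Matrix (Fin 3) (Fin 3) F) *ᵥ e) v + hh y e * hh ((g : Matrix (Fin 3) (Fin 3) F) *ᵥ f) v := by
  have hf := isUnitaryForm hF (n := 3)
  conv_lhs => rw [hB.expand_perp hF hy, Matrix.mulVec_add, Matrix.mulVec_smul, Matrix.mulVec_smul, hf.add_left,
    hf.smul_left, hf.smul_left]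

include hδ0

lemma chordMat_mul {g h : GL (Fin 3) F} (hh' : h ∈ lineStab q w) :
    chordMat q e f δ (g * h) = chordMat q e f δ g * chordMat q e f δ h := by
  have h1 := perp_lineStab hF hB.ww hh' (hB.ew hF)
  have h2 := perp_lineStab hF hB.ww hh' (hB.fw hF)
  ext i j
  rw [Matrix.mul_apply, Fin.sum_univ_two]
  fin_cases i <;> fin_cases j <;>
    simp only [chordMat, mul_mulVec, hB.chord_apply hF g h1, hB.chord_apply hF g h2, Fin.zero_eta, Fin.mk_one,
      Matrix.of_apply, Matrix.cons_val', Matrix.cons_val_zero, Matrix.cons_val_one,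
      Matrix.empty_val', Matrix.cons_val_fin_one] <;>
    field_simp <;> ring

lemma chordMat_one : chordMat q e f δ (1 : GL (Fin 3) F) = 1 := by
  ext i j
  fin_cases i <;> fin_cases j <;>
    simp [chordMat, hB.ef, hB.ff, hB.fe hF, hB.ee]

/-- The chord matrix as a homomorphism. -/
noncomputable def chordHom : lineStab q w →* GL (Fin 2) F :=
  MonoidHom.toHomUnits
    { toFun := fun g => chordMat q e f δ (g : GL (Fin 3) F)
      map_one' := hB.chordMat_one hF hδ0
      map_mul' := fun g h => hB.chordMat_mul hF hδ0 h.2 }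

lemma chordHom_val (g : lineStab q w) (i j : Fin 2) :
    (hB.chordHom hF hδ0 g : Matrix (Fin 2) (Fin 2) F) i j = chordMat q e f δ (g : GL (Fin 3) F) i j := rfl

include hδ

/-- The chord action is real. -/
lemma chord_real (g : lineStab q w) :
    Matrix.ProjGenLinGroup.mk (hB.chordHom hF hδ0 g) ∈ pglImage (fixF hF).subtype := by
  have hf := isUnitaryForm hF (n := 3)
  set a := hh (((g : GL (Fin 3) F) : Matrix (Fin 3) (Fin 3) F) *ᵥ e) f with ha
  set b := hh (((g : GL (Fin 3) F) : Matrix (Fin 3) (Fin 3) F) *ᵥ f) f with hb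
  set c := hh (((g : GL (Fin 3) F) : Matrix (Fin 3) (Fin 3) F) *ᵥ e) e with hc
  set d := hh (((g : GL (Fin 3) F) : Matrix (Fin 3) (Fin 3) F) *ᵥ f) e with hd
  have hge : ((g : GL (Fin 3) F) : Matrix (Fin 3) (Fin 3) F) *ᵥ e = a • e + c • f :=
    hB.expand_perp hF (perp_lineStab hF hB.ww g.2 (hB.ew hF))
  have hgf : ((g : GL (Fin 3) F) : Matrix (Fin 3) (Fin 3) F) *ᵥ f = b • e + d • f :=
    hB.expand_perp hF (perp_lineStab hF hB.ww g.2 (hB.fw hF))
  have r1 : a * σ c + c * σ a = 0 := by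
    have := herm_mulVec g.2.2 e e
    rw [hge, hB.ee] at this
    simpa [hf.add_left, Unit.add_right hf, hf.smul_left, Unit.smul_right hf, hB.ee, hB.ff, hB.ef, hB.fe hF,
      mul_comm, add_comm] using this
  have r2 : b * σ d + d * σ b = 0 := by
    have := herm_mulVec g.2.2 f f
    rw [hgf, hB.ff] at this
    simpa [hf.add_left, Unit.add_right hf, hf.smul_left, Unit.smul_right hf, hB.ee, hB.ff, hB.ef, hB.fe hF,
      mul_comm, add_comm] using this
  have r3 : a * σ d + c * σ b = 1 := by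
    have := herm_mulVec g.2.2 e f
    rw [hge, hgf, hB.ef] at this
    simpa [hf.add_left, Unit.add_right hf, hf.smul_left, Unit.smul_right hf, hB.ee, hB.ff, hB.ef, hB.fe hF,
      mul_comm, add_comm] using this
  have r3' : d * σ a + b * σ c = 1 := by
    have := congrArg σ r3
    simp only [map_add, map_mul, hf.involutive, map_one] at this
    linear_combination this
  set D := a * d - b * c
  have hD1 : a = D * σ a := by linear_combination b * r1 + (-a) * r3'
  have hD2 : d = D * σ d := by linear_combination c * r2 + (-d) * r3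
  have hD3 : -b = D * σ b := by linear_combination (-a) * r2 + b * r3
  have hD4 : -c = D * σ c := by linear_combination (-d) * r1 + c * r3'
  obtain ⟨u, hu0, hu⟩ : ∃ u, u ≠ 0 ∧ u = D * σ u := by
    by_cases h0 : a = 0
    · have hc0 : c ≠ 0 := fun hc0 => by
        rw [h0, hc0] at r3
        simp at r3
      refine ⟨c / δ, div_ne_zero hc0 hδ0, ?_⟩
      rw [map_div₀, hδ, ← mul_div_assoc, ← hD4]
      field_simp
    · exact ⟨a, h0, hD1⟩
  have hσu : σ u ≠ 0 := (map_ne_zero _).2 hu0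
  have hDne : D ≠ 0 := fun h => hu0 (by rw [hu, h, zero_mul])
  have real : ∀ x : F, x = D * σ x → x / u ∈ fixF hF := fun x hx => by
    rw [mem_fixF hF, map_div₀]
    nth_rewrite 2 [hx]
    rw [hu, mul_div_mul_left _ _ hDne]
    rw [← hu]
  let M : Matrix (Fin 2) (Fin 2) (fixF hF) :=
    !![⟨a / u, real a hD1⟩, ⟨δ * b / u, real _ (by rw [map_mul, hδ]; linear_combination δ * (- hD3))⟩;
      ⟨c / δ / u, real _ (by rw [map_div₀, hδ, ← mul_div_assoc, ← hD4]; field_simp)⟩, ⟨d / u, real d hD2⟩]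
  have hM : (fixF hF).subtype.mapMatrix M =
      (u⁻¹) • (hB.chordHom hF hδ0 g : Matrix (Fin 2) (Fin 2) F) := by
    ext i j
    rw [Matrix.smul_apply, hB.chordHom_val hF hδ0, smul_eq_mul]
    fin_cases i <;> fin_cases j <;> simp [M, chordMat, div_eq_inv_mul, a, b, c, d]
  have hdet : M.det ≠ 0 := fun h => by
    have h1 := congrArg Matrix.det hM
    rw [← RingHom.map_det, h, map_zero, Matrix.det_smul] at h1
    exact mul_ne_zero (pow_ne_zero _ (inv_ne_zero hu0)) (Matrix.GeneralLinearGroup.det (hB.chordHom hF hδ0 g)).ne_zero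
      h1.symm
  refine ⟨Matrix.ProjGenLinGroup.mk (Matrix.GeneralLinearGroup.mkOfDetNeZero M hdet), ?_⟩
  rw [Matrix.ProjGenLinGroup.map_mk]
  refine Matrix.ProjGenLinGroup.mk_eq_mk_iff.2 ?_
  refine ⟨Units.mk0 u hu0, Units.ext ?_⟩
  ext i j
  have := congrFun (congrFun hM i) j
  simp [Matrix.GeneralLinearGroup.coe_scalar] at this ⊢
  rw [this]
  field_simp

/-- The action on the chord, over the fixed field. -/
noncomputable def rho : lineStab q w →* PGL2 (fixF hF) :=
  ((pglImageEquiv (fixF hF).subtype).symm.toMonoidHom).comp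
    ((Matrix.ProjGenLinGroup.mk.comp (hB.chordHom hF hδ0)).codRestrict _ (hB.chord_real hF hδ0 hδ))

lemma map_rho (g : lineStab q w) :
    Matrix.ProjGenLinGroup.map (n := Fin 2) (fixF hF).subtype (hB.rho hF hδ0 hδ g) =
      Matrix.ProjGenLinGroup.mk (hB.chordHom hF hδ0 g) := by
  have h := (pglImageEquiv (fixF hF).subtype).apply_symm_apply
    ⟨_, hB.chord_real hF hδ0 hδ g⟩
  exact congrArg Subtype.val h

/-- The kernel acts on the chord by a scalar. -/
lemma scalar_of_rho {g : lineStab q w} (h : hB.rho hF hδ0 hδ g = 1) :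
    ∃ u : F, ∀ y, hh y w = 0 → ((g : GL (Fin 3) F) : Matrix (Fin 3) (Fin 3) F) *ᵥ y = u • y := by
  have h1 := hB.map_rho hF hδ0 hδ g
  rw [h, map_one, eq_comm, Matrix.ProjGenLinGroup.mk_eq_one, Matrix.GeneralLinearGroup.center_eq_range_scalar] at h1
  obtain ⟨z, hz⟩ := h1
  have hM : ∀ i j, chordMat q e f δ (g : GL (Fin 3) F) i j =
      (Matrix.GeneralLinearGroup.scalar (Fin 2) z : GL (Fin 2) F) i j := fun i j => by
    rw [hz]; rfl
  have h00 := hM 0 0
  have h01 := hM 0 1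
  have h10 := hM 1 0
  have h11 := hM 1 1
  simp [chordMat, Matrix.GeneralLinearGroup.coe_scalar, hδ0] at h00 h01 h10 h11
  refine ⟨z, fun y hy => ?_⟩
  rw [hB.expand_perp hF (perp_lineStab hF hB.ww g.2 hy), hB.chord_apply hF _ hy f, hB.chord_apply hF _ hy e,
    h00, h01, h10, h11, mul_zero, mul_zero, add_zero, zero_add, mul_comm _ (z : F), mul_comm _ (z : F),
    mul_smul, mul_smul, ← smul_add, ← hB.expand_perp hF hy]

/-- A fixed point of the chord action is a fixed isotropic point. -/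
lemma exists_iso_of_fix (x : OnePoint (fixF hF)) :
    ∃ v, v ≠ 0 ∧ hh v v = 0 ∧ hh v w = 0 ∧ ∀ h : lineStab q w, hB.rho hF hδ0 hδ h • x = x →
      ((h : GL (Fin 3) F) : Matrix (Fin 3) (Fin 3) F) *ᵥ v ∈ F ∙ v := by
  have hf := isUnitaryForm hF (n := 3)
  induction x using OnePoint.rec with
  | infty =>
    refine ⟨e, hB.e_ne hF, hB.ee, hB.ew hF, fun h hx => ?_⟩
    have h1 := congrArg (OnePoint.map (fixF hF).subtype) hx
    rw [← mapHom_smul, hB.map_rho hF hδ0 hδ, OnePoint.map_infty, mk_smul_eq, OnePoint.smul_infty_eq_self_iff,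
      hB.chordHom_val hF hδ0] at h1
    simp [chordMat, hδ0] at h1
    rw [hB.expand_perp hF (perp_lineStab hF hB.ww h.2 (hB.ew hF)), h1, zero_smul, add_zero]
    exact Submodule.smul_mem _ _ (Submodule.mem_span_singleton_self e)
  | coe r =>
    have hr : σ (r : F) = r := r.2
    set v := (r : F) • e + δ • f with hv
    have hve : hh v e = δ := by rw [hv, hf.add_left, hf.smul_left, hf.smul_left, hB.ee, hB.fe hF]; ring
    have hvf : hh v f = r := by rw [hv, hf.add_left, hf.smul_left, hf.smul_left, hB.ef, hB.ff]; ring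
    have hvw : hh v w = 0 := by rw [hv, hf.add_left, hf.smul_left, hf.smul_left, hB.ew hF, hB.fw hF]; ring
    refine ⟨v, fun h0 => hδ0 (by rw [← hve, h0, zero_left hF]), ?_, hvw, fun h hx => ?_⟩
    · rw [hv, hf.add_left, hf.smul_left, hf.smul_left, Unit.add_right hf, Unit.add_right hf, Unit.smul_right hf,
        Unit.smul_right hf, Unit.smul_right hf, Unit.smul_right hf, hB.ee, hB.ff, hB.ef, hB.fe hF, hr, hδ]
      ring
    have h1 := congrArg (OnePoint.map (fixF hF).subtype) hx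
    rw [← mapHom_smul, hB.map_rho hF hδ0 hδ, OnePoint.map_some, mk_smul_eq, OnePoint.smul_some_eq_ite,
      hB.chordHom_val hF hδ0, hB.chordHom_val hF hδ0, hB.chordHom_val hF hδ0, hB.chordHom_val hF hδ0] at h1
    simp only [chordMat, Matrix.of_apply, Matrix.cons_val', Matrix.cons_val_zero, Matrix.cons_val_one,
      Matrix.empty_val', Matrix.cons_val_fin_one, Subfield.coe_subtype] at h1
    split_ifs at h1 with h2
    · exact absurd h1.symm (OnePoint.coe_ne_infty _)
    have h3 := OnePoint.coe_injective h1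
    rw [div_eq_iff h2] at h3
    rw [hB.expand_perp hF (perp_lineStab hF hB.ww h.2 hvw), hB.chord_apply hF _ hvw f, hB.chord_apply hF _ hvw e,
      hve, hvf]
    refine Submodule.mem_span_singleton.2 ⟨(r : F) / δ * hh (((h : GL (Fin 3) F) : Matrix (Fin 3) (Fin 3) F) *ᵥ e) e +
      hh (((h : GL (Fin 3) F) : Matrix (Fin 3) (Fin 3) F) *ᵥ f) e, ?_⟩
    rw [hv, smul_add, smul_smul, smul_smul]
    congr 2
    · linear_combination -h3
    · field_simp

end Frame

variable {M : Subgroup (GL (Fin 3) F)}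

/-- An anisotropic vector is the last member of a frame. -/
lemma exists_frame_perp {w : Fin 3 → F} (hw : hh w w ≠ 0) : ∃ e f, Frame q e f w := by
  have hf := isUnitaryForm hF (n := 3)
  obtain ⟨e, x, hee, hex, hew, hxw⟩ := SL3.Unitary.exists_pair_perp hf hw (by simp)
  obtain ⟨c, hc⟩ := Unit.exists_isotropic_add hf (v := x) hee hex
  obtain ⟨d, hd, hd1⟩ := exists_unit_pair hF (u := e) (v := x + c • e) (by
    rw [Unit.add_right hf, Unit.smul_right hf, hee, mul_zero, add_zero]; exact hex)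
  exact ⟨e, d • (x + c • e), hee, by rw [hf.smul_left, Unit.smul_right hf, hc, mul_zero, mul_zero], hd1,
    herm_swap0 hF hew, herm_swap0 hF (by rw [hf.smul_left, hf.add_left, hf.smul_left, hxw, hew]; ring), hw⟩

/-- A `p`-group of order at least `q` fixing an anisotropic point gives a full centre. -/
theorem full_of_pgroup {p : ℕ} [Fact p.Prime] [CharP F p] {w : Fin 3 → F} (hw : hh w w ≠ 0)
    {Q : Subgroup (GL (Fin 3) F)} (hQM : Q ≤ M) (hQ : Q ≤ lineStab q w) (hp : IsPGroup p Q)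
    (hcard : q ≤ Nat.card Q) : ∃ v, v ≠ 0 ∧ Full q M v := by
  have hf := isUnitaryForm hF (n := 3)
  obtain ⟨δ, hδ0, hδ⟩ := Unit.exists_skew hf.ne_refl hf.involutive
  obtain ⟨e₀, f₀, hB⟩ := exists_frame_perp hF hw
  haveI : CharP (fixF hF) p := ((fixF hF).subtype.charP_iff Subtype.val_injective p).2 inferInstance
  obtain ⟨z, hz⟩ := exists_fix_of_isPGroup p ((Q.subgroupOf (lineStab q w)).map (hB.rho hF hδ0 hδ))
    ((hp.comap_of_injective _ Subtype.val_injective).map _)
  obtain ⟨v, hv0, hvv, hvw, hv⟩ := hB.exists_iso_of_fix hF hδ0 hδ z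
  obtain ⟨f, w', hB'⟩ := exists_frame hF hv0 hvv
  -- every element of the group is a transvection centred at `v`
  have hone : ∀ g ∈ Q, ∀ y : Fin 3 → F, y ≠ 0 → (g : Matrix (Fin 3) (Fin 3) F) *ᵥ y ∈ F ∙ y →
      (g : Matrix (Fin 3) (Fin 3) F) *ᵥ y = y := fun g hg y hy hgy => by
    obtain ⟨c, hc⟩ := Submodule.mem_span_singleton.1 hgy
    obtain ⟨j, hj⟩ := hp ⟨g, hg⟩
    have hpow : ∀ i : ℕ, ((g ^ i : GL (Fin 3) F) : Matrix (Fin 3) (Fin 3) F) *ᵥ y = c ^ i • y := fun i => by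
      induction i with
      | zero => simp
      | succ i ih => rw [pow_succ, mul_mulVec, ← hc, Matrix.mulVec_smul, ih, smul_smul, pow_succ']
    have h1 := hpow (p ^ j)
    rw [show (g ^ p ^ j : GL (Fin 3) F) = 1 from congrArg Subtype.val hj, Units.val_one, Matrix.one_mulVec] at h1
    have h2 : c ^ p ^ j = 1 := (smul_left_injective F hy ((one_smul F y).trans h1)).symm
    have h3 : iterateFrobenius F p j c = iterateFrobenius F p j 1 := by
      rw [iterateFrobenius_def, iterateFrobenius_def, one_pow, h2]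
    rw [← hc, (iterateFrobenius F p j).injective h3, one_smul]
  have htv : ∀ g ∈ Q, ∃ c, c + c ^ q = 0 ∧ ∀ y, (g : Matrix (Fin 3) (Fin 3) F) *ᵥ y = y + (c * hh y v) • v := by
    intro g hg
    have hgs := (hQ hg).2
    have hgw := hone g hg w (fun e => hw (by rw [e, zero_left hF]))
      ((mem_lineStab hF).1 (hQ hg)).1
    have hgv := hone g hg v hv0 (hv ⟨g, hQ hg⟩ (hz _ ⟨⟨g, hQ hg⟩, hg, rfl⟩))
    have hwe : hh w v = 0 := herm_swap0 hF hvw
    obtain ⟨a, ha⟩ : ∃ a, w = a • v + (hh w w' / hh w' w') • w' := ⟨hh w f, by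
      conv_lhs => rw [hB'.decomp hF w, hwe, zero_smul, add_zero]⟩
    have hz' : hh w w' / hh w' w' ≠ 0 := fun h => hw (by
      rw [ha, h, zero_smul, add_zero, hf.smul_left, Unit.smul_right hf, hvv, mul_zero, mul_zero])
    have hgw' : (g : Matrix (Fin 3) (Fin 3) F) *ᵥ w' = w' := by
      refine smul_right_injective _ hz' ?_
      have := hgw
      rw [ha, Matrix.mulVec_add, Matrix.mulVec_smul, Matrix.mulVec_smul, hgv] at this
      exact add_left_cancel this
    set t := (g : Matrix (Fin 3) (Fin 3) F) *ᵥ f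
    have t1 : hh t v = 1 := by
      have := herm_mulVec hgs f v
      rwa [hgv, hB'.fe hF] at this
    have t2 : hh t w' = 0 := by
      have := herm_mulVec hgs f w'
      rwa [hgw', hB'.fw hF] at this
    have ht : t = hh t f • v + f := by
      conv_lhs => rw [hB'.decomp hF t, t1, t2, zero_div, zero_smul, add_zero, one_smul]
    refine ⟨hh t f, ?_, fun y => ?_⟩
    · have := herm_mulVec hgs f f
      rw [show (g : Matrix (Fin 3) (Fin 3) F) *ᵥ f = t from rfl, hB'.ff, ht] at this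
      simp only [hf.add_left, Unit.add_right hf, hf.smul_left, Unit.smul_right hf, hvv, hB'.ff, hB'.ef,
        hB'.fe hF] at this
      rw [← frobEquiv_apply hF]
      linear_combination this
    · conv_lhs => rw [hB'.decomp hF y, Matrix.mulVec_add, Matrix.mulVec_add, Matrix.mulVec_smul, Matrix.mulVec_smul,
        Matrix.mulVec_smul, hgv, hgw', show (g : Matrix (Fin 3) (Fin 3) F) *ᵥ f = t from rfl, ht]
      conv_rhs => arg 1; rw [hB'.decomp hF y]
      module
  choose c hc hcy using htv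
  let Φ : Q → MinIdxPSU.Skew hF := fun g => ⟨c g g.2, hc g g.2⟩
  have hΦ : Function.Injective Φ := fun a b h => by
    have h' : c a a.2 = c b b.2 := congrArg Subtype.val h
    exact Subtype.ext (gl_ext_mulVec fun y => by rw [hcy a a.2, hcy b b.2, h'])
  have hbij : Function.Surjective Φ := by
    refine ((Nat.bijective_iff_injective_and_card Φ).2 ⟨hΦ, le_antisymm ?_ ?_⟩).2
    · exact Nat.card_le_card_of_injective Φ hΦ
    · rw [(MinIdxPSU.card_fix_skew hF).2]; exact hcard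
  refine ⟨v, hv0, full_of_mem hF hvv fun s hs => ?_⟩
  obtain ⟨g, hg⟩ := hbij ⟨s, hs⟩
  have h' : c g g.2 = s := congrArg Subtype.val hg
  have e : (g : GL (Fin 3) F) = tvec v (uax q v s) (uax_dot_self hvv s) := gl_ext_mulVec fun y => by
    rw [hcy g g.2, utv_mulVec hF hvv, h']
  exact e ▸ hQM g.2

omit hF [Finite F] in
lemma s4_sq : ∀ a b : Equiv.Perm (Fin 4), a ^ 4 = 1 → b ^ 4 = 1 → a ^ 2 * b ^ 2 = b ^ 2 * a ^ 2 := by decide +kernel

lemma card_dvd_pgl_image {p a : ℕ} [Fact p.Prime] (hq : q = p ^ a) {H : Subgroup (PGL2 (fixF hF))} {f : ℕ}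
    (ψ : GaloisField p f →+* fixF hF) (h : PGL2 (fixF hF)) (hf1 : 1 ≤ f) (hf : p ^ f = q)
    (hH : conjH h H = pglImage ψ ∨ (p ≠ 2 ∧ conjH h H = pslImage ψ)) : q ∣ Nat.card H := by
  have hc : Nat.card H = Nat.card (conjH h H) := Nat.card_congr (conjHEquiv h H).toEquiv
  have hk : Nat.card (GaloisField p f) = q := by rw [GaloisField.card p f (by omega), hf]
  have hpsl : q ∣ Nat.card (Matrix.ProjectiveSpecialLinearGroup (Fin 2) (GaloisField p f)) := by
    rw [CfsgLib.Linear.PSLTwo.card_eq, hk]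
    exact (dvd_mul_right q _).mul_left _
  rcases hH with hH | ⟨-, hH⟩
  · rw [hc, hH, ← Nat.card_congr (pglImageEquiv ψ).toEquiv, CfsgLib.Linear.PSLTwo.card_pgl, hk]
    exact dvd_mul_right q _
  · rw [hc, hH, ← Nat.card_congr (pslImageEquiv ψ).toEquiv]
    exact hpsl

omit hF [Finite F] in
/-- In `PGL₂` of three elements the squares of elements of order dividing four commute. -/
lemma pgl_three_sq {L : Type*} [Field L] [Finite L] (h3 : Nat.card L = 3) {a b : PGL2 L} (ha : a ^ 4 = 1)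
    (hb : b ^ 4 = 1) : a ^ 2 * b ^ 2 = b ^ 2 * a ^ 2 := by
  classical
  haveI : Finite (OnePoint L) := inferInstanceAs (Finite (Option L))
  have hc : Nat.card (OnePoint L) = 4 := by
    rw [show Nat.card (OnePoint L) = Nat.card (Option L) from rfl, Finite.card_option, h3]
  obtain ⟨e⟩ : Nonempty (OnePoint L ≃ Fin 4) := ⟨Finite.equivFinOfCardEq hc⟩
  let φ : PGL2 L →* Equiv.Perm (Fin 4) :=
    e.permCongrHom.toMonoidHom.comp (MulAction.toPermHom (PGL2 L) (OnePoint L))
  have hinj : Function.Injective φ := e.permCongrHom.injective.comp fun x y h => by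
    have h' : ∀ z : OnePoint L, x • z = y • z := fun z => congrArg (fun π : Equiv.Perm (OnePoint L) => π z) h
    exact eq_of_eq3 (h' _) (h' _) (h' _)
  refine hinj ?_
  rw [map_mul, map_mul, map_pow, map_pow]
  exact s4_sq (φ a) (φ b) (by rw [← map_pow, ha, map_one]) (by rw [← map_pow, hb, map_one])

/-- Two non-commuting elements of large order without fixed points generate a group of order divisible by `q`. -/
theorem dvd_card_of_two {p a : ℕ} [Fact p.Prime] [CharP F p] (hq : q = p ^ a) (H : Subgroup (PGL2 (fixF hF)))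
    {A B : PGL2 (fixF hF)} (hA : A ∈ H) (hB : B ∈ H) (hne : A * B ≠ B * A) (hfix : ∀ x : OnePoint (fixF hF), A • x ≠ x)
    (hoA : 3 ≤ orderOf A) (hoB : 3 ≤ orderOf B)
    (hexc : p = 2 ∨ 6 ≤ orderOf A ∨ (p = 3 ∧ orderOf A = 4) ∨
      (orderOf A = 4 ∧ orderOf B = 4 ∧ A ^ 2 * B ^ 2 ≠ B ^ 2 * A ^ 2))
    (hsub : ∀ q0 m : ℕ, 2 ≤ m → q0 ^ m = q → 3 ≤ q0 → q0 + 1 < orderOf A ∨
      (q0 = 3 ∧ orderOf A = 4 ∧ orderOf B = 4 ∧ A ^ 2 * B ^ 2 ≠ B ^ 2 * A ^ 2)) : q ∣ Nat.card H := by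
  haveI : CharP (fixF hF) p := ((fixF hF).subtype.charP_iff Subtype.val_injective p).2 inferInstance
  have oA : orderOf (⟨A, hA⟩ : H) = orderOf A := (Subgroup.orderOf_coe _).symm
  have oB : orderOf (⟨B, hB⟩ : H) = orderOf B := (Subgroup.orderOf_coe _).symm
  have hA5 : ∀ j, 0 < j → j < orderOf A → (⟨A, hA⟩ : H) ^ j ≠ 1 := fun j h0 hj h => by
    have := Nat.le_of_dvd h0 (orderOf_dvd_of_pow_eq_one h)
    omega
  rcases pgl_classification p (algebraMap (fixF hF) (AlgebraicClosure (fixF hF))) H with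
    ⟨-, x, hx⟩ | ⟨-, hc⟩ | ⟨n, -, -, -, ⟨d⟩⟩ | ⟨h5, -, ⟨d⟩⟩ | ⟨h5, -, ⟨d⟩⟩ | ⟨hp2, -, -, ⟨d⟩⟩ | ⟨f, m, hf, hm, hFm, ψ, h, hH⟩
  · exact absurd (hx A hA) (hfix x)
  · refine absurd ?_ hne
    letI := hc.commGroup
    exact congrArg Subtype.val (mul_comm (⟨A, hA⟩ : H) ⟨B, hB⟩)
  · refine absurd ?_ hne
    have rot : ∀ x : H, 3 ≤ orderOf x → ∃ i, d x = DihedralGroup.r i := fun x hx => by
      rcases hdx : d x with i | i
      · exact ⟨i, rfl⟩
      · have := orderOf_injective d.toMonoidHom d.injective x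
        rw [MulEquiv.coe_toMonoidHom, hdx, DihedralGroup.orderOf_sr] at this
        omega
    obtain ⟨i, hi⟩ := rot ⟨A, hA⟩ (by rw [oA]; exact hoA)
    obtain ⟨j, hj⟩ := rot ⟨B, hB⟩ (by rw [oB]; exact hoB)
    have : (⟨A, hA⟩ : H) * ⟨B, hB⟩ = ⟨B, hB⟩ * ⟨A, hA⟩ := d.injective (by
      rw [map_mul, map_mul, hi, hj, DihedralGroup.r_mul_r, DihedralGroup.r_mul_r, add_comm])
    exact congrArg Subtype.val this
  · exfalso
    rcases CfsgLib.Linear.PSLTwo.a4_order (d ⟨A, hA⟩) with h | h <;>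
      rw [← map_pow, MulEquiv.map_eq_one_iff] at h
    · exact hA5 _ (by norm_num) (by omega) h
    · have h3 := orderOf_dvd_of_pow_eq_one h
      rw [oA] at h3
      have := Nat.le_of_dvd (by norm_num) h3
      rcases hexc with h2 | h6 | ⟨h2, -⟩ | ⟨h4, -⟩ <;> omega
  · exfalso
    rcases hexc with h2 | h6 | ⟨h2, -⟩ | ⟨h4, h4', hsq⟩
    · omega
    · rcases CfsgLib.Linear.PSLTwo.s4_order (d ⟨A, hA⟩) with h | h <;>
        rw [← map_pow, MulEquiv.map_eq_one_iff] at h <;> exact hA5 _ (by norm_num) (by omega) h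
    · omega
    · have e1 : (⟨A, hA⟩ : H) ^ 4 = 1 := by rw [← h4, ← oA, pow_orderOf_eq_one]
      have e2 : (⟨B, hB⟩ : H) ^ 4 = 1 := by rw [← h4', ← oB, pow_orderOf_eq_one]
      have := s4_sq (d ⟨A, hA⟩) (d ⟨B, hB⟩) (by rw [← map_pow, e1, map_one]) (by rw [← map_pow, e2, map_one])
      rw [← map_pow, ← map_pow, ← map_mul, ← map_mul] at this
      exact hsq (congrArg Subtype.val (d.injective this))
  · exfalso
    rcases CfsgLib.Linear.PSLTwo.a5_order (d ⟨A, hA⟩) with h | h | h <;> rw [← map_pow, MulEquiv.map_eq_one_iff] at h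
    · exact hA5 _ (by norm_num) (by omega) h
    · have h3 := orderOf_dvd_of_pow_eq_one h
      rw [oA] at h3
      have := Nat.le_of_dvd (by norm_num) h3
      rcases hexc with h2 | h6 | ⟨-, h4⟩ | ⟨h4, -⟩ <;> omega
    · have h3 := orderOf_dvd_of_pow_eq_one h
      rw [oA] at h3
      have := Nat.le_of_dvd (by norm_num) h3
      rcases hexc with h2 | h6 | ⟨-, h4⟩ | ⟨h4, -⟩
      · omega
      · omega
      · rw [h4] at h3; norm_num at h3
      · rw [h4] at h3; norm_num at h3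
  have hk : (p ^ f) ^ m = q := by rw [← hFm, card_fixF hF]
  rcases hm.eq_or_lt with rfl | hm2
  · exact card_dvd_pgl_image hF hq ψ h hf (by rwa [pow_one] at hk) hH
  exfalso
  have hgal : Nat.card (GaloisField p f) = p ^ f := GaloisField.card p f (by omega)
  have hmem : ∀ x : PGL2 (fixF hF), x ∈ H → ∃ y : PGL2 (GaloisField p f),
      Matrix.ProjGenLinGroup.map (n := Fin 2) ψ y = h * x * h⁻¹ := fun x hx => by
    have h1 : h * x * h⁻¹ ∈ conjH h H := mem_conjH hx
    rcases hH with hH | ⟨-, hH⟩ <;> rw [hH] at h1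
    · exact h1
    · obtain ⟨y, hy⟩ := h1
      exact ⟨_, hy⟩
  obtain ⟨y, hy⟩ := hmem A hA
  have hoy : orderOf y = orderOf A := by
    rw [← orderOf_injective _ (mapHom_injective ψ) y, hy]
    exact orderOf_injective (MulAut.conj h).toMonoidHom (MulAut.conj h).injective A
  have hle := CfsgLib.Linear.PSLTwo.orderOf_pgl_le y
  rw [hoy, hgal] at hle
  rcases le_or_gt 3 (p ^ f) with h3 | h3
  · rcases hsub (p ^ f) m hm2 hk h3 with h | ⟨h33, h4, h4', hsq⟩
    · omega
    obtain ⟨z, hz⟩ := hmem B hB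
    have hoz : orderOf z = orderOf B := by
      rw [← orderOf_injective _ (mapHom_injective ψ) z, hz]
      exact orderOf_injective (MulAut.conj h).toMonoidHom (MulAut.conj h).injective B
    have e := congrArg (Matrix.ProjGenLinGroup.map (n := Fin 2) ψ) (pgl_three_sq (hgal.trans h33)
      (by rw [← h4, ← hoy, pow_orderOf_eq_one]) (by rw [← h4', ← hoz, pow_orderOf_eq_one]) : y ^ 2 * z ^ 2 = _)
    simp only [map_mul, map_pow, hy, hz, conj_pow] at e
    refine hsq (mul_left_cancel (a := h) (mul_right_cancel (b := h⁻¹) ?_))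
    simpa [mul_assoc] using e
  · -- the subfield has two elements
    have hp2 : p ^ f = 2 := by
      have := Nat.one_lt_pow (by omega : f ≠ 0) (Fact.out : p.Prime).one_lt
      omega
    obtain ⟨z, hz⟩ := hmem B hB
    have hoz : orderOf z = orderOf B := by
      rw [← orderOf_injective _ (mapHom_injective ψ) z, hz]
      exact orderOf_injective (MulAut.conj h).toMonoidHom (MulAut.conj h).injective B
    have hcard : Nat.card (PGL2 (GaloisField p f)) = 6 := by
      rw [CfsgLib.Linear.PSLTwo.card_pgl, hgal, hp2]; norm_num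
    haveI := CfsgLib.Dickson.Torus.finite_pgl (GaloisField p f)
    have hy3 : orderOf y = 3 := by omega
    have hidx : (Subgroup.zpowers y).index = 2 := by
      have := (Subgroup.zpowers y).card_mul_index
      rw [Nat.card_zpowers, hy3, hcard] at this
      omega
    have hz3 : orderOf z = 3 := by
      have h1 := CfsgLib.Linear.PSLTwo.orderOf_pgl_le z
      rw [hgal, hp2] at h1
      omega
    have hzy : z ∈ Subgroup.zpowers y := by
      have h2 := Subgroup.mul_self_mem_of_index_two hidx z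
      have e : z = (z * z) * (z * z) := by
        have h3 : z ^ 3 = 1 := hz3 ▸ pow_orderOf_eq_one z
        calc z = z ^ 3 * z := by rw [h3, one_mul]
          _ = _ := by simp only [pow_succ, pow_zero, one_mul, mul_assoc]
      rw [e]
      exact mul_mem h2 h2
    obtain ⟨i, rfl⟩ := hzy
    apply hne
    have hc : Commute (h * A * h⁻¹) (h * B * h⁻¹) := by
      rw [← hy, ← hz]
      exact ((Commute.refl y).zpow_right i).map _
    have := congrArg (fun x => h⁻¹ * x * h) hc.eq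
    simpa [mul_assoc] using this

/-- `g` is a scalar on the plane orthogonal to `w`. -/
def ScalarOn (q : ℕ) (w : Fin 3 → F) (g : GL (Fin 3) F) : Prop :=
  ∃ c : F, ∀ y, Cfsg.hermForm 3 F q y w = 0 → (g : Matrix (Fin 3) (Fin 3) F) *ᵥ y = c • y

lemma Frame.rho_eq_one_of_scalar {e f w : Fin 3 → F} (hB : Frame q e f w) {δ : F} (hδ0 : δ ≠ 0)
    (hδ : frobEquiv hF δ = -δ) {g : lineStab q w} (h : ScalarOn q w (g : GL (Fin 3) F)) :
    hB.rho hF hδ0 hδ g = 1 := by
  have hf := isUnitaryForm hF (n := 3)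
  obtain ⟨c, hc⟩ := h
  refine (mapHom_injective (fixF hF).subtype) ?_
  rw [hB.map_rho hF hδ0 hδ, map_one, Matrix.ProjGenLinGroup.mk_eq_one,
    Matrix.GeneralLinearGroup.center_eq_range_scalar]
  have hc0 : c ≠ 0 := fun h0 => by
    have h1 := hc e (hB.ew hF)
    rw [h0, zero_smul] at h1
    apply hB.e_ne hF
    calc e = (((g : GL (Fin 3) F)⁻¹ : GL (Fin 3) F) : Matrix (Fin 3) (Fin 3) F) *ᵥ
          (((g : GL (Fin 3) F) : Matrix (Fin 3) (Fin 3) F) *ᵥ e) := by
            rw [Matrix.mulVec_mulVec, ← Units.val_mul, inv_mul_cancel, Units.val_one, Matrix.one_mulVec]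
      _ = 0 := by rw [h1, Matrix.mulVec_zero]
  refine ⟨Units.mk0 c hc0, Units.ext ?_⟩
  ext i j
  rw [hB.chordHom_val hF hδ0]
  fin_cases i <;> fin_cases j <;>
    simp [Frame.chordMat, hc e (hB.ew hF), hc f (hB.fw hF), hf.smul_left, hB.ee, hB.ff, hB.ef, hB.fe hF,
      Matrix.GeneralLinearGroup.coe_scalar]

/-- Two elements fixing an anisotropic point, non-commuting on its chord and of large order there, the first
without isotropic fixed points, give a full centre. -/
theorem full_of_two {p a : ℕ} [Fact p.Prime] [CharP F p] (hq : q = p ^ a) (hMI : M ≤ suGL 3 F q)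
    {w : Fin 3 → F} (hw : hh w w ≠ 0) {x y : GL (Fin 3) F} (hxM : x ∈ M) (hyM : y ∈ M)
    (hxw : (x : Matrix (Fin 3) (Fin 3) F) *ᵥ w ∈ F ∙ w) (hyw : (y : Matrix (Fin 3) (Fin 3) F) *ᵥ w ∈ F ∙ w)
    (hne : ¬ ScalarOn q w ((y * x)⁻¹ * (x * y)))
    (hnofix : ∀ v, v ≠ 0 → hh v v = 0 → hh v w = 0 → (x : Matrix (Fin 3) (Fin 3) F) *ᵥ v ∉ F ∙ v)
    {N : ℕ} (hN : ∀ j, 0 < j → j < N → ¬ ScalarOn q w (x ^ j)) (hN3 : 3 ≤ N)
    (hy3 : ∀ j, 0 < j → j < 3 → ¬ ScalarOn q w (y ^ j))
    (hexc : p = 2 ∨ 6 ≤ N ∨ (p = 3 ∧ N = 4 ∧ ScalarOn q w (x ^ 4)) ∨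
      (N = 4 ∧ ScalarOn q w (x ^ 4) ∧ ScalarOn q w (y ^ 4) ∧
        ¬ ScalarOn q w ((y ^ 2 * x ^ 2)⁻¹ * (x ^ 2 * y ^ 2))))
    (hsub : ∀ q0 m : ℕ, 2 ≤ m → q0 ^ m = q → 3 ≤ q0 → q0 + 1 < N ∨
      (q0 = 3 ∧ N = 4 ∧ ScalarOn q w (x ^ 4) ∧ ScalarOn q w (y ^ 4) ∧
        ¬ ScalarOn q w ((y ^ 2 * x ^ 2)⁻¹ * (x ^ 2 * y ^ 2)))) : ∃ v, v ≠ 0 ∧ Full q M v := by
  have hf := isUnitaryForm hF (n := 3)
  obtain ⟨δ, hδ0, hδ⟩ := Unit.exists_skew hf.ne_refl hf.involutive
  obtain ⟨e₀, f₀, hB⟩ := exists_frame_perp hF hw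
  set ρ := hB.rho hF hδ0 hδ
  let X : lineStab q w := ⟨x, (mem_lineStab hF).2 ⟨hxw, hMI hxM⟩⟩
  let Y : lineStab q w := ⟨y, (mem_lineStab hF).2 ⟨hyw, hMI hyM⟩⟩
  have hne' : ρ X * ρ Y ≠ ρ Y * ρ X := fun h => hne (by
    have h1 : ρ ((Y * X)⁻¹ * (X * Y)) = 1 := by rw [map_mul, map_inv, map_mul, map_mul, h, inv_mul_cancel]
    exact hB.scalar_of_rho hF hδ0 hδ h1)
  have hord : ∀ (g : lineStab q w) (K : ℕ), (∀ j, 0 < j → j < K → ¬ ScalarOn q w ((g : GL (Fin 3) F) ^ j)) →
      K ≤ orderOf (ρ g) := by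
    intro g K hK
    haveI := CfsgLib.Dickson.Torus.finite_pgl (fixF hF)
    by_contra hlt
    refine hK _ (orderOf_pos (ρ g)) (by omega) ?_
    have h1 : ρ (g ^ orderOf (ρ g)) = 1 := by rw [map_pow, pow_orderOf_eq_one]
    exact hB.scalar_of_rho hF hδ0 hδ h1
  have hoX := hord X N hN
  have hdvd : q ∣ Nat.card ((M.subgroupOf (lineStab q w)).map ρ) := by
    refine dvd_card_of_two hF hq _ (A := ρ X) (B := ρ Y) ⟨X, hxM, rfl⟩ ⟨Y, hyM, rfl⟩ hne' (fun z hz => ?_)
      (by omega) (hord Y 3 hy3) ?_ (fun q0 m hm hqm h3 => ?_)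
    · obtain ⟨v, hv0, hvv, hvw, hv⟩ := hB.exists_iso_of_fix hF hδ0 hδ z
      exact hnofix v hv0 hvv hvw (hv X hz)
    · have h4' : ∀ g : lineStab q w, ScalarOn q w (((g : GL (Fin 3) F)) ^ 4) → orderOf (ρ g) ∣ 4 := fun g hg => by
        refine orderOf_dvd_of_pow_eq_one ?_
        rw [← map_pow]
        exact hB.rho_eq_one_of_scalar hF hδ0 hδ (g := g ^ 4) hg
      rcases hexc with h | h | ⟨h1, h2, h4⟩ | ⟨h2, hx4, hy4, hsq⟩
      · exact Or.inl h
      · exact Or.inr (Or.inl (by omega))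
      · have := Nat.le_of_dvd (by norm_num) (h4' X h4)
        exact Or.inr (Or.inr (Or.inl ⟨h1, by omega⟩))
      · have e1 := Nat.le_of_dvd (by norm_num) (h4' X hx4)
        have e2 := h4' Y hy4
        have e3 := hord Y 3 hy3
        have e4 : orderOf (ρ Y) = 4 := by
          have := Nat.le_of_dvd (by norm_num) e2
          interval_cases orderOf (ρ Y) <;> omega
        refine Or.inr (Or.inr (Or.inr ⟨by omega, e4, fun h => hsq ?_⟩))
        have h1 : ρ ((Y ^ 2 * X ^ 2)⁻¹ * (X ^ 2 * Y ^ 2)) = 1 := by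
          rw [map_mul, map_inv, map_mul, map_mul, map_pow, map_pow, h, inv_mul_cancel]
        exact hB.scalar_of_rho hF hδ0 hδ h1
    · refine (hsub q0 m hm hqm h3).imp (fun h => lt_of_lt_of_le h hoX) ?_
      rintro ⟨h33, h2, hx4, hy4, hsq⟩
      have h4' : ∀ g : lineStab q w, ScalarOn q w (((g : GL (Fin 3) F)) ^ 4) → orderOf (ρ g) ∣ 4 := fun g hg => by
        refine orderOf_dvd_of_pow_eq_one ?_
        rw [← map_pow]
        exact hB.rho_eq_one_of_scalar hF hδ0 hδ (g := g ^ 4) hg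
      have e1 := Nat.le_of_dvd (by norm_num) (h4' X hx4)
      have e2 := h4' Y hy4
      have e3 := hord Y 3 hy3
      refine ⟨h33, by omega, ?_, fun h => hsq ?_⟩
      · have := Nat.le_of_dvd (by norm_num) e2
        interval_cases orderOf (ρ Y) <;> omega
      · have h1 : ρ ((Y ^ 2 * X ^ 2)⁻¹ * (X ^ 2 * Y ^ 2)) = 1 := by
          rw [map_mul, map_inv, map_mul, map_mul, map_pow, map_pow, h, inv_mul_cancel]
        exact hB.scalar_of_rho hF hδ0 hδ h1
  set L := M ⊓ lineStab q w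
  have hdvd' : q ∣ Nat.card L := by
    refine hdvd.trans ((Subgroup.card_map_dvd _ _).trans (dvd_of_eq ?_))
    exact Nat.card_congr
      { toFun := fun g => ⟨((g : lineStab q w) : GL (Fin 3) F), g.2, (g : lineStab q w).2⟩
        invFun := fun g => ⟨⟨(g : GL (Fin 3) F), g.2.2⟩, g.2.1⟩
        left_inv := fun g => rfl
        right_inv := fun g => rfl }
  let Q : Sylow p L := default
  refine full_of_pgroup hF (p := p) hw (Q := (Q : Subgroup L).map L.subtype) ?_ ?_ (Q.2.map _) ?_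
  · rintro _ ⟨g, -, rfl⟩
    exact g.2.1
  · rintro _ ⟨g, -, rfl⟩
    exact g.2.2
  · rw [Subgroup.card_map_of_injective Subtype.val_injective, Q.card_eq_multiplicity]
    refine Nat.le_of_dvd (pow_pos (Fact.out : p.Prime).pos _) ?_
    rw [hq] at hdvd' ⊢
    exact Nat.pow_dvd_pow p ((Nat.Prime.pow_dvd_iff_le_factorization Fact.out Nat.card_pos.ne').1 hdvd')

end CfsgLib.Geo.SU3
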