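/-
Two homologies of a unitary plane with skew centres produce a full centre.
-/
import Cfsg.Agent.Geo.SUThree.Line

set_option autoImplicit false
set_option linter.unusedSectionVars false

namespace CfsgLib.Geo.SU3

open Matrix Cfsg Cfsg.Geo CfsgLib.Geo CfsgLib.Geo.UTv

variable {q : ℕ} {F : Type*} [Field F] [Finite F] (hF : Nat.card F = q ^ 2)

local notation "hh" => Cfsg.hermForm 3 F q

omit [Finite F] in
/-- The homology with centre the unit vector `u`: `t⁻²` on `u`, `t` on its orthogonal. -/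
def IsHom (q : ℕ) (g : GL (Fin 3) F) (u : Fin 3 → F) (t : F) : Prop :=
  ∀ z : Fin 3 → F, (g : Matrix (Fin 3) (Fin 3) F) *ᵥ z =
    t • z + ((t ^ 2)⁻¹ - t) • (Cfsg.hermForm 3 F q z u • u)

include hF

lemma herm_three (x y : Fin 3 → F) :
    hh x y = x 0 * frobEquiv hF (y 0) + x 1 * frobEquiv hF (y 1) + x 2 * frobEquiv hF (y 2) := by
  simp only [frobEquiv_apply]
  show Cfsg.hermForm 3 F q x y = _
  simp [Cfsg.hermForm, Fin.sum_univ_three]

/-- A vector orthogonal to two given ones. -/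
lemma exists_pole (u v : Fin 3 → F) : ∃ w, hh w u = 0 ∧ hh w v = 0 ∧
    hh w w = hh u u * hh v v - hh u v * hh v u := by
  have hf := isUnitaryForm hF (n := 3)
  refine ⟨![frobEquiv hF (u 1 * v 2 - u 2 * v 1), frobEquiv hF (u 2 * v 0 - u 0 * v 2),
    frobEquiv hF (u 0 * v 1 - u 1 * v 0)], ?_, ?_, ?_⟩ <;>
    simp only [herm_three hF, Matrix.cons_val_zero, Matrix.cons_val_one, Matrix.cons_val, map_sub, map_mul,
      hf.involutive] <;> ring

namespace IsHom

variable {g : GL (Fin 3) F} {u : Fin 3 → F} {t : F}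

lemma pow (hu : hh u u = 1) (h : IsHom q g u t) (ht : t ≠ 0) : ∀ j : ℕ, IsHom q (g ^ j) u (t ^ j)
  | 0 => fun z => by simp
  | j + 1 => fun z => by
    have hf := isUnitaryForm hF (n := 3)
    rw [pow_succ, mul_mulVec, h z, Matrix.mulVec_add, Matrix.mulVec_smul, Matrix.mulVec_smul, Matrix.mulVec_smul,
      pow hu h ht j z, pow hu h ht j u, hu]
    simp only [smul_add, smul_smul, one_mul, mul_one]
    rw [show (t ^ (j + 1)) ^ 2 = (t ^ j) ^ 2 * t ^ 2 by ring]
    match_scalars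
    · ring
    · field_simp
      ring

lemma apply_self (hu : hh u u = 1) (h : IsHom q g u t) :
    (g : Matrix (Fin 3) (Fin 3) F) *ᵥ u = (t ^ 2)⁻¹ • u := by
  rw [h, hu, one_smul, sub_smul]
  abel

lemma apply_perp (h : IsHom q g u t) {z : Fin 3 → F} (hz : hh z u = 0) :
    (g : Matrix (Fin 3) (Fin 3) F) *ᵥ z = t • z := by
  rw [h, hz, zero_smul, smul_zero, add_zero]

end IsHom

section pair

variable {u v : Fin 3 → F} (hu : Cfsg.hermForm 3 F q u u = 1) (hv : Cfsg.hermForm 3 F q v v = 1)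
include hu hv

lemma indep_of_norm (hr : hh v u * hh u v ≠ 1) {α β : F} (h : α • u + β • v = 0) : α = 0 ∧ β = 0 := by
  have hf := isUnitaryForm hF (n := 3)
  have h1 := congrArg (fun z => hh z u) h
  have h2 := congrArg (fun z => hh z v) h
  simp only [hf.add_left, hf.smul_left, zero_left hF] at h1 h2
  rw [hu] at h1
  rw [hv] at h2
  have hβ : β * (1 - hh v u * hh u v) = 0 := by linear_combination h2 - hh u v * h1
  have hβ0 : β = 0 := (mul_eq_zero.1 hβ).resolve_right (sub_ne_zero.2 (Ne.symm hr))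
  exact ⟨by rw [hβ0] at h1; linear_combination h1, hβ0⟩

/-- When the commutator of two homologies is scalar on their plane. -/
lemma hom_commute {w : Fin 3 → F} (huw : hh u w = 0) (hvw : hh v w = 0) (hr0 : hh v u ≠ 0)
    (hr : hh v u * hh u v ≠ 1) {x y : GL (Fin 3) F} {τ : F} (hτ : τ ≠ 0) (hτ3 : τ ^ 3 ≠ 1)
    (hx : IsHom q x u τ) (hy : IsHom q y v τ) (hs : ScalarOn q w ((y * x)⁻¹ * (x * y))) :
    τ ^ 6 = 1 ∧ ((τ ^ 2)⁻¹ - τ) * (hh v u * hh u v) = -τ := by
  have hf := isUnitaryForm hF (n := 3)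
  have hsr : hh u v ≠ 0 := fun h => hr0 (herm_swap0 hF h)
  obtain ⟨c, hc⟩ := hs
  have key : ∀ z, hh z w = 0 → ((x * y : GL (Fin 3) F) : Matrix (Fin 3) (Fin 3) F) *ᵥ z =
      c • (((y * x : GL (Fin 3) F) : Matrix (Fin 3) (Fin 3) F) *ᵥ z) := fun z hz => by
    have h1 := congrArg (fun m => ((y * x : GL (Fin 3) F) : Matrix (Fin 3) (Fin 3) F) *ᵥ m) (hc z hz)
    simp only [Matrix.mulVec_smul, mul_mulVec, mulVec_inv_mulVec] at h1
    rw [mul_mulVec, mul_mulVec]
    simpa only [_root_.mul_inv_rev, mul_mulVec, mulVec_inv_mulVec] using h1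
  set d := (τ ^ 2)⁻¹ - τ with hd
  have hd0 : d ≠ 0 := fun h => hτ3 (by
    rw [hd, sub_eq_zero, inv_eq_one_div, div_eq_iff (pow_ne_zero _ hτ)] at h
    linear_combination -h)
  set r := hh v u
  set s := hh u v
  have exy : ((x * y : GL (Fin 3) F) : Matrix (Fin 3) (Fin 3) F) *ᵥ u =
      ((τ * (τ ^ 2)⁻¹) + d * s * (d * r)) • u + (d * s * τ) • v := by
    rw [mul_mulVec, hy u, Matrix.mulVec_add, Matrix.mulVec_smul, Matrix.mulVec_smul, Matrix.mulVec_smul,
      hx.apply_self hF hu, hx v]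
    simp only [smul_add, smul_smul]
    module
  have eyx : ((y * x : GL (Fin 3) F) : Matrix (Fin 3) (Fin 3) F) *ᵥ u =
      ((τ ^ 2)⁻¹ * τ) • u + ((τ ^ 2)⁻¹ * (d * s)) • v := by
    rw [mul_mulVec, hx.apply_self hF hu, Matrix.mulVec_smul, hy u]
    simp only [smul_add, smul_smul]
    module
  have e2 := key u huw
  rw [exy, eyx, ← sub_eq_zero] at e2
  obtain ⟨a1, b1⟩ := indep_of_norm hF hu hv hr (α := τ * (τ ^ 2)⁻¹ + d * s * (d * r) - c * ((τ ^ 2)⁻¹ * τ))
    (β := d * s * τ - c * ((τ ^ 2)⁻¹ * (d * s))) (by rw [← e2]; module)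
  have hc1 : c = τ ^ 3 := by
    have h1 : d * s * (τ ^ 3 - c) = 0 := by
      linear_combination τ ^ 2 * b1 + (c * d * s) * (mul_inv_cancel₀ (pow_ne_zero 2 hτ))
    exact ((sub_eq_zero.1 ((mul_eq_zero.1 h1).resolve_left (mul_ne_zero hd0 hsr)))).symm
  have fxy : ((x * y : GL (Fin 3) F) : Matrix (Fin 3) (Fin 3) F) *ᵥ v =
      ((τ ^ 2)⁻¹ * (d * r)) • u + ((τ ^ 2)⁻¹ * τ) • v := by
    rw [mul_mulVec, hy.apply_self hF hv, Matrix.mulVec_smul, hx v]
    simp only [smul_add, smul_smul]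
    module
  have fyx : ((y * x : GL (Fin 3) F) : Matrix (Fin 3) (Fin 3) F) *ᵥ v =
      (d * r * τ) • u + ((τ * (τ ^ 2)⁻¹) + d * r * (d * s)) • v := by
    rw [mul_mulVec, hx v, Matrix.mulVec_add, Matrix.mulVec_smul, Matrix.mulVec_smul, Matrix.mulVec_smul,
      hy.apply_self hF hv, hy u]
    simp only [smul_add, smul_smul]
    module
  have f2 := key v hvw
  rw [fxy, fyx, ← sub_eq_zero] at f2
  obtain ⟨a2, -⟩ := indep_of_norm hF hu hv hr (α := (τ ^ 2)⁻¹ * (d * r) - c * (d * r * τ))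
    (β := (τ ^ 2)⁻¹ * τ - c * (τ * (τ ^ 2)⁻¹ + d * r * (d * s))) (by rw [← f2]; module)
  refine ⟨?_, ?_⟩
  · have h1 : d * r * (1 - τ ^ 6) = 0 := by
      rw [hc1] at a2
      linear_combination τ ^ 2 * a2 - (d * r) * (mul_inv_cancel₀ (pow_ne_zero 2 hτ))
    exact ((sub_eq_zero.1 ((mul_eq_zero.1 h1).resolve_left (mul_ne_zero hd0 hr0)))).symm
  · have h1 : d * (d * (r * s) + τ) = 0 := by
      rw [hc1] at a1
      have e : (τ ^ 3 - 1) * ((τ ^ 2)⁻¹ * τ) = -τ * d := by
        rw [hd]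
        field_simp
        ring
      linear_combination a1 + e
    linear_combination (mul_eq_zero.1 h1).resolve_left hd0

variable {M : Subgroup (GL (Fin 3) F)}

/-- Two homologies with a common eigenvalue and skew centres give a full centre. -/
theorem full_of_homologies {p a : ℕ} [Fact p.Prime] [CharP F p] (hq : q = p ^ a) (hMI : M ≤ suGL 3 F q)
    (hr0 : hh v u ≠ 0) (hr : hh v u * hh u v ≠ 1) {t : F} (ht : t ≠ 0) {x y : GL (Fin 3) F} (hxM : x ∈ M)
    (hyM : y ∈ M) (hx : IsHom q x u t) (hy : IsHom q y v t) (hN3 : 3 ≤ orderOf (t ^ 3))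
    (hexc : p = 2 ∨ 6 ≤ orderOf (t ^ 3) ∨ (p = 3 ∧ orderOf (t ^ 3) = 4) ∨
      (orderOf (t ^ 3) = 4 ∧ 2 * (hh v u * hh u v) ≠ 1))
    (hsub : ∀ q0 m : ℕ, 2 ≤ m → q0 ^ m = q → 3 ≤ q0 → q0 + 1 < orderOf (t ^ 3) ∨
      (q0 = 3 ∧ orderOf (t ^ 3) = 4 ∧ 2 * (hh v u * hh u v) ≠ 1)) :
    ∃ z, z ≠ 0 ∧ Full q M z := by
  have hf := isUnitaryForm hF (n := 3)
  obtain ⟨w, hwu, hwv, hww⟩ := exists_pole hF u v
  have hw : hh w w ≠ 0 := by
    rw [hww, hu, hv, one_mul, sub_ne_zero]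
    exact fun h => hr (by rw [mul_comm]; exact h.symm)
  have huw := herm_swap0 hF hwu
  have hvw := herm_swap0 hF hwv
  have hd : ∀ τ : F, τ ≠ 0 → τ ^ 3 ≠ 1 → (τ ^ 2)⁻¹ - τ ≠ 0 := fun τ hτ hτ3 h => hτ3 (by
    rw [sub_eq_zero, inv_eq_one_div, div_eq_iff (pow_ne_zero _ hτ)] at h
    linear_combination -h)
  have ht3 : t ^ 3 ≠ 1 := fun h => by rw [h, orderOf_one] at hN3; omega
  have hsu : hh u v ≠ 0 := fun h => hr0 (herm_swap0 hF h)
  have hpowne : ∀ (g : GL (Fin 3) F) (c e : Fin 3 → F), hh c c = 1 → hh e w = 0 → hh c w = 0 → hh e c ≠ 0 →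
      (∀ α β : F, α • c + β • e = 0 → α = 0 ∧ β = 0) → IsHom q g c t →
      ∀ j, ScalarOn q w (g ^ j) → (t ^ 3) ^ j = 1 := by
    intro g c e hc he hcw hec hind hg j hs
    obtain ⟨k, hk⟩ := hs
    have hgj := hg.pow hF hc ht j
    have h1 := hk c hcw
    have h2 := hk e he
    rw [hgj.apply_self hF hc] at h1
    rw [hgj e] at h2
    have hc0 : c ≠ 0 := fun h => by rw [h, zero_left hF] at hc; exact zero_ne_one hc
    have hk1 : ((t ^ j) ^ 2)⁻¹ = k := smul_left_injective F hc0 h1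
    obtain ⟨-, hb⟩ := hind ((((t ^ j) ^ 2)⁻¹ - t ^ j) * hh e c) (t ^ j - k) (by
      rw [← sub_eq_zero] at h2
      rw [← h2]
      module)
    rw [← hk1, sub_eq_zero, inv_eq_one_div, eq_div_iff (pow_ne_zero _ (pow_ne_zero _ ht))] at hb
    rw [← pow_mul]
    linear_combination hb
  have hindu : ∀ α β : F, α • u + β • v = 0 → α = 0 ∧ β = 0 := fun α β h => indep_of_norm hF hu hv hr h
  have hindv : ∀ α β : F, α • v + β • u = 0 → α = 0 ∧ β = 0 := fun α β h => by
    rw [add_comm] at h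
    exact (hindu β α h).symm
  have hfixw : ∀ (g : GL (Fin 3) F) (c : Fin 3 → F), hh w c = 0 → IsHom q g c t →
      (g : Matrix (Fin 3) (Fin 3) F) *ᵥ w ∈ F ∙ w := fun g c hc hg => by
    rw [hg.apply_perp hF hc]
    exact Submodule.smul_mem _ _ (Submodule.mem_span_singleton_self w)
  have hle : ∀ j, 0 < j → j < orderOf (t ^ 3) → (t ^ 3) ^ j ≠ 1 := fun j h0 hj h => by
    have := Nat.le_of_dvd h0 (orderOf_dvd_of_pow_eq_one h)
    omega
  have scalar_of_hom : ∀ (g : GL (Fin 3) F) (c : Fin 3 → F), hh c c = 1 → IsHom q g c t → (t ^ 3) ^ 4 = 1 →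
      ScalarOn q w (g ^ 4) := by
    intro g c hcc hg h4
    refine ⟨t ^ 4, fun z _ => ?_⟩
    have h0 : ((t ^ 4) ^ 2)⁻¹ - t ^ 4 = 0 := by
      rw [sub_eq_zero]
      refine inv_eq_of_mul_eq_one_right ?_
      linear_combination h4
    have hg2 : ∀ m, ((g ^ 4 : GL (Fin 3) F) : Matrix (Fin 3) (Fin 3) F) *ᵥ m = t ^ 4 • m + (((t ^ 4) ^ 2)⁻¹ - t ^ 4) • (hh m c • c) :=
      hg.pow hF hcc ht 4
    rw [hg2, h0, zero_smul, add_zero]
  have four : orderOf (t ^ 3) = 4 → 2 * (hh v u * hh u v) ≠ 1 → ScalarOn q w (x ^ 4) ∧ ScalarOn q w (y ^ 4) ∧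
      ¬ ScalarOn q w ((y ^ 2 * x ^ 2)⁻¹ * (x ^ 2 * y ^ 2)) := fun h2 h3 => by
    have h4 : (t ^ 3) ^ 4 = 1 := by rw [← h2]; exact pow_orderOf_eq_one _
    refine ⟨scalar_of_hom x u hu hx h4, scalar_of_hom y v hv hy h4, fun hs => h3 ?_⟩
    have h6 : (t ^ 2) ^ 3 = -1 := by
      have hz : ((t ^ 3) ^ 2 - 1) * ((t ^ 3) ^ 2 + 1) = 0 := by linear_combination h4
      rcases mul_eq_zero.1 hz with h | h
      · exact absurd (sub_eq_zero.1 h) (hle 2 two_pos (by omega))
      · linear_combination h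
    have h2ne : (2 : F) ≠ 0 := fun h0 => hle 2 two_pos (by omega) (by linear_combination h6 - h0)
    have hne : (t ^ 2) ^ 3 ≠ 1 := fun h => h2ne (by linear_combination h6 - h)
    obtain ⟨-, heq⟩ := hom_commute hF hu hv huw hvw hr0 hr (pow_ne_zero 2 ht) hne (hx.pow hF hu ht 2)
      (hy.pow hF hv ht 2) hs
    have hd2 : ((t ^ 2) ^ 2)⁻¹ = -(t ^ 2) := by
      refine inv_eq_of_mul_eq_one_right ?_
      linear_combination -h6
    rw [hd2] at heq
    refine mul_left_cancel₀ (pow_ne_zero 2 ht) ?_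
    linear_combination -heq
  refine full_of_two hF hq hMI hw hxM hyM (hfixw x u hwu hx) (hfixw y v hwv hy) (fun hs => ?_)
    (fun z hz0 hzz hzw hm => ?_) (N := orderOf (t ^ 3))
    (fun j h0 hj hs => hle j h0 hj (hpowne x u v hu hvw huw hr0 hindu hx j hs)) hN3
    (fun j h0 hj hs => hle j h0 (by omega) (hpowne y v u hv huw hvw hsu hindv hy j hs)) ?_
    (fun q0 m hm hqm h3 => (hsub q0 m hm hqm h3).imp id fun ⟨a1, a2, a3⟩ => ⟨a1, a2, four a2 a3⟩)
  · obtain ⟨h6, -⟩ := hom_commute hF hu hv huw hvw hr0 hr ht ht3 hx hy hs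
    exact hle 2 two_pos (by omega) (by rw [← pow_mul]; exact h6)
  · obtain ⟨l, hl⟩ := Submodule.mem_span_singleton.1 hm
    rw [hx z] at hl
    rcases eq_or_ne (hh z u) 0 with h0 | h0
    · have hz' : z = (hh z v / (1 - hh v u * hh u v)) • (v - hh v u • u) := by
        obtain ⟨e0, f0, hB⟩ := exists_frame_perp hF hw
        set z' := (hh z v / (1 - hh v u * hh u v)) • (v - hh v u • u)
        have hne : (1 : F) - hh v u * hh u v ≠ 0 := sub_ne_zero.2 (Ne.symm hr)
        have h1 : hh (z - z') u = 0 := by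
          rw [sub_eq_add_neg, ← neg_one_smul F z', hf.add_left, hf.smul_left]
          simp only [z', sub_eq_add_neg, hf.smul_left, hf.add_left, ← neg_one_smul F (hh v u • u), hu, h0]
          ring
        have h2 : hh (z - z') v = 0 := by
          rw [sub_eq_add_neg, ← neg_one_smul F z', hf.add_left, hf.smul_left]
          simp only [z', sub_eq_add_neg, hf.smul_left, hf.add_left, ← neg_one_smul F (hh v u • u), hv]
          linear_combination (-(hh z v)) * mul_inv_cancel₀ hne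
        have h3 : hh (z - z') w = 0 := by
          rw [sub_eq_add_neg, ← neg_one_smul F z', hf.add_left, hf.smul_left]
          simp only [z', sub_eq_add_neg, hf.smul_left, hf.add_left, ← neg_one_smul F (hh v u • u), hzw, huw, hvw]
          ring
        let R : (Fin 3 → F) →ₗ[F] (Fin 3 → F) := LinearMap.pi fun j => (Unit.linLeft hf).toLin (![u, v, w] j)
        have hR : ∀ y j, R y j = hh y (![u, v, w] j) := fun y j => rfl
        have hsurj : Function.Surjective R := fun s => by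
          let β := (s 1 - s 0 * hh u v) / (1 - hh v u * hh u v)
          refine ⟨(s 0 - β * hh v u) • u + β • v + (s 2 / hh w w) • w, funext fun j => ?_⟩
          rw [hR]
          fin_cases j <;> simp [hf.add_left, hf.smul_left, hu, hv, hwu, hwv, huw, hvw, hw, β] <;>
            linear_combination (s 1 - s 0 * hh u v) * mul_inv_cancel₀ hne
        refine sub_eq_zero.1 (LinearMap.injective_iff_surjective.2 hsurj ?_)
        rw [map_zero]
        funext j
        rw [hR]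
        fin_cases j
        · exact h1
        · exact h2
        · exact h3
      have hzv : hh z v ≠ 0 := fun h => hz0 (by rw [hz', h, zero_div, zero_smul])
      have h3 : hh z z = hh z v * frobEquiv hF (hh z v / (1 - hh v u * hh u v)) := by
        refine (congrArg (hh z) hz').trans ?_
        simp only [sub_eq_add_neg, ← neg_one_smul F (hh v u • u), Unit.add_right hf, Unit.smul_right hf, h0]
        ring
      rw [hzz] at h3
      rcases mul_eq_zero.1 h3.symm with h | h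
      · exact hzv h
      · rw [map_eq_zero_iff _ (frobEquiv hF).injective, div_eq_zero_iff] at h
        exact h.elim hzv (fun h' => hr (sub_eq_zero.1 h').symm)
    · have e : (((t ^ 2)⁻¹ - t) * hh z u) • u = (l - t) • z := by
        rw [mul_smul, sub_smul l t, hl, add_sub_cancel_left]
      have h4 := congrArg (fun m => hh m m) e
      simp only [hf.smul_left, Unit.smul_right hf, hu, hzz, mul_one, mul_zero] at h4
      rcases mul_eq_zero.1 h4 with h | h
      · exact mul_ne_zero (hd t ht ht3) h0 h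
      · rw [map_eq_zero_iff _ (frobEquiv hF).injective] at h
        exact mul_ne_zero (hd t ht ht3) h0 h
  · rcases hexc with h | h | ⟨h1, h2⟩ | ⟨h2, h3⟩
    · exact Or.inl h
    · exact Or.inr (Or.inl h)
    · exact Or.inr (Or.inr (Or.inl ⟨h1, h2, scalar_of_hom x u hu hx (by rw [← h2]; exact pow_orderOf_eq_one _)⟩))
    · exact Or.inr (Or.inr (Or.inr ⟨h2, four h2 h3⟩))

end pair

end CfsgLib.Geo.SU3
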