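/-
The elements of a subgroup fixing an isotropic vector, and the transvections among them.
-/
import Cfsg.Agent.Geo.SUThree.Homology

set_option autoImplicit false
set_option linter.unusedSectionVars false

namespace CfsgLib.Geo.SU3

open Matrix Cfsg Cfsg.Geo CfsgLib.Geo CfsgLib.Geo.UTv

variable {q : ℕ} {F : Type*} [Field F] [Finite F] (hF : Nat.card F = q ^ 2) {M : Subgroup (GL (Fin 3) F)}

local notation "hh" => Cfsg.hermForm 3 F q

omit [Finite F] in
/-- The elements of `M` fixing a vector. -/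
def fixVec (M : Subgroup (GL (Fin 3) F)) (e : Fin 3 → F) : Subgroup (GL (Fin 3) F) where
  carrier := {g | g ∈ M ∧ (g : Matrix (Fin 3) (Fin 3) F) *ᵥ e = e}
  one_mem' := ⟨M.one_mem, by simp⟩
  mul_mem' {a b} ha hb := ⟨M.mul_mem ha.1 hb.1, by rw [mul_mulVec, hb.2, ha.2]⟩
  inv_mem' {a} ha := ⟨M.inv_mem ha.1, by
    conv_lhs => rw [← ha.2]
    rw [Matrix.mulVec_mulVec, ← Units.val_mul, inv_mul_cancel, Units.val_one, Matrix.one_mulVec]⟩

omit [Finite F] in
lemma mem_fixVec {e : Fin 3 → F} {g : GL (Fin 3) F} :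
    g ∈ fixVec M e ↔ g ∈ M ∧ (g : Matrix (Fin 3) (Fin 3) F) *ᵥ e = e := Iff.rfl

include hF

/-- The parameters of the transvections of `M` with centre `v`. -/
def tvParam (M : Subgroup (GL (Fin 3) F)) (v : Fin 3 → F) : AddSubgroup F where
  carrier := {c | c + c ^ q = 0 ∧ HasTv M v (uax q v c)}
  zero_mem' := ⟨by rw [zero_pow (by have := CfsgLib.Forms.two_le_q hF; omega), add_zero],
    by rw [uax, zero_smul]; exact hasTv_zero_right M v⟩
  add_mem' {a b} ha hb := ⟨by rw [CfsgLib.Forms.add_pow_q hF]; linear_combination ha.1 + hb.1,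
    by rw [uax, add_smul]; exact ha.2.add_axis hb.2⟩
  neg_mem' {a} ha := ⟨by rw [← frobEquiv_apply hF, map_neg, frobEquiv_apply]; linear_combination -ha.1,
    by rw [uax, neg_smul]; exact ha.2.neg_axis⟩

lemma tv_mem_iff {v : Fin 3 → F} (hv : hh v v = 0) {c : F} (hc : c + c ^ q = 0) :
    tvec v (uax q v c) (uax_dot_self hv c) ∈ M ↔ c ∈ tvParam hF M v :=
  ⟨fun h => ⟨hc, _, h⟩, fun h => h.2.2⟩

lemma full_of_param {v : Fin 3 → F} (hv : hh v v = 0) (h : ∀ c : F, c + c ^ q = 0 → c ∈ tvParam hF M v) :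
    Full q M v := ⟨hv, fun c hc => (h c hc).2⟩

lemma card_param_le (v : Fin 3 → F) : Nat.card (tvParam hF M v) ≤ q := by
  refine le_trans ?_ (le_of_eq (MinIdxPSU.card_fix_skew hF).2)
  exact Nat.card_le_card_of_injective (fun c : tvParam hF M v => (⟨c.1, c.2.1⟩ : MinIdxPSU.Skew hF))
    fun a b h => Subtype.ext (congrArg (fun x : MinIdxPSU.Skew hF => (x : F)) h)

lemma full_of_card_param {v : Fin 3 → F} (hv : hh v v = 0) (h : q ≤ Nat.card (tvParam hF M v)) : Full q M v := by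
  refine full_of_param hF hv fun c hc => ?_
  let ι : tvParam hF M v → MinIdxPSU.Skew hF := fun c => ⟨c.1, c.2.1⟩
  have hi : Function.Injective ι := fun a b h => Subtype.ext (congrArg (fun x : MinIdxPSU.Skew hF => (x : F)) h)
  have hs := ((Nat.bijective_iff_injective_and_card ι).2 ⟨hi, le_antisymm (Nat.card_le_card_of_injective _ hi)
    (by rw [(MinIdxPSU.card_fix_skew hF).2]; exact h)⟩).2
  obtain ⟨a, ha⟩ := hs ⟨c, hc⟩
  rw [show c = (a : F) from (congrArg (fun x : MinIdxPSU.Skew hF => (x : F)) ha).symm]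
  exact a.2

namespace Frame

variable {e f w : Fin 3 → F} (hB : Frame q e f w) (hMI : M ≤ suGL 3 F q)
include hB

/-- The determinant of an element fixing the isotropic line of `e`. -/
lemma det_of_stab {g : GL (Fin 3) F} {lam mu nu c a b : F}
    (he : (g : Matrix (Fin 3) (Fin 3) F) *ᵥ e = lam • e)
    (hw : (g : Matrix (Fin 3) (Fin 3) F) *ᵥ w = c • e + mu • w)
    (hf : (g : Matrix (Fin 3) (Fin 3) F) *ᵥ f = a • e + nu • f + b • w) :
    (g : Matrix (Fin 3) (Fin 3) F).det = lam * mu * nu := by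
  let P : Matrix (Fin 3) (Fin 3) F := Matrix.of fun r j => ![e, w, f] j r
  let T : Matrix (Fin 3) (Fin 3) F := !![lam, c, a; 0, mu, b; 0, 0, nu]
  have hPj : ∀ x, P *ᵥ x = x 0 • e + x 1 • w + x 2 • f := fun x => by
    funext r
    simp [P, Matrix.mulVec, dotProduct, Fin.sum_univ_three, Pi.add_apply, Pi.smul_apply, mul_comm]
  have hP : P.det ≠ 0 := fun h0 => by
    obtain ⟨x, hx0, hx⟩ := Matrix.exists_mulVec_eq_zero_iff.2 h0
    rw [hPj] at hx
    obtain ⟨h1, h2, h3⟩ := hB.inj hF (a := x 0) (b := x 2) (c := x 1) (a' := 0) (b' := 0) (c' := 0)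
      (by rw [zero_smul, zero_smul, zero_smul, add_zero, add_zero, ← hx]; abel)
    exact hx0 (funext fun j => by fin_cases j <;> simp [h1, h2, h3])
  have hgP : (g : Matrix (Fin 3) (Fin 3) F) * P = P * T := by
    refine Matrix.toLin'.injective (LinearMap.ext fun x => ?_)
    simp only [Matrix.toLin'_apply, ← Matrix.mulVec_mulVec, hPj, Matrix.mulVec_add, Matrix.mulVec_smul, he, hw, hf]
    simp [T, Matrix.mulVec, dotProduct, Fin.sum_univ_three]
    module
  have h := congrArg Matrix.det hgP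
  rw [Matrix.det_mul, Matrix.det_mul, mul_comm P.det] at h
  rw [mul_right_cancel₀ hP h, Matrix.det_fin_three]
  simp [T]

/-- Normal form of an element fixing the line of `e`. -/
lemma stab_form {g : GL (Fin 3) F} (hg : g ∈ suGL 3 F q) {lam : F}
    (he : (g : Matrix (Fin 3) (Fin 3) F) *ᵥ e = lam • e) :
    lam ≠ 0 ∧ hh ((g : Matrix (Fin 3) (Fin 3) F) *ᵥ f) e * frobEquiv hF lam = 1 ∧
    ∃ c : F, (g : Matrix (Fin 3) (Fin 3) F) *ᵥ w = c • e + (frobEquiv hF lam / lam) • w := by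
  have hf' := isUnitaryForm hF (n := 3)
  have hlam : lam ≠ 0 := fun h => by
    have := herm_mulVec hg e f
    rw [he, h, zero_smul, zero_left hF, hB.ef] at this
    exact zero_ne_one this
  have hσ : frobEquiv hF lam ≠ 0 := (map_ne_zero _).2 hlam
  have hfe : hh ((g : Matrix (Fin 3) (Fin 3) F) *ᵥ f) e * frobEquiv hF lam = 1 := by
    have := herm_mulVec hg f e
    rw [he, Unit.smul_right hf', hB.fe hF] at this
    rw [mul_comm]
    exact this
  refine ⟨hlam, hfe, hh ((g : Matrix (Fin 3) (Fin 3) F) *ᵥ w) f, ?_⟩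
  set t := (g : Matrix (Fin 3) (Fin 3) F) *ᵥ w with ht
  set u := (g : Matrix (Fin 3) (Fin 3) F) *ᵥ f with hu
  have hte : hh t e = 0 := by
    have := herm_mulVec hg w e
    rw [he, Unit.smul_right hf', hB.we] at this
    exact (mul_eq_zero.1 this).resolve_left hσ
  have h1 := hB.decomp hF t
  rw [hte, zero_smul, add_zero] at h1
  have hdet := hB.det_of_stab hF he h1 (hB.decomp hF u)
  rw [mem_specialLinear.1 hg.2] at hdet
  have hmu : hh t w / hh w w = frobEquiv hF lam / lam := by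
    rw [eq_div_iff hlam]
    linear_combination (-(hh t w / hh w w * lam)) * hfe - frobEquiv hF lam * hdet
  rwa [hmu] at h1

include hMI

lemma fixVec_w {g : GL (Fin 3) F} (hg : g ∈ fixVec M e) :
    hh ((g : Matrix (Fin 3) (Fin 3) F) *ᵥ f) e = 1 ∧
    (g : Matrix (Fin 3) (Fin 3) F) *ᵥ w =
      (-(hh w w * frobEquiv hF (hh ((g : Matrix (Fin 3) (Fin 3) F) *ᵥ f) w / hh w w))) • e + w := by
  have hf' := isUnitaryForm hF (n := 3)
  obtain ⟨-, h1, c, hc⟩ := hB.stab_form hF (hMI hg.1) (lam := 1) (by rw [one_smul]; exact hg.2)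
  rw [map_one, mul_one] at h1
  rw [map_one, div_one, one_smul] at hc
  refine ⟨h1, ?_⟩
  set z := hh ((g : Matrix (Fin 3) (Fin 3) F) *ᵥ f) w / hh w w
  have e1 : (g : Matrix (Fin 3) (Fin 3) F) *ᵥ f =
      hh ((g : Matrix (Fin 3) (Fin 3) F) *ᵥ f) f • e + (1 : F) • f + z • w := by
    rw [← h1]
    exact hB.decomp hF _
  have h2 := herm_mulVec (hMI hg.1) w f
  rw [hB.wf, hc, e1, show c • e + w = c • e + (0 : F) • f + (1 : F) • w by rw [zero_smul, add_zero, one_smul],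
    hB.herm_coord hF, map_one, mul_one, zero_mul, add_zero, one_mul] at h2
  rw [hc]
  congr 2
  linear_combination h2

lemma fixVec_ext {g h : GL (Fin 3) F} (hg : g ∈ fixVec M e) (hh' : h ∈ fixVec M e)
    (hf : (g : Matrix (Fin 3) (Fin 3) F) *ᵥ f = (h : Matrix (Fin 3) (Fin 3) F) *ᵥ f) : g = h := by
  refine gl_ext_mulVec fun y => ?_
  rw [hB.decomp hF y]
  simp only [Matrix.mulVec_add, Matrix.mulVec_smul, hg.2, hh'.2, (hB.fixVec_w hF hMI hg).2,
    (hB.fixVec_w hF hMI hh').2, hf]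

/-- The coordinate of an element fixing `e` modulo transvections. -/
noncomputable def zHom : fixVec M e →* Multiplicative F :=
  MonoidHom.mk' (fun g => Multiplicative.ofAdd
    (hh (((g : GL (Fin 3) F) : Matrix (Fin 3) (Fin 3) F) *ᵥ f) w / hh w w)) fun g h => by
    have hf' := isUnitaryForm hF (n := 3)
    show Multiplicative.ofAdd _ = Multiplicative.ofAdd (_ + _)
    congr 1
    obtain ⟨hg1, hg2⟩ := hB.fixVec_w hF hMI g.2
    obtain ⟨hh1, -⟩ := hB.fixVec_w hF hMI h.2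
    rw [Subgroup.coe_mul, mul_mulVec]
    have e1 : ((h : GL (Fin 3) F) : Matrix (Fin 3) (Fin 3) F) *ᵥ f =
        hh (((h : GL (Fin 3) F) : Matrix (Fin 3) (Fin 3) F) *ᵥ f) f • e + f +
          (hh (((h : GL (Fin 3) F) : Matrix (Fin 3) (Fin 3) F) *ᵥ f) w / hh w w) • w := by
      conv_lhs => rw [hB.decomp hF (((h : GL (Fin 3) F) : Matrix (Fin 3) (Fin 3) F) *ᵥ f), hh1, one_smul]
    conv_lhs => rw [e1]
    simp only [Matrix.mulVec_add, Matrix.mulVec_smul, g.2.2, hg2, hh1, one_smul, smul_add, smul_smul, hf'.add_left,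
      hf'.smul_left, hB.ew hF, mul_zero, zero_add]
    simp only [toAdd_ofAdd]
    field_simp [hB.ww]

lemma zHom_apply (g : fixVec M e) : hB.zHom hF hMI g = Multiplicative.ofAdd
    (hh (((g : GL (Fin 3) F) : Matrix (Fin 3) (Fin 3) F) *ᵥ f) w / hh w w) := rfl

/-- The image in the chord directions. -/
noncomputable def dirs : AddSubgroup F := Subgroup.toAddSubgroup' (hB.zHom hF hMI).range

lemma mem_dirs {z : F} : z ∈ hB.dirs hF hMI ↔ ∃ g ∈ fixVec M e,
    hh ((g : Matrix (Fin 3) (Fin 3) F) *ᵥ f) w / hh w w = z := by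
  constructor
  · rintro ⟨g, hg⟩
    exact ⟨g, g.2, congrArg Multiplicative.toAdd hg⟩
  · rintro ⟨g, hg, rfl⟩
    exact ⟨⟨g, hg⟩, rfl⟩

lemma kernel_mulVec {g : fixVec M e} (hg : hB.zHom hF hMI g = 1) :
    hh (((g : GL (Fin 3) F) : Matrix (Fin 3) (Fin 3) F) *ᵥ f) f ∈ tvParam hF M e ∧
    ∀ y, ((g : GL (Fin 3) F) : Matrix (Fin 3) (Fin 3) F) *ᵥ y =
      y + (hh (((g : GL (Fin 3) F) : Matrix (Fin 3) (Fin 3) F) *ᵥ f) f * hh y e) • e := by
  have hf' := isUnitaryForm hF (n := 3)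
  obtain ⟨h1, h2⟩ := hB.fixVec_w hF hMI g.2
  have h0 : hh (((g : GL (Fin 3) F) : Matrix (Fin 3) (Fin 3) F) *ᵥ f) w / hh w w = 0 :=
    congrArg Multiplicative.toAdd hg
  rw [h0, map_zero, mul_zero, neg_zero, zero_smul, zero_add] at h2
  set s := hh (((g : GL (Fin 3) F) : Matrix (Fin 3) (Fin 3) F) *ᵥ f) f with hs
  have hgf : ((g : GL (Fin 3) F) : Matrix (Fin 3) (Fin 3) F) *ᵥ f = s • e + f := by
    conv_lhs => rw [hB.decomp hF (((g : GL (Fin 3) F) : Matrix (Fin 3) (Fin 3) F) *ᵥ f), h0, h1, zero_smul,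
      add_zero, one_smul]
  have hy : ∀ y, ((g : GL (Fin 3) F) : Matrix (Fin 3) (Fin 3) F) *ᵥ y = y + (s * hh y e) • e := fun y => by
    conv_lhs => rw [hB.decomp hF y, Matrix.mulVec_add, Matrix.mulVec_add, Matrix.mulVec_smul, Matrix.mulVec_smul,
      Matrix.mulVec_smul, g.2.2, h2, hgf]
    conv_rhs => arg 1; rw [hB.decomp hF y]
    module
  have hskew : s + s ^ q = 0 := by
    have := herm_mulVec (hMI g.2.1) f f
    rw [hgf, hB.ff] at this
    simp only [hf'.add_left, Unit.add_right hf', hf'.smul_left, Unit.smul_right hf', hB.ee, hB.ef, hB.fe hF,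
      hB.ff] at this
    rw [← frobEquiv_apply hF]
    linear_combination this
  refine ⟨⟨hskew, uax_dot_self hB.ee s, ?_⟩, hy⟩
  have e1 : ((g : GL (Fin 3) F)) = tvec e (uax q e s) (uax_dot_self hB.ee s) :=
    gl_ext_mulVec fun y => by rw [hy, utv_mulVec hF hB.ee]
  exact e1 ▸ g.2.1

lemma card_kernel : Nat.card (hB.zHom hF hMI).ker = Nat.card (tvParam hF M e) := by
  refine Nat.card_congr (Equiv.ofBijective
    (fun g => ⟨hh (((g.1 : GL (Fin 3) F) : Matrix (Fin 3) (Fin 3) F) *ᵥ f) f, (hB.kernel_mulVec hF hMI g.2).1⟩)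
    ⟨fun a b h => ?_, fun c => ?_⟩)
  · refine Subtype.ext (Subtype.ext (gl_ext_mulVec fun y => ?_))
    have h' := congrArg Subtype.val h
    simp only at h'
    rw [(hB.kernel_mulVec hF hMI a.2).2, (hB.kernel_mulVec hF hMI b.2).2, h']
  · obtain ⟨hc, hd, hm⟩ := c.2
    have hfix : tvec e (uax q e c) hd ∈ fixVec M e := ⟨hm, by
      rw [tvec_mulVec, uax_dot_self hB.ee, zero_smul, add_zero]⟩
    have hgf : (tvec e (uax q e c) hd : Matrix (Fin 3) (Fin 3) F) *ᵥ f = (c : F) • e + f := by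
      rw [utv_mulVec hF hB.ee, hB.fe hF, mul_one, add_comm]
    refine ⟨⟨⟨_, hfix⟩, ?_⟩, Subtype.ext ?_⟩
    · rw [MonoidHom.mem_ker, hB.zHom_apply hF hMI]
      show Multiplicative.ofAdd (hh ((tvec e (uax q e c) hd : Matrix (Fin 3) (Fin 3) F) *ᵥ f) w / hh w w) = 1
      rw [hgf, (isUnitaryForm hF).add_left, (isUnitaryForm hF).smul_left, hB.ew hF, hB.fw hF, mul_zero, add_zero,
        zero_div]
      rfl
    · show hh ((tvec e (uax q e c) hd : Matrix (Fin 3) (Fin 3) F) *ᵥ f) f = c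
      rw [hgf, (isUnitaryForm hF).add_left, (isUnitaryForm hF).smul_left, hB.ef, hB.ff, mul_one, add_zero]

/-- The order of the group fixing `e`. -/
theorem card_fixVec : Nat.card (fixVec M e) = Nat.card (tvParam hF M e) * Nat.card (hB.dirs hF hMI) := by
  rw [← hB.card_kernel hF hMI, ← Subgroup.card_mul_index (hB.zHom hF hMI).ker, Subgroup.index_ker]
  rfl

lemma fixVec_eq_one {g : GL (Fin 3) F} (hg : g ∈ fixVec M e) {c : F}
    (hf : (g : Matrix (Fin 3) (Fin 3) F) *ᵥ f = c • f) : g = 1 := by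
  have h1 := (hB.fixVec_w hF hMI hg).1
  rw [hf, (isUnitaryForm hF).smul_left, hB.fe hF, mul_one] at h1
  exact hB.fixVec_ext hF hMI hg (fixVec M e).one_mem (by rw [hf, h1, one_smul, Units.val_one, Matrix.one_mulVec])

/-- Commutators of elements fixing `e` are transvections. -/
lemma comm_mem_param {z₁ z₂ : F} (h₁ : z₁ ∈ hB.dirs hF hMI) (h₂ : z₂ ∈ hB.dirs hF hMI) :
    hh w w * (z₁ * frobEquiv hF z₂ - z₂ * frobEquiv hF z₁) ∈ tvParam hF M e := by
  have hf' := isUnitaryForm hF (n := 3)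
  obtain ⟨g, hg, rfl⟩ := (hB.mem_dirs hF hMI).1 h₁
  obtain ⟨k, hk, rfl⟩ := (hB.mem_dirs hF hMI).1 h₂
  let A : fixVec M e := ⟨g, hg⟩
  let B : fixVec M e := ⟨k, hk⟩
  let C : fixVec M e := A * B * (B * A)⁻¹
  have hC : hB.zHom hF hMI C = 1 := by simp only [C, map_mul, map_inv]; rw [mul_comm (hB.zHom hF hMI B)]; exact mul_inv_cancel _
  obtain ⟨hmem, hCy⟩ := hB.kernel_mulVec hF hMI hC
  set s := hh (((C : GL (Fin 3) F) : Matrix (Fin 3) (Fin 3) F) *ᵥ f) f
  obtain ⟨hg1, hg2⟩ := hB.fixVec_w hF hMI hg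
  obtain ⟨hk1, hk2⟩ := hB.fixVec_w hF hMI hk
  set z₁ := hh ((g : Matrix (Fin 3) (Fin 3) F) *ᵥ f) w / hh w w
  set z₂ := hh ((k : Matrix (Fin 3) (Fin 3) F) *ᵥ f) w / hh w w
  set x₁ := hh ((g : Matrix (Fin 3) (Fin 3) F) *ᵥ f) f
  set x₂ := hh ((k : Matrix (Fin 3) (Fin 3) F) *ᵥ f) f
  have hgf : (g : Matrix (Fin 3) (Fin 3) F) *ᵥ f = x₁ • e + f + z₁ • w := by
    conv_lhs => rw [hB.decomp hF ((g : Matrix (Fin 3) (Fin 3) F) *ᵥ f), hg1, one_smul]
  have hkf : (k : Matrix (Fin 3) (Fin 3) F) *ᵥ f = x₂ • e + f + z₂ • w := by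
    conv_lhs => rw [hB.decomp hF ((k : Matrix (Fin 3) (Fin 3) F) *ᵥ f), hk1, one_smul]
  have h1 : (g : Matrix (Fin 3) (Fin 3) F) *ᵥ ((k : Matrix (Fin 3) (Fin 3) F) *ᵥ f) =
      (x₁ + x₂ + z₂ * -(hh w w * frobEquiv hF z₁)) • e + f + (z₁ + z₂) • w := by
    rw [hkf, Matrix.mulVec_add, Matrix.mulVec_add, Matrix.mulVec_smul, Matrix.mulVec_smul, hg.2, hg2, hgf]
    module
  have h2 : (k : Matrix (Fin 3) (Fin 3) F) *ᵥ ((g : Matrix (Fin 3) (Fin 3) F) *ᵥ f) =
      (x₁ + x₂ + z₁ * -(hh w w * frobEquiv hF z₂)) • e + f + (z₁ + z₂) • w := by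
    rw [hgf, Matrix.mulVec_add, Matrix.mulVec_add, Matrix.mulVec_smul, Matrix.mulVec_smul, hk.2, hk2, hkf]
    module
  have h3 : ((C : GL (Fin 3) F) : Matrix (Fin 3) (Fin 3) F) *ᵥ
      ((k : Matrix (Fin 3) (Fin 3) F) *ᵥ ((g : Matrix (Fin 3) (Fin 3) F) *ᵥ f)) =
      (g : Matrix (Fin 3) (Fin 3) F) *ᵥ ((k : Matrix (Fin 3) (Fin 3) F) *ᵥ f) := by
    simp only [← mul_mulVec]
    congr 2
    simp [C, A, B, mul_assoc]
  rw [hCy, h2, h1] at h3
  have h4 := congrArg (fun y => hh y f) h3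
  simp only [hf'.add_left, hf'.smul_left, hB.ef, hB.ff, hB.wf, hB.ee, hB.fe hF, hB.we] at h4
  have : s = hh w w * (z₁ * frobEquiv hF z₂ - z₂ * frobEquiv hF z₁) := by linear_combination h4
  exact this ▸ hmem

/-- Few transvections mean few elements fixing `e`. -/
theorem card_dirs_le : Nat.card (hB.dirs hF hMI) ≤ max (Nat.card (tvParam hF M e) ^ 2) q := by
  have hf' := isUnitaryForm hF (n := 3)
  by_cases hline : ∃ b ∈ hB.dirs hF hMI, ∃ c ∈ hB.dirs hF hMI, b * frobEquiv hF c - c * frobEquiv hF b ≠ 0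
  · obtain ⟨b, hb, c, hc, hbc⟩ := hline
    refine le_max_of_le_left ?_
    rw [pow_two, ← Nat.card_prod]
    refine Nat.card_le_card_of_injective (fun z => (⟨_, hB.comm_mem_param hF hMI z.2 hb⟩,
      ⟨_, hB.comm_mem_param hF hMI z.2 hc⟩)) fun x y h => ?_
    simp only [Prod.mk.injEq, Subtype.mk.injEq] at h
    have h1 := mul_left_cancel₀ hB.ww h.1
    have h2 := mul_left_cancel₀ hB.ww h.2
    refine Subtype.ext (sub_eq_zero.1 ?_)
    have : ((x : F) - y) * (b * frobEquiv hF c - c * frobEquiv hF b) = 0 := by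
      linear_combination b * h2 - c * h1
    exact (mul_eq_zero.1 this).resolve_right hbc
  · push Not at hline
    refine le_max_of_le_right ?_
    by_cases h0 : ∀ z ∈ hB.dirs hF hMI, z = 0
    · haveI : Subsingleton (hB.dirs hF hMI) := ⟨fun x y => Subtype.ext ((h0 _ x.2).trans (h0 _ y.2).symm)⟩
      have := CfsgLib.Forms.two_le_q hF
      have h1 := Finite.card_le_one_iff_subsingleton.2 (inferInstance : Subsingleton (hB.dirs hF hMI))
      omega
    push Not at h0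
    obtain ⟨b, hb, hb0⟩ := h0
    refine le_trans (Nat.card_le_card_of_injective (fun z : hB.dirs hF hMI => (⟨(z : F) / b, ?_⟩ : fixF hF))
      fun x y h => ?_) (le_of_eq (card_fixF hF))
    · rw [mem_fixF hF, map_div₀, div_eq_div_iff ((map_ne_zero _).2 hb0) hb0]
      linear_combination -(hline _ z.2 _ hb)
    · exact Subtype.ext ((div_left_inj' hb0).1 (congrArg Subtype.val h))

/-- In even characteristic the squares are transvections. -/
lemma sq_mem_param (h2 : (2 : F) = 0) {z : F} (hz : z ∈ hB.dirs hF hMI) :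
    hh w w * (z * frobEquiv hF z) ∈ tvParam hF M e := by
  obtain ⟨g, hg, rfl⟩ := (hB.mem_dirs hF hMI).1 hz
  obtain ⟨hg1, hg2⟩ := hB.fixVec_w hF hMI hg
  set z := hh ((g : Matrix (Fin 3) (Fin 3) F) *ᵥ f) w / hh w w
  set x := hh ((g : Matrix (Fin 3) (Fin 3) F) *ᵥ f) f
  let A : fixVec M e := ⟨g, hg⟩
  have hneg : ∀ a : F, -a = a := fun a => by linear_combination (-a) * h2
  have hC : hB.zHom hF hMI (A * A) = 1 := by
    rw [map_mul, hB.zHom_apply hF hMI]
    show Multiplicative.ofAdd (z + z) = 1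
    rw [show z + z = 0 by linear_combination z * h2]; rfl
  obtain ⟨hmem, -⟩ := hB.kernel_mulVec hF hMI hC
  have hgf : (g : Matrix (Fin 3) (Fin 3) F) *ᵥ f = x • e + f + z • w := by
    conv_lhs => rw [hB.decomp hF ((g : Matrix (Fin 3) (Fin 3) F) *ᵥ f), hg1, one_smul]
  have h1 : (g : Matrix (Fin 3) (Fin 3) F) *ᵥ ((g : Matrix (Fin 3) (Fin 3) F) *ᵥ f) =
      (x + x + z * -(hh w w * frobEquiv hF z)) • e + f + (z + z) • w := by
    rw [hgf, Matrix.mulVec_add, Matrix.mulVec_add, Matrix.mulVec_smul, Matrix.mulVec_smul, hg.2, hg2, hgf]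
    module
  have e1 : hh ((((A * A : fixVec M e) : GL (Fin 3) F) : Matrix (Fin 3) (Fin 3) F) *ᵥ f) f =
      hh w w * (z * frobEquiv hF z) := by
    rw [Subgroup.coe_mul, mul_mulVec, h1]
    simp only [(isUnitaryForm hF).add_left, (isUnitaryForm hF).smul_left, hB.ef, hB.ff, hB.wf]
    linear_combination (x - z * (hh w w * frobEquiv hF z)) * h2
  exact e1 ▸ hmem

end Frame

end CfsgLib.Geo.SU3
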