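/-
Gram matrices of the standard Hermitian form in dimension three and the groups of order twenty-seven preserving it.
-/
import Cfsg.Agent.Geo.SUThree.Stab
import Cfsg.Agent.Elusive.Heisenberg

set_option autoImplicit false
set_option linter.unusedSectionVars false

namespace CfsgLib.Geo.SU3

open Matrix Cfsg Cfsg.Geo CfsgLib.Geo CfsgLib.Geo.UTv CfsgLib.Elusive

variable {q : ℕ} {F : Type*} [Field F] [Finite F] (hF : Nat.card F = q ^ 2)

local notation "hh" => Cfsg.hermForm 3 F q
local notation "σ" => frobEquiv hF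
local notation "M3" => Matrix (Fin 3) (Fin 3) F

/-- The Gram matrix of the columns of a matrix. -/
noncomputable def gram (A : M3) : M3 := Aᵀ * A.map σ

include hF

lemma gram_mul (A B : M3) : gram hF (A * B) = Bᵀ * gram hF A * B.map σ := by
  simp only [gram, Matrix.transpose_mul, Matrix.map_mul, mul_assoc]

lemma gram_one : gram hF (1 : M3) = 1 := by
  rw [gram, Matrix.transpose_one, one_mul, Matrix.map_one _ (map_zero _) (map_one _)]

lemma gram_smul (c : F) (A : M3) : gram hF (c • A) = (c * σ c) • gram hF A := by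
  rw [gram, gram, Matrix.transpose_smul, show (c • A).map σ = σ c • A.map σ by
    ext i j; simp, smul_mul_assoc, mul_smul_comm, smul_smul]

lemma herm_mulVec_gram (A : M3) (x y : Fin 3 → F) :
    hh (A *ᵥ x) (A *ᵥ y) = x ⬝ᵥ (gram hF A *ᵥ (σ ∘ y)) := by
  have h1 : ∀ u v : Fin 3 → F, hh u v = u ⬝ᵥ (σ ∘ v) := fun u v =>
    Finset.sum_congr rfl fun i _ => by rw [Function.comp_apply, frobEquiv_apply]
  have h2 : (σ ∘ (A *ᵥ y)) = A.map σ *ᵥ (σ ∘ y) :=
    funext fun i => RingHom.map_mulVec (σ).toRingHom A y i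
  rw [h1, h2, gram, ← Matrix.mulVec_mulVec, Matrix.dotProduct_mulVec x Aᵀ, Matrix.vecMul_transpose]

lemma gram_eq_smul_iff (A : M3) (c : F) :
    gram hF A = c • 1 ↔ ∀ x y, hh (A *ᵥ x) (A *ᵥ y) = c * hh x y := by
  have h1 : ∀ x y : Fin 3 → F, hh x y = x ⬝ᵥ (σ ∘ y) := fun u v =>
    Finset.sum_congr rfl fun i _ => by rw [Function.comp_apply, frobEquiv_apply]
  refine ⟨fun h x y => ?_, fun h => ?_⟩
  · rw [herm_mulVec_gram hF, h, Matrix.smul_mulVec, Matrix.one_mulVec, dotProduct_smul, smul_eq_mul, h1]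
  · refine Matrix.ext fun i j => ?_
    have e := h (Pi.single i 1) (Pi.single j 1)
    have hs : (σ ∘ (Pi.single j 1 : Fin 3 → F)) = Pi.single j 1 := funext fun k => by
      rcases eq_or_ne k j with rfl | hk
      · simp
      · simp [hk]
    rw [herm_mulVec_gram hF, h1, hs, Matrix.mulVec_single_one] at e
    simpa [Matrix.one_apply, Pi.single_apply, eq_comm] using e

lemma mem_GU_gram {g : GL (Fin 3) F} : g ∈ Cfsg.GU 3 F q ↔ gram hF (g : M3) = 1 := by
  have h := gram_eq_smul_iff hF (g : M3) 1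
  simp only [one_smul, one_mul] at h
  rw [mem_GU, h]

lemma gram_mul_left {u : GL (Fin 3) F} (hu : u ∈ Cfsg.GU 3 F q) (A : M3) :
    gram hF ((u : M3) * A) = gram hF A := by
  rw [gram_mul, (mem_GU_gram hF).1 hu, mul_one, gram]

lemma det_gram (A : M3) : (gram hF A).det = A.det * σ A.det := by
  rw [gram, Matrix.det_mul, Matrix.det_transpose, show A.map σ = (σ : F →+* F).mapMatrix A from rfl,
    ← RingHom.map_det]
  rfl

lemma gram_apply_swap (A : M3) (i j : Fin 3) : σ (gram hF A i j) = gram hF A j i := by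
  have hinv := (isUnitaryForm hF (n := 3)).involutive
  simp only [gram, Matrix.mul_apply, Matrix.transpose_apply, Matrix.map_apply, map_sum, map_mul, hinv]
  exact Finset.sum_congr rfl fun k _ => mul_comm _ _

lemma frob_root {μ : F} (hμ : μ ^ 3 = 1) (hmod : q % 3 = 2) : σ μ = μ ^ 2 := by
  rw [frobEquiv_apply, ← Nat.div_add_mod q 3, hmod, pow_add, pow_mul, hμ, one_pow, one_mul]

/-- A fixed cube root of unity is one. -/
lemma eq_one_of_fixed_cube {c : F} (hc : σ c = c) (h3 : c ^ 3 = 1) (hmod : q % 3 = 2) : c = 1 := by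
  rw [frob_root hF h3 hmod] at hc
  have h0 : c ≠ 0 := fun h => by simp [h] at h3
  exact mul_right_cancel₀ h0 (by rw [one_mul, ← pow_two, hc])

/-- A frame adapted to the standard generators carries the form to a multiple of itself. -/
lemma gram_scalar {μ : F} (hμ : IsPrimitiveRoot μ 3) (hmod : q % 3 = 2) (g : GL (Fin 3) F)
    (ha : gram hF ((g : M3) * Matrix.diagonal ![1, μ, μ ^ 2]) = gram hF (g : M3))
    (hb : gram hF ((g : M3) * cycMat F) = gram hF (g : M3)) :
    ∃ c : F, c ≠ 0 ∧ σ c = c ∧ gram hF (g : M3) = c • 1 := by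
  set G := gram hF (g : M3) with hG
  have h3 := hμ.pow_eq_one
  have h1 : μ ≠ 1 := hμ.ne_one (by norm_num)
  have hσμ := frob_root hF h3 hmod
  have hσμ2 : σ (μ ^ 2) = μ := by rw [map_pow, hσμ, ← pow_mul, show 2 * 2 = 3 + 1 from rfl, pow_succ, h3, one_mul]
  rw [gram_mul, ← hG] at ha hb
  have a01 := congrFun (congrFun ha 0) 1
  have a02 := congrFun (congrFun ha 0) 2
  have a10 := congrFun (congrFun ha 1) 0
  have a12 := congrFun (congrFun ha 1) 2
  have a20 := congrFun (congrFun ha 2) 0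
  have a21 := congrFun (congrFun ha 2) 1
  have b00 := congrFun (congrFun hb 0) 0
  have b11 := congrFun (congrFun hb 1) 1
  simp [Matrix.mul_apply, Fin.sum_univ_three, Matrix.map_apply, hσμ, hσμ2] at a01 a02 a10 a12 a20 a21
  simp [Matrix.mul_apply, Fin.sum_univ_three, Matrix.map_apply, cycMat] at b00 b11
  have h2 : μ ^ 2 ≠ 1 := hμ.pow_ne_one_of_pos_of_lt (by norm_num) (by norm_num)
  have g01 : G 0 1 = 0 := by grind
  have g02 : G 0 2 = 0 := by grind
  have g10 : G 1 0 = 0 := by grind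
  have g12 : G 1 2 = 0 := by grind
  have g20 : G 2 0 = 0 := by grind
  have g21 : G 2 1 = 0 := by grind
  have hGs : G = G 0 0 • 1 := by
    ext i j
    fin_cases i <;> fin_cases j <;> simp [g01, g02, g10, g12, g20, g21] <;> grind
  refine ⟨G 0 0, fun h0 => ?_, gram_apply_swap hF _ 0 0, hGs⟩
  have hd : (g : M3).det ≠ 0 := ((Matrix.isUnit_iff_isUnit_det _).1 g.isUnit).ne_zero
  have e := det_gram hF (g : M3)
  rw [← hG, hGs, h0, zero_smul, Matrix.det_zero] at e
  exact mul_ne_zero hd ((map_ne_zero _).2 hd) e.symm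

/-- A similarity of odd cube order three is an isometry. -/
lemma mem_GU_of_cube {r : GL (Fin 3) F} (hr : r ∈ similarityGroup (Cfsg.hermForm 3 F q)) (h3 : r ^ 3 = 1)
    (hmod : q % 3 = 2) : r ∈ Cfsg.GU 3 F q := by
  obtain ⟨c, hc⟩ := hr
  have e := (gram_eq_smul_iff hF (r : M3) (c : F)).2 hc
  have hfix : σ (c : F) = c := by
    have := gram_apply_swap hF (r : M3) 0 0
    rwa [e, Matrix.smul_apply, Matrix.one_apply_eq, smul_eq_mul, mul_one] at this
  have h1 : ∀ x y, hh (((r ^ 3 : GL (Fin 3) F) : M3) *ᵥ x) (((r ^ 3 : GL (Fin 3) F) : M3) *ᵥ y) =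
      (c : F) ^ 3 * hh x y := by
    intro x y
    simp only [pow_succ, pow_zero, one_mul, mul_mulVec, hc]
    ring
  have h2 := (gram_eq_smul_iff hF _ _).2 h1
  rw [h3, Units.val_one, gram_one] at h2
  have hc3 : (c : F) ^ 3 = 1 := by simpa using (congrFun (congrFun h2 0) 0).symm
  rw [mem_GU_gram hF, e, eq_one_of_fixed_cube hF hfix hc3 hmod, one_smul]

end CfsgLib.Geo.SU3
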