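/-
The normaliser of a group of order twenty-seven is maximal in SU of dimension three over the square of a prime
congruent to two modulo three, at least eleven.
-/
import Cfsg.Agent.Geo.SUThree.Gram
import Cfsg.Agent.Geo.SLThree.Hessian.Main

set_option autoImplicit false
set_option linter.unusedSectionVars false

namespace CfsgLib.Geo.SU3

open Matrix Cfsg Cfsg.Geo CfsgLib.Geo CfsgLib.Geo.UTv CfsgLib.Elusive
open CfsgLib.Geo.SL3.Hessian (HasFrame Setup)

variable {q : ℕ} {F : Type*} [Field F] [Fintype F] (hF : Nat.card F = q ^ 2)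

local notation "hh" => Cfsg.hermForm 3 F q
local notation "σ" => frobEquiv hF
local notation "M3" => Matrix (Fin 3) (Fin 3) F

include hF

lemma charP_of_prime (hq : q.Prime) : CharP F q := by
  obtain ⟨r, hr⟩ := CharP.exists F
  obtain ⟨n, hr', hn⟩ := FiniteField.card F r
  rw [← Nat.card_eq_fintype_card, hF] at hn
  have h := hr'.dvd_of_dvd_pow (show r ∣ q ^ 2 from hn ▸ dvd_pow_self r n.pos.ne')
  rwa [← (Nat.prime_dvd_prime_iff_eq hr' hq).1 h]

/-- The fixed elements of the involution over a prime field are integers. -/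
lemma natCast_of_fixed (hq : q.Prime) {x : F} (hx : σ x = x) : ∃ n : ℕ, x = n := by
  haveI := charP_of_prime hF hq
  let f : Fin q → fixF hF := fun n => ⟨(n : ℕ), map_natCast (σ) _⟩
  have hinj : Function.Injective f := fun i j e => Fin.ext (by
    have := (CharP.natCast_eq_natCast F q).1 (congrArg Subtype.val e)
    rwa [Nat.ModEq, Nat.mod_eq_of_lt i.isLt, Nat.mod_eq_of_lt j.isLt] at this)
  obtain ⟨n, hn⟩ := (Nat.bijective_iff_injective_and_card f).2 ⟨hinj, by rw [card_fixF hF, Nat.card_fin]⟩ |>.2 ⟨x, hx⟩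
  exact ⟨n, (congrArg Subtype.val hn).symm⟩

/-- In a frame of a unitary regular unipotent element the slope of a commuting isometry is fixed. -/
lemma slope_fixed (hq : q.Prime) {x g Q : GL (Fin 3) F} (hx : x ∈ Cfsg.GU 3 F q) (hg : g ∈ Cfsg.GU 3 F q)
    {a b c : F} (hxQ : ((Q⁻¹ * x * Q : GL (Fin 3) F) : M3) = !![1, 0, 0; 1, 1, 0; 0, 1, 1])
    (hgQ : ((Q⁻¹ * g * Q : GL (Fin 3) F) : M3) = !![a, 0, 0; b, a, 0; c, b, a]) : ∃ n : ℕ, b = n * a := by
  set H := gram hF (Q : M3) with hH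
  have key : ∀ {y : GL (Fin 3) F} {Y : M3}, y ∈ Cfsg.GU 3 F q → ((Q⁻¹ * y * Q : GL (Fin 3) F) : M3) = Y →
      Yᵀ * H * Y.map σ = H := by
    intro y Y hy hY
    rw [hH, ← gram_mul, ← hY, ← Units.val_mul, show Q * (Q⁻¹ * y * Q) = y * Q by group, Units.val_mul,
      gram_mul_left hF hy]
  have eX := key hx hxQ
  have eA := key hg hgQ
  have x21 := congrFun (congrFun eX 2) 1
  have x11 := congrFun (congrFun eX 1) 1
  have x20 := congrFun (congrFun eX 2) 0
  have x12 := congrFun (congrFun eX 1) 2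
  have x02 := congrFun (congrFun eX 0) 2
  have x10 := congrFun (congrFun eX 1) 0
  have a10 := congrFun (congrFun eA 1) 0
  have a20 := congrFun (congrFun eA 2) 0
  simp [Matrix.mul_apply, Fin.sum_univ_three, Matrix.map_apply] at x21 x11 x20 x12 x02 x10
  simp [Matrix.mul_apply, Fin.sum_univ_three, Matrix.map_apply] at a10 a20
  have h22 : H 2 2 = 0 := by grind
  have h21 : H 2 1 = 0 := by grind
  have h12 : H 1 2 = 0 := by grind
  have h11 : H 1 1 = -H 2 0 := by grind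
  have h20 : H 2 0 ≠ 0 := fun h0 => by
    have hd : (Q : M3).det ≠ 0 := ((Matrix.isUnit_iff_isUnit_det _).1 Q.isUnit).ne_zero
    have e := det_gram hF (Q : M3)
    rw [← hH, Matrix.det_fin_three, h22, h21, h0] at e
    exact mul_ne_zero hd ((map_ne_zero _).2 hd) (e.symm.trans (by ring))
  have hnorm : a * σ a = 1 := mul_right_cancel₀ h20 (by rw [one_mul]; grind)
  have hslope : σ a * b = a * σ b := mul_right_cancel₀ h20 (by grind)
  obtain ⟨n, hn⟩ := natCast_of_fixed hF hq (x := σ a * b) (by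
    rw [map_mul, (isUnitaryForm hF (n := 3)).involutive, hslope])
  exact ⟨n, by rw [← hn]; linear_combination -b * hnorm⟩

/-- An overgroup of the standard frame with a transvection is everything. -/
lemma suGL_le_of_tv (hq : q.Prime) (hq3 : 3 ≤ q) {M : Subgroup (GL (Fin 3) F)} (hMI : M ≤ suGL 3 F q) {μ : F}
    (hfr : HasFrame μ M) {w φ : Fin 3 → F} (hw : w ≠ 0) (h : HasTv M w φ) (hφ : φ ≠ 0) : suGL 3 F q ≤ M := by
  have hf := isUnitaryForm hF (n := 3)
  haveI := charP_of_prime hF hq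
  haveI : Fact q.Prime := ⟨hq⟩
  obtain ⟨hd, hm⟩ := h
  have hpres := fun x y => herm_mulVec (hMI hm) x y
  simp only [tvec_mulVec, hf.add_left, Unit.add_right hf, hf.smul_left, Unit.smul_right hf] at hpres
  have hww : hh w w = 0 := by
    obtain ⟨x, hx⟩ : ∃ x, φ ⬝ᵥ x ≠ 0 := by
      by_contra hcon
      push Not at hcon
      exact hφ (dotProduct_eq_zero φ hcon)
    have e := hpres x w
    rw [hd, map_zero] at e
    refine (mul_eq_zero.1 (?_ : φ ⬝ᵥ x * hh w w = 0)).resolve_left hx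
    linear_combination e
  obtain ⟨y, hy⟩ := (hf.nondegenerate w hw).2
  set c := -σ (φ ⬝ᵥ y) / hh w y with hc
  have hax : φ = uax q w c := by
    refine dotProduct_eq _ _ fun x => ?_
    rw [smul_dotProduct, axisOf_dot, smul_eq_mul, hc, div_mul_eq_mul_div, eq_div_iff hy]
    have e := hpres x y
    rw [hww] at e
    linear_combination e
  have hskew : c + c ^ q = 0 := by
    have hne : hh y w ≠ 0 := by rw [hf.herm]; exact (map_ne_zero _).2 hy
    have e := hpres y y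
    rw [hax, smul_dotProduct, axisOf_dot, smul_eq_mul, hww, map_mul, ← hf.herm w y] at e
    rw [← frobEquiv_apply hF c]
    refine (mul_eq_zero.1 (?_ : (c + σ c) * (hh y w * hh w y) = 0)).resolve_right (mul_ne_zero hne hy)
    linear_combination e
  have hmem : c ∈ tvParam hF M w := ⟨hskew, hax ▸ ⟨hd, hm⟩⟩
  have hc0 : c ≠ 0 := fun e => hφ (by rw [hax, e, uax, zero_smul])
  have hcard : q ≤ Nat.card (tvParam hF M w) := by
    have h1 : addOrderOf (⟨c, hmem⟩ : tvParam hF M w) = q := by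
      refine addOrderOf_eq_prime (Subtype.ext ?_) fun e => hc0 (congrArg Subtype.val e)
      rw [AddSubgroup.coe_nsmul, nsmul_eq_mul, CharP.cast_eq_zero, zero_mul]
      rfl
    have h2 := addOrderOf_dvd_natCard (⟨c, hmem⟩ : tvParam hF M w)
    rw [h1] at h2
    exact Nat.le_of_dvd Nat.card_pos h2
  refine suGL_le_of_full_of_irred hF hq3 hMI (full_of_card_param hF hww hcard) hw fun x hx => ?_
  by_contra hcon
  push Not at hcon
  rcases hfr.irred (F ∙ x) (fun g hg v hv => by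
    obtain ⟨r, rfl⟩ := Submodule.mem_span_singleton.1 hv
    rw [Matrix.mulVec_smul]
    exact Submodule.smul_mem _ _ (hcon g hg)) with h0 | h0
  · exact hx (Submodule.span_singleton_eq_bot.1 h0)
  · have := congrArg (fun W : Submodule F (Fin 3 → F) => Module.finrank F W) h0
    simp [finrank_span_singleton hx] at this

/-- A transvection shows that the normaliser is proper. -/
lemma not_suGL_le_normalizer (hq : q.Prime) (hq5 : 5 ≤ q) {R : Subgroup (GL (Fin 3) F)} (hcard : Nat.card R = 27)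
    {μ : F} (hμ : IsPrimitiveRoot μ 3) {P a b z : GL (Fin 3) F} (ha : a ∈ R) (hb : b ∈ R) (hz : z ∈ R)
    (hzm : (z : M3) = μ • 1) (hPa : ((P⁻¹ * a * P : GL (Fin 3) F) : M3) = Matrix.diagonal ![1, μ, μ ^ 2])
    (hPb : ((P⁻¹ * b * P : GL (Fin 3) F) : M3) = cycMat F) (hgen : R = Subgroup.closure {a, b}) :
    ¬ suGL 3 F q ≤ subgroupNormalizer R := by
  have hf := isUnitaryForm hF (n := 3)
  haveI := charP_of_prime hF hq
  haveI : Fact q.Prime := ⟨hq⟩
  intro hle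
  obtain ⟨e, x, hee, hex, -, -⟩ := Unit.exists_isotropic_perp hf (Fin.elim0 : Fin 0 → Fin 3 → F)
    (by rw [Fintype.card_fin]; norm_num)
  obtain ⟨d, hd0, hd⟩ := Unit.exists_skew hf.ne_refl hf.involutive
  have hd' : d + d ^ q = 0 := by rw [← frobEquiv_apply hF, hd, add_neg_cancel]
  have hN : ((tvec e (uax q e d) (uax_dot_self hee d) : M3) - 1) ^ 2 = 0 := by
    refine Matrix.ext_iff_mulVec.2 fun w => ?_
    rw [pow_two, ← Matrix.mulVec_mulVec, Matrix.sub_mulVec, Matrix.sub_mulVec, Matrix.one_mulVec,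
      Matrix.one_mulVec, utv_mulVec hF hee, utv_mulVec hF hee, Matrix.zero_mulVec, add_sub_cancel_left,
      add_sub_cancel_left, hf.smul_left, hee, mul_zero, mul_zero, zero_smul]
  have hyq : tvec e (uax q e d) (uax_dot_self hee d) ^ q = 1 := by
    refine Units.ext ?_
    rw [Units.val_pow_eq_pow_val, Units.val_one, ← sub_eq_zero, ← one_pow q,
      ← sub_pow_char_of_commute _ (Commute.one_right _)]
    exact pow_eq_zero_of_le (by omega) hN
  obtain ⟨r, hr⟩ := scalar_of_normalizer hcard hμ ha hb hz hzm hPa hPb (r := q) hq5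
    (hle (utv_mem hF hee hd')) hyq
  have h1 := utv_mulVec hF hee d x
  rw [hr, Matrix.smul_mulVec, Matrix.one_mulVec] at h1
  have hxe : hh x e ≠ 0 := fun h0 => hex (by rw [hf.herm, h0, map_zero])
  have h2 := congrArg (fun w => hh w e) h1
  simp only [hf.smul_left, hf.add_left, hee, mul_zero, add_zero] at h2
  rw [(mul_eq_right₀ hxe).1 h2, one_smul, left_eq_add, smul_eq_zero] at h1
  rcases h1 with h1 | h1
  · exact mul_ne_zero hd0 hxe h1
  · exact hex (by rw [h1, (Unit.linLeft hf).zero_left])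

omit hF in
/-- The standard elements of the normaliser of the standard frame. -/
lemma exists_std {μ : F} (hμ : IsPrimitiveRoot μ 3) (h3 : (3 : F) ≠ 0) :
    ∃ a b z t u v : GL (Fin 3) F, (a : M3) = Matrix.diagonal ![1, μ, μ ^ 2] ∧ (b : M3) = cycMat F ∧
      (z : M3) = μ • 1 ∧ (t : M3) = !![-1, 0, 0; 0, 0, -1; 0, -1, 0] ∧
      (u : M3) = ((μ ^ 2 - μ) / 3) • !![1, 1, 1; 1, μ, μ ^ 2; 1, μ ^ 2, μ] ∧
      (v : M3) = ((μ ^ 2 - μ) / 3) • !![1, μ ^ 2, μ ^ 2; μ, μ, μ ^ 2; μ, μ ^ 2, μ] := by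
  have hμ0 : μ ≠ 0 := hμ.ne_zero (by norm_num)
  have hμ3 := hμ.pow_eq_one
  have hμs : 1 + μ + μ ^ 2 = 0 := by
    have := hμ.geom_sum_eq_zero (by norm_num)
    rwa [Finset.sum_range_succ, Finset.sum_range_succ, Finset.sum_range_succ, Finset.sum_range_zero,
      zero_add, pow_zero, pow_one] at this
  have hc : (μ ^ 2 - μ) / 3 * 3 = μ ^ 2 - μ := div_mul_cancel₀ _ h3
  have hc' : (μ ^ 2 - μ) / 3 ≠ 0 := div_ne_zero (by
    rw [show μ ^ 2 - μ = μ * (μ - 1) by ring]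
    exact mul_ne_zero hμ0 (sub_ne_zero.2 (hμ.ne_one (by norm_num)))) h3
  refine ⟨Matrix.GeneralLinearGroup.mkOfDetNeZero (Matrix.diagonal ![1, μ, μ ^ 2]) ?_,
    Matrix.GeneralLinearGroup.mkOfDetNeZero (cycMat F) ?_,
    Matrix.GeneralLinearGroup.mkOfDetNeZero (μ • (1 : M3)) ?_,
    Matrix.GeneralLinearGroup.mkOfDetNeZero (!![-1, 0, 0; 0, 0, -1; 0, -1, 0]) ?_,
    Matrix.GeneralLinearGroup.mkOfDetNeZero (((μ ^ 2 - μ) / 3) • !![1, 1, 1; 1, μ, μ ^ 2; 1, μ ^ 2, μ]) ?_,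
    Matrix.GeneralLinearGroup.mkOfDetNeZero (((μ ^ 2 - μ) / 3) • !![1, μ ^ 2, μ ^ 2; μ, μ, μ ^ 2; μ, μ ^ 2, μ]) ?_,
    rfl, rfl, rfl, rfl, rfl, rfl⟩
  · simp [Matrix.det_diagonal, Fin.prod_univ_three, hμ0]
  · simp [cycMat, Matrix.det_fin_three]
  · simp [hμ0]
  · simp [Matrix.det_fin_three]
  all_goals
    have hμ1 : μ ≠ 1 := hμ.ne_one (by norm_num)
    rw [Matrix.det_smul, Fintype.card_fin]
    refine mul_ne_zero (pow_ne_zero _ hc') ?_
    rw [Matrix.det_fin_three]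
    simp
    grind

omit hF in
lemma rel_of_conj {P a' a : GL (Fin 3) F} (h : a = P⁻¹ * a' * P) : P * a = a' * P := by rw [h]; group

lemma gram_of_rel {r g A : GL (Fin 3) F} (hr : r ∈ Cfsg.GU 3 F q) (e : g * A = r * g) :
    gram hF ((g : M3) * (A : M3)) = gram hF (g : M3) := by
  rw [← Units.val_mul, e, Units.val_mul, gram_mul_left hF hr]

/-- A unitary frame of a group of order twenty-seven. -/
lemma exists_unitary_frame (hq : q.Prime) (hmod : q % 3 = 2) (hq5 : 5 ≤ q) {R : Subgroup (GL (Fin 3) F)}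
    (hR : IsSymplecticTypeGroup 3 R) (hsim : R ≤ similarityGroup (Cfsg.hermForm 3 F q)) (hcard : Nat.card R = 27)
    (hcent : Nat.card (Subgroup.center R) = 3) :
    ∃ (μ : F) (Q a b : GL (Fin 3) F), IsPrimitiveRoot μ 3 ∧ (3 : F) ≠ 0 ∧ Q ∈ Cfsg.GU 3 F q ∧
      (a : M3) = Matrix.diagonal ![1, μ, μ ^ 2] ∧ (b : M3) = cycMat F ∧ a ∈ suGL 3 F q ∧ b ∈ suGL 3 F q ∧
      Q * a * Q⁻¹ ∈ R ∧ Q * b * Q⁻¹ ∈ R ∧ R = Subgroup.closure {Q * a * Q⁻¹, Q * b * Q⁻¹} ∧
      ¬ suGL 3 F q ≤ subgroupNormalizer R := by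
  classical
  have hf := isUnitaryForm hF (n := 3)
  haveI := charP_of_prime hF hq
  have h3F : (3 : F) ≠ 0 := fun e => by
    have := Nat.le_of_dvd (by norm_num) ((CharP.cast_eq_zero_iff F q 3).1 (by exact_mod_cast e))
    omega
  have hexp : Monoid.exponent R = 3 := by rw [hR.exponent_eq]; norm_num
  have hnc : ¬ IsMulCommutative R := fun h => by
    rw [Subgroup.center_eq_top_iff.2 h, Subgroup.card_top, hcard] at hcent
    norm_num at hcent
  obtain ⟨ω, hω⟩ : ∃ ω : F, IsPrimitiveRoot ω 3 := by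
    haveI : Fact (Nat.Prime 3) := ⟨Nat.prime_three⟩
    obtain ⟨w, hw⟩ := exists_prime_orderOf_dvd_card' (G := Fˣ) 3 (by
      rw [Nat.card_units, hF, ← Nat.div_add_mod q 3, hmod]
      exact ⟨3 * (q / 3) ^ 2 + 4 * (q / 3) + 1, by
        rw [show (3 * (q / 3) + 2) ^ 2 = 3 * (3 * (q / 3) ^ 2 + 4 * (q / 3) + 1) + 1 by ring, Nat.add_sub_cancel]⟩)
    exact ⟨w, IsPrimitiveRoot.iff_orderOf.2 (by rw [orderOf_units, hw])⟩
  obtain ⟨μ, P, a', b', z', hμ, ha', hb', hz', hzm, hPa, hPb, hgen⟩ :=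
    exists_heisenberg_frame hω (by exact_mod_cast h3F) R hcard hexp hnc
  have hRGU : ∀ r ∈ R, r ∈ Cfsg.GU 3 F q := fun r hr => mem_GU_of_cube hF (hsim hr) (by
    have h := Monoid.pow_exponent_eq_one (⟨r, hr⟩ : R)
    rw [hexp] at h
    exact congrArg Subtype.val h) hmod
  obtain ⟨c, hc0, hcfix, hPc⟩ := gram_scalar hF hμ hmod P
    (hPa ▸ gram_of_rel hF (hRGU a' ha') (rel_of_conj rfl))
    (hPb ▸ gram_of_rel hF (hRGU b' hb') (rel_of_conj rfl))
  obtain ⟨ν, hν⟩ := Unit.exists_norm_eq hf.ne_refl hf.involutive (t := c⁻¹) (by rw [map_inv₀, hcfix])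
  have hν0 : ν ≠ 0 := fun e => inv_ne_zero hc0 (by rw [← hν, e, zero_mul])
  obtain ⟨D, hDv⟩ : ∃ D : GL (Fin 3) F, (D : M3) = ν • 1 :=
    ⟨Matrix.GeneralLinearGroup.mkOfDetNeZero (ν • (1 : M3)) (by simp [hν0]), rfl⟩
  have hD : ∀ g, D * g = g * D := fun g => Units.ext (by
    rw [Units.val_mul, Units.val_mul, hDv, smul_mul_assoc, mul_smul_comm, one_mul, mul_one])
  have hQ : P * D ∈ Cfsg.GU 3 F q := by
    rw [mem_GU_gram hF, Units.val_mul, hDv, mul_smul_comm, mul_one, gram_smul, hν,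
      hPc, smul_smul, inv_mul_cancel₀ hc0, one_smul]
  have key : ∀ x : GL (Fin 3) F, P * D * (P⁻¹ * x * P) * (P * D)⁻¹ = x := fun x => by
    rw [mul_assoc P, hD]; group
  have hmem : ∀ x : GL (Fin 3) F, x ∈ R → ((P⁻¹ * x * P : GL (Fin 3) F) : M3).det = 1 →
      P⁻¹ * x * P ∈ suGL 3 F q := fun x hx hd => by
    refine ⟨?_, mem_specialLinear.2 hd⟩
    have h := mul_mem (mul_mem (inv_mem hQ) (hRGU x hx)) hQ
    rwa [show (P * D)⁻¹ * x * (P * D) = D⁻¹ * (P⁻¹ * x * P * D) by group, ← hD, inv_mul_cancel_left] at h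
  refine ⟨μ, P * D, P⁻¹ * a' * P, P⁻¹ * b' * P, hμ, h3F, hQ, hPa, hPb, hmem a' ha' ?_, hmem b' hb' ?_,
    (key a').symm ▸ ha', (key b').symm ▸ hb', by rw [key, key]; exact hgen,
    not_suGL_le_normalizer hF hq hq5 hcard hμ ha' hb' hz' hzm hPa hPb hgen⟩
  · rw [hPa, Matrix.det_diagonal, Fin.prod_univ_three]
    simp [← pow_succ', hμ.pow_eq_one]
  · rw [hPb, Matrix.det_fin_three]
    simp [cycMat]

/-- Conjugation by an isometry preserves the special unitary group. -/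
lemma conj_mem_suGL {Q g : GL (Fin 3) F} (hQ : Q ∈ Cfsg.GU 3 F q) :
    Q * g * Q⁻¹ ∈ suGL 3 F q ↔ g ∈ suGL 3 F q := by
  have e1 : Q * g * Q⁻¹ ∈ Cfsg.GU 3 F q ↔ g ∈ Cfsg.GU 3 F q := by
    refine ⟨fun h => ?_, fun h => mul_mem (mul_mem hQ h) (inv_mem hQ)⟩
    rw [show g = Q⁻¹ * (Q * g * Q⁻¹) * Q by group]
    exact mul_mem (mul_mem (inv_mem hQ) h) hQ
  refine and_congr e1 ?_
  show Q * g * Q⁻¹ ∈ specialLinear (Fin 3) F ↔ g ∈ specialLinear (Fin 3) F
  rw [mem_specialLinear, mem_specialLinear, Units.val_mul, Units.val_mul, Matrix.det_units_conj]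

/-- An element of determinant one normalising the standard frame is an isometry. -/
lemma isometry_of_normalizes {μ : F} (hμ : IsPrimitiveRoot μ 3) (hmod : q % 3 = 2) {a b g : GL (Fin 3) F}
    (hav : (a : M3) = Matrix.diagonal ![1, μ, μ ^ 2]) (hbv : (b : M3) = cycMat F)
    (hg : g ∈ specialLinear (Fin 3) F) (hga : g * a * g⁻¹ ∈ Cfsg.GU 3 F q) (hgb : g * b * g⁻¹ ∈ Cfsg.GU 3 F q) :
    g ∈ suGL 3 F q := by
  obtain ⟨k, -, hkfix, hk⟩ := gram_scalar hF hμ hmod g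
    (hav ▸ gram_of_rel hF hga (by group)) (hbv ▸ gram_of_rel hF hgb (by group))
  have hk3 : k ^ 3 = 1 := by
    have e := det_gram hF (g : M3)
    rw [hk, Matrix.det_smul, Matrix.det_one, mul_one, Fintype.card_fin, mem_specialLinear.1 hg, map_one, mul_one] at e
    exact e
  exact ⟨(mem_GU_gram hF).2 (by rw [hk, eq_one_of_fixed_cube hF hkfix hk3 hmod, one_smul]), hg⟩

/-- The normaliser of a group of order twenty-seven is maximal. -/
theorem hessian_maximal (hq : q.Prime) (hmod : q % 3 = 2) (hq7 : 7 ≤ q) {R : Subgroup (GL (Fin 3) F)}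
    (hR : IsSymplecticTypeGroup 3 R) (hsim : R ≤ similarityGroup (Cfsg.hermForm 3 F q)) (hcard : Nat.card R = 27)
    (hcent : Nat.card (Subgroup.center R) = 3) :
    IsMaximalIn (suGL 3 F q) (subgroupNormalizer R ⊓ suGL 3 F q) := by
  obtain ⟨μ, Q, a, b, hμ, h3F, hQ, hav, hbv, hastd, hbstd, haR, hbR, hgen, hne⟩ :=
    exists_unitary_frame hF hq hmod (by omega) hR hsim hcard hcent
  refine isMaximalIn_of_key hne fun M hM hMI hMX => ?_
  by_contra hcon
  set M' : Subgroup (GL (Fin 3) F) := M.comap (MulAut.conj Q).toMonoidHom with hM'def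
  have hmem' : ∀ {g}, g ∈ M' ↔ Q * g * Q⁻¹ ∈ M := Iff.rfl
  have hM'I : ∀ g ∈ M', g ∈ suGL 3 F q := fun g hg => (conj_mem_suGL hF hQ).1 (hMI (hmem'.1 hg))
  have hQR : ∀ x ∈ Subgroup.closure {a, b}, Q * x * Q⁻¹ ∈ R := by
    intro x hx
    have h1 : (Subgroup.closure {a, b}).map (MulAut.conj Q).toMonoidHom ≤ R := by
      rw [MonoidHom.map_closure, Set.image_pair, Subgroup.closure_le]
      rintro y (rfl | rfl)
      exacts [haR, hbR]
    exact h1 ⟨x, hx, rfl⟩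
  have hcl : Subgroup.closure {a, b} ≤ suGL 3 F q := by
    rw [Subgroup.closure_le]
    rintro y (rfl | rfl)
    exacts [hastd, hbstd]
  have hnorm : ∀ g ∈ specialLinear (Fin 3) F, g * a * g⁻¹ ∈ Subgroup.closure {a, b} →
      g * b * g⁻¹ ∈ Subgroup.closure {a, b} → g ∈ M' := by
    intro g hg hga hgb
    refine hmem'.2 (hM ⟨mem_normalizer_of_gen hgen ?_ ?_,
      (conj_mem_suGL hF hQ).2 (isometry_of_normalizes hF hμ hmod hav hbv hg (hcl hga).1 (hcl hgb).1)⟩)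
    · rw [show Q * g * Q⁻¹ * (Q * a * Q⁻¹) * (Q * g * Q⁻¹)⁻¹ = Q * (g * a * g⁻¹) * Q⁻¹ by group]
      exact hQR _ hga
    · rw [show Q * g * Q⁻¹ * (Q * b * Q⁻¹) * (Q * g * Q⁻¹)⁻¹ = Q * (g * b * g⁻¹) * Q⁻¹ by group]
      exact hQR _ hgb
  have hfr : HasFrame μ M' := ⟨hμ, h3F,
    ⟨a, hmem'.2 (hM ⟨Subgroup.le_normalizer haR, (conj_mem_suGL hF hQ).2 hastd⟩), hav⟩,
    ⟨b, hmem'.2 (hM ⟨Subgroup.le_normalizer hbR, (conj_mem_suGL hF hQ).2 hbstd⟩), hbv⟩⟩
  have hnoTv : ∀ w φ : Fin 3 → F, w ≠ 0 → HasTv M' w φ → φ = 0 := fun w φ hw hT => by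
    by_contra hφ
    refine hcon fun g hg => ?_
    have e : Q * (Q⁻¹ * g * Q) * Q⁻¹ = g := by group
    have h1 := hmem'.1 (suGL_le_of_tv hF hq (by omega) hM'I hfr hw hT hφ
      ((conj_mem_suGL hF hQ).1 (by rw [e]; exact hg)))
    rwa [e] at h1
  obtain ⟨a₀, b₀, z, t, u, v, ha₀, hb₀, hzv, htv, huv, hvv⟩ := exists_std hμ h3F
  have hchar := charP_of_prime hF hq
  let S : Setup F :=
    { M := M', μ := μ, a := a, b := b, z := z, t := t, u := u, v := v
      prim := hμ, three := h3F, a_val := hav, b_val := hbv, z_val := hzv, t_val := htv, u_val := huv, v_val := hvv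
      le_sl := fun g hg => (hM'I g hg).2
      p := q, prime := hq, charP := hchar, seven_le := hq7
      slope := fun x hx g hg Q' α β γ h1 h2 => slope_fixed hF hq (hM'I x hx).1 (hM'I g hg).1 h1 h2
      noTv := hnoTv
      mem_of_normalizes := hnorm }
  refine hMX fun g hg => ?_
  have e : Q * (Q⁻¹ * g * Q) * Q⁻¹ = g := by group
  have hgX : Q⁻¹ * g * Q ∈ S.X := S.M_le_X (hmem'.2 (by rw [e]; exact hg))
  refine mem_normalizer_of_gen hgen ?_ ?_
  · have h1 := hQR _ (S.conj_mem_R hgX S.a_mem_R)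
    rwa [show S.a = a from rfl, show Q * (Q⁻¹ * g * Q * a * (Q⁻¹ * g * Q)⁻¹) * Q⁻¹ = g * (Q * a * Q⁻¹) * g⁻¹ by group]
      at h1
  · have h1 := hQR _ (S.conj_mem_R hgX S.b_mem_R)
    rwa [show S.b = b from rfl, show Q * (Q⁻¹ * g * Q * b * (Q⁻¹ * g * Q)⁻¹) * Q⁻¹ = g * (Q * b * Q⁻¹) * g⁻¹ by group]
      at h1

end CfsgLib.Geo.SU3
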