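/-
The stabiliser of an orthonormal frame is maximal in SU of dimension three, except for the field with five elements.
-/
import Cfsg.Agent.Geo.SUThree.Homology
import Cfsg.Agent.Geo.SUFour.FrameMax

set_option autoImplicit false
set_option linter.unusedSectionVars false

namespace CfsgLib.Geo.SU3

open Matrix Cfsg Cfsg.Geo CfsgLib.Geo CfsgLib.Geo.UTv CfsgLib.Geo.Mono CfsgLib.Geo.UFrame
open scoped Classical

variable {q : ℕ} {F : Type*} [Field F] [Finite F] (hF : Nat.card F = q ^ 2) {M : Subgroup (GL (Fin 3) F)}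

local notation "hh" => Cfsg.hermForm 3 F q

include hF

/-- A generator of the norm-one group. -/
lemma exists_phase_gen : ∃ t : F, IsPhase q t ∧ orderOf t = q + 1 := by
  have hq := CfsgLib.Forms.two_le_q hF
  haveI := Fintype.ofFinite F
  obtain ⟨g, hg⟩ := IsCyclic.exists_ofOrder_eq_natCard (α := Fˣ)
  rw [CfsgLib.Forms.card_units_eq hF] at hg
  have hpos : (q - 1) ∣ orderOf g := by rw [hg]; exact dvd_mul_left _ _
  have ho : orderOf (g ^ (q - 1)) = q + 1 := by
    rw [orderOf_pow_of_dvd (by omega) hpos, hg, Nat.mul_div_cancel _ (by omega)]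
  refine ⟨((g ^ (q - 1) : Fˣ) : F), ?_, by rw [orderOf_units]; exact ho⟩
  show ((g ^ (q - 1) : Fˣ) : F) * ((g ^ (q - 1) : Fˣ) : F) ^ q = 1
  rw [← pow_succ', ← Units.val_pow_eq_pow_val, ← ho, pow_orderOf_eq_one, Units.val_one]

omit hF [Finite F] in
lemma third : ∀ a b : Fin 3, ∃ c, c ≠ a ∧ c ≠ b := by decide

omit hF [Finite F] in
lemma sum_distinct : ∀ {j l m : Fin 3}, j ≠ l → m ≠ j → m ≠ l → ∀ f : Fin 3 → F, f j + f l + f m = f 0 + f 1 + f 2 := by
  intro j l m h1 h2 h3 f
  fin_cases j <;> fin_cases l <;> fin_cases m <;> first | exact absurd rfl h1 | exact absurd rfl h2 | exact absurd rfl h3 | (simp only [Fin.zero_eta, Fin.mk_one, Fin.reduceFinMk] <;> ring)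

omit hF [Finite F] in
/-- The order of the cube. -/
lemma order_cube {t : F} (ht : orderOf t = q + 1) :
    ((q + 1) % 3 = 0 ∧ 3 * orderOf (t ^ 3) = q + 1) ∨ ((q + 1) % 3 ≠ 0 ∧ orderOf (t ^ 3) = q + 1) := by
  rw [orderOf_pow' t (by norm_num : (3 : ℕ) ≠ 0), ht]
  by_cases h : (q + 1) % 3 = 0
  · left
    have h3 : 3 ∣ q + 1 := Nat.dvd_of_mod_eq_zero h
    rw [Nat.gcd_eq_right h3]
    exact ⟨h, Nat.mul_div_cancel' h3⟩
  · right
    refine ⟨h, ?_⟩
    rw [show Nat.gcd (q + 1) 3 = 1 from (Nat.Coprime.symm ((Nat.Prime.coprime_iff_not_dvd Nat.prime_three).2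
      fun h' => h (Nat.mod_eq_zero_of_dvd h'))), Nat.div_one]

/-- The homology of a coordinate vector. -/
lemma exists_coord_hom {t : F} (ht : IsPhase q t) (i : Fin 3) :
    ∃ x ∈ monomialGroup (Fin 3) F ⊓ suGL 3 F q, IsHom q x (Pi.single i 1) t := by
  let T : Fin 3 → F := fun y => if y = i then (t ^ 2)⁻¹ else t
  have hT : ∀ y, IsPhase q (T y) := fun y => by
    simp only [T]; split_ifs <;> [exact (ht.pow 2).inv; exact ht]
  have hp : ∏ y, T y = 1 := by
    have h0 := ht.ne_zero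
    rw [Fin.prod_univ_three]
    fin_cases i <;> simp [T] <;> field_simp
  refine ⟨_, torus_mem' hF T hT hp, fun z => ?_⟩
  rw [torus_val hF T hT z i, herm_single_right hF]
  funext y
  by_cases h : y = i
  · subst h; simp [T]; ring
  · simp [T, h]

lemma inner_sum_row {g : GL (Fin 3) F} (hg : g ∈ Cfsg.GU 3 F q) (i : Fin 3) :
    (g : Matrix (Fin 3) (Fin 3) F) i 0 * (g : Matrix (Fin 3) (Fin 3) F) i 0 ^ q +
      (g : Matrix (Fin 3) (Fin 3) F) i 1 * (g : Matrix (Fin 3) (Fin 3) F) i 1 ^ q +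
      (g : Matrix (Fin 3) (Fin 3) F) i 2 * (g : Matrix (Fin 3) (Fin 3) F) i 2 ^ q = 1 := by
  have h : ((g * g⁻¹ : GL (Fin 3) F) : Matrix (Fin 3) (Fin 3) F) i i = 1 := by simp
  rwa [Units.val_mul, Matrix.mul_apply, Fin.sum_univ_three, inv_apply hF hg, inv_apply hF hg,
    inv_apply hF hg] at h

lemma irred_of_mono (hq : 3 ≤ q) (hle : monomialGroup (Fin 3) F ⊓ suGL 3 F q ≤ M) :
    ∀ x : Fin 3 → F, x ≠ 0 → ∃ g ∈ M, (g : Matrix (Fin 3) (Fin 3) F) *ᵥ x ∉ F ∙ x := by
  intro x hx
  obtain ⟨t, ht, hto⟩ := exists_phase_gen hF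
  have ht3 : (t ^ 2)⁻¹ ≠ t := fun h => by
    have h3 : t ^ 3 = 1 := by
      have h0 := ht.ne_zero
      rw [inv_eq_one_div, div_eq_iff (pow_ne_zero _ h0)] at h
      linear_combination -h
    have := Nat.le_of_dvd (by norm_num) (orderOf_dvd_of_pow_eq_one h3)
    omega
  obtain ⟨a, ha⟩ := Function.ne_iff.1 hx
  simp only [Pi.zero_apply] at ha
  by_cases h : ∀ b, b ≠ a → x b = 0
  · let π : Equiv.Perm (Fin 3) := finRotate 3
    refine ⟨mon π (fun _ => 1), hle (mon_mem hF π _ (fun y => by simp [IsPhase]) ?_), fun hm => ?_⟩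
    · simp [π, sign_finRotate]
    obtain ⟨l, hl⟩ := Submodule.mem_span_singleton.1 hm
    have h1 := congrFun hl (π a)
    rw [mon_mulVec, Units.val_one, one_mul, Pi.smul_apply, smul_eq_mul] at h1
    have hne : π a ≠ a := by fin_cases a <;> simp [π]
    rw [h _ hne, mul_zero] at h1
    exact ha h1.symm
  · push Not at h
    obtain ⟨b, hb, hxb⟩ := h
    obtain ⟨g, hg, hgh⟩ := exists_coord_hom hF ht a
    refine ⟨g, hle hg, fun hm => ?_⟩
    obtain ⟨l, hl⟩ := Submodule.mem_span_singleton.1 hm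
    rw [hgh x, herm_single_right hF] at hl
    have h1 := congrFun hl a
    have h2 := congrFun hl b
    simp [hb] at h1 h2
    rcases h2 with h2 | h2
    · rw [h2] at h1
      have : (t ^ 2)⁻¹ * x a = t * x a := by linear_combination -h1
      exact ht3 (mul_right_cancel₀ ha this)
    · exact hxb h2

/-- An entry of intermediate norm gives the whole group. -/
lemma suGL_le_of_entry {p a : ℕ} [Fact p.Prime] [CharP F p] (hpq : q = p ^ a) (hq : 3 ≤ q) (hq5 : q ≠ 5)
    (hle : monomialGroup (Fin 3) F ⊓ suGL 3 F q ≤ M) (hMI : M ≤ suGL 3 F q) {g : GL (Fin 3) F} (hg : g ∈ M)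
    (i c : Fin 3) (h0 : (g : Matrix (Fin 3) (Fin 3) F) i c ≠ 0)
    (h1 : (g : Matrix (Fin 3) (Fin 3) F) i c * (g : Matrix (Fin 3) (Fin 3) F) i c ^ q ≠ 1)
    (h11 : q = 11 → 2 * ((g : Matrix (Fin 3) (Fin 3) F) i c * (g : Matrix (Fin 3) (Fin 3) F) i c ^ q) ≠ 1) :
    suGL 3 F q ≤ M := by
  have hf := isUnitaryForm hF (n := 3)
  have hgu : g ∈ Cfsg.GU 3 F q := (hMI hg).1
  obtain ⟨t, ht, hto⟩ := exists_phase_gen hF
  obtain ⟨x, hx, hxh⟩ := exists_coord_hom hF ht i
  obtain ⟨y, hy, hyh⟩ := exists_coord_hom hF ht c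
  have hyv : IsHom q (g * y * g⁻¹) (UFrame.col g c) t := fun z => by
    rw [mul_mulVec, mul_mulVec, hyh, Matrix.mulVec_add, Matrix.mulVec_smul, Matrix.mulVec_smul, Matrix.mulVec_smul,
      mulVec_inv_mulVec]
    congr 3
    rw [← herm_mulVec (hMI hg), mulVec_inv_mulVec]
  have hu : hh (Pi.single i 1) (Pi.single i 1) = 1 := by rw [herm_single_right hF]; simp
  have hv : hh (UFrame.col g c) (UFrame.col g c) = 1 := by rw [herm_cols hF hgu, if_pos rfl]
  have hr : hh (UFrame.col g c) (Pi.single i 1) = (g : Matrix (Fin 3) (Fin 3) F) i c := by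
    rw [herm_single_right hF, UFrame.col_apply]
  have hs : hh (Pi.single i 1) (UFrame.col g c) = (g : Matrix (Fin 3) (Fin 3) F) i c ^ q := by
    rw [herm_single, UFrame.col_apply]
  have hN := order_cube hto
  have hN3 : 3 ≤ orderOf (t ^ 3) := by omega
  have hexc : p = 2 ∨ 6 ≤ orderOf (t ^ 3) ∨ (p = 3 ∧ orderOf (t ^ 3) = 4) ∨ (orderOf (t ^ 3) = 4 ∧
      2 * (hh (UFrame.col g c) (Pi.single i 1) * hh (Pi.single i 1) (UFrame.col g c)) ≠ 1) := by
    by_cases h2 : q % 2 = 0
    · left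
      have hd : 2 ∣ p ^ a := by rw [← hpq]; exact Nat.dvd_of_mod_eq_zero h2
      exact ((Nat.prime_dvd_prime_iff_eq Nat.prime_two Fact.out).1 (Nat.prime_two.dvd_of_dvd_pow hd)).symm
    right
    by_cases h3 : q = 3
    · right; left
      have hd : 3 ∣ p ^ a := by rw [← hpq, h3]
      exact ⟨((Nat.prime_dvd_prime_iff_eq Nat.prime_three Fact.out).1 (Nat.prime_three.dvd_of_dvd_pow hd)).symm,
        by omega⟩
    by_cases he : q = 11
    · exact Or.inr (Or.inr ⟨by omega, by rw [hr, hs]; exact h11 he⟩)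
    left
    omega
  have hsub : ∀ q0 m : ℕ, 2 ≤ m → q0 ^ m = q → 3 ≤ q0 → q0 + 1 < orderOf (t ^ 3) := by
    intro q0 m hm hqm h3
    have hsq : q0 ^ 2 ≤ q := hqm ▸ Nat.pow_le_pow_right (by omega) hm
    rcases hN with ⟨hmod, h⟩ | ⟨hmod, h⟩
    · have h4 : q0 ≠ 3 := fun e => by
        have : 3 ∣ q := hqm ▸ (by rw [e]; exact dvd_pow_self 3 (by omega))
        omega
      have : 4 * q0 ≤ q0 ^ 2 := by rw [pow_two]; exact Nat.mul_le_mul_right _ (by omega)
      omega
    · have : 2 * q0 ≤ q0 ^ 2 := by rw [pow_two]; exact Nat.mul_le_mul_right _ (by omega)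
      omega
  obtain ⟨z, hz0, hz⟩ := full_of_homologies hF hu hv hpq hMI (by rw [hr]; exact h0) (by rw [hr, hs]; exact h1)
    ht.ne_zero (hle hx) (M.mul_mem (M.mul_mem hg (hle hy)) (M.inv_mem hg)) hxh hyv hN3 hexc
    (fun q0 m hm hqm h3 => Or.inl (hsub q0 m hm hqm h3))
  exact suGL_le_of_full_of_irred hF hq hMI hz hz0 (irred_of_mono hF hq hle)

/-- The monomial group is maximal. -/
theorem frame_key (hq : 3 ≤ q) (hq5 : q ≠ 5) (hle : monomialGroup (Fin 3) F ⊓ suGL 3 F q ≤ M)
    (hMI : M ≤ suGL 3 F q) (hX : ¬ M ≤ monomialGroup (Fin 3) F) : suGL 3 F q ≤ M := by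
  have hf := isUnitaryForm hF (n := 3)
  obtain ⟨p, k, hpc, hp, hqk⟩ := CfsgLib.Forms.exists_charP_pow hF
  haveI := Fact.mk hp
  by_contra hcon
  set N : GL (Fin 3) F → Fin 3 → Fin 3 → F := fun g i j =>
    (g : Matrix (Fin 3) (Fin 3) F) i j * (g : Matrix (Fin 3) (Fin 3) F) i j ^ q
  have hent : ∀ g ∈ M, ∀ i j, N g i j = 0 ∨ N g i j = 1 ∨ (q = 11 ∧ 2 * N g i j = 1) := fun g hg i j => by
    by_contra h
    push Not at h
    exact hcon (suGL_le_of_entry hF hqk hq hq5 hle hMI hg i j (fun e => h.1 (by simp [N, e])) h.2.1 h.2.2)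
  obtain ⟨g, hgM, hgm⟩ := SetLike.not_le_iff_exists.1 hX
  have hgu : g ∈ Cfsg.GU 3 F q := (hMI hgM).1
  have hz : ∀ i j, N g i j = 0 → (g : Matrix (Fin 3) (Fin 3) F) i j = 0 := fun i j h => by
    rcases mul_eq_zero.1 h with h | h
    · exact h
    · exact eq_zero_of_pow_eq_zero h
  -- a row with two non-zero entries
  obtain ⟨i, j, l, hjl, hj, hl⟩ : ∃ i j l, j ≠ l ∧ (g : Matrix (Fin 3) (Fin 3) F) i j ≠ 0 ∧
      (g : Matrix (Fin 3) (Fin 3) F) i l ≠ 0 := by
    by_contra h
    push Not at h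
    have hinv : g⁻¹ ∈ monomialGroup (Fin 3) F := mem_mono_of_perm fun a => by
      by_cases hn : ∀ x, (g : Matrix (Fin 3) (Fin 3) F) a x = 0
      · exact ⟨a, fun y _ => by rw [inv_apply hF hgu, hn, zero_pow (by omega)]⟩
      · push Not at hn
        obtain ⟨x, hx⟩ := hn
        exact ⟨x, fun y hy => by rw [inv_apply hF hgu, h a x y (Ne.symm hy) hx, zero_pow (by omega)]⟩
    exact hgm (inv_inv g ▸ (monomialGroup (Fin 3) F).inv_mem hinv)
  obtain ⟨m, hmj, hml⟩ := third j l
  have hrow : N g i j + N g i l + N g i m = 1 :=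
    (sum_distinct hjl hmj hml fun x => N g i x).trans (inner_sum_row hF hgu i)
  obtain ⟨t, ht, hto⟩ := exists_phase_gen hF
  -- the conjugate of a torus element
  have conj : ∀ T : Fin 3 → F, (∀ y, IsPhase q (T y)) → ∏ y, T y = 1 →
      (N g i j * T j + N g i l * T l + N g i m * T m = 0 ∨
        (N g i j * T j + N g i l * T l + N g i m * T m) * (N g i j * T j + N g i l * T l + N g i m * T m) ^ q = 1 ∨
        (q = 11 ∧ 2 * ((N g i j * T j + N g i l * T l + N g i m * T m) *
          (N g i j * T j + N g i l * T l + N g i m * T m) ^ q) = 1)) := by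
    intro T hT hp
    have hg' := hent _ (M.mul_mem (M.mul_mem hgM (hle (torus_mem' hF T hT hp))) (M.inv_mem hgM)) i i
    have e : ((g * torus (units T hT) * g⁻¹ : GL (Fin 3) F) : Matrix (Fin 3) (Fin 3) F) i i =
        N g i j * T j + N g i l * T l + N g i m * T m := by
      rw [sum_distinct hjl hmj hml fun x => N g i x * T x, Units.val_mul, Units.val_mul, Matrix.mul_apply,
        Fin.sum_univ_three]
      have hgT : ∀ x, ((g : Matrix (Fin 3) (Fin 3) F) * (torus (units T hT) : GL (Fin 3) F)) i x =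
          (g : Matrix (Fin 3) (Fin 3) F) i x * T x := fun x => by
        have h1 := congrFun (torus_val hF T hT (Pi.single x 1) x)
        rw [Matrix.mul_apply, Finset.sum_eq_single x]
        · have h2 := h1 x
          rw [Matrix.mulVec_single_one] at h2
          simp [Matrix.col_apply] at h2
          rw [h2]
        · intro y _ hy
          have h2 := h1 y
          rw [Matrix.mulVec_single_one] at h2
          simp [Matrix.col_apply, hy] at h2
          rw [h2, mul_zero]
        · simp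
      simp only [hgT, inv_apply hF hgu, N]
      ring
    simp only [N] at hg'
    rw [e] at hg'
    rcases hg' with h | h | h
    · rcases mul_eq_zero.1 h with h' | h'
      · exact Or.inl h'
      · exact Or.inl (eq_zero_of_pow_eq_zero h')
    · exact Or.inr (Or.inl h)
    · exact Or.inr (Or.inr h)
  have hσ : ∀ ρ : F, IsPhase q ρ → frobEquiv hF ρ = ρ⁻¹ := fun ρ hρ => by
    rw [frobEquiv_apply]
    exact (eq_inv_of_mul_eq_one_left (by rw [mul_comm]; exact hρ))
  have hsum : ∀ ρ : F, IsPhase q ρ → (ρ + ρ⁻¹) ^ q = ρ + ρ⁻¹ := fun ρ hρ => by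
    rw [← frobEquiv_apply hF, map_add, map_inv₀, hσ ρ hρ, inv_inv, add_comm]
  have hord : ∀ n, 0 < n → n < q + 1 → t ^ n ≠ 1 := fun n h0 hn h => by
    have := Nat.le_of_dvd h0 (orderOf_dvd_of_pow_eq_one h)
    omega
  have ht0 := ht.ne_zero
  let T : Fin 3 → F := fun y => if y = j then t else if y = l then t⁻¹ else 1
  have hT : ∀ y, IsPhase q (T y) := fun y => by
    simp only [T]; split_ifs <;> [exact ht; exact ht.inv; exact IsPhase.one]
  have hTp : ∏ y, T y = 1 := by
    rw [Finset.prod_eq_mul j l hjl (fun c _ hc => by simp [T, hc.1, hc.2]) (by simp) (by simp)]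
    simp [T, Ne.symm hjl, mul_inv_cancel₀ ht.ne_zero]
  have hc := conj T hT hTp
  have eTj : T j = t := by simp [T]
  have eTl : T l = t⁻¹ := by simp [T, Ne.symm hjl]
  have eTm : T m = 1 := by simp [T, hmj, hml]
  rw [eTj, eTl, eTm] at hc
  have hj1 := (hent g hgM i j).resolve_left fun h => hj (hz _ _ h)
  have hl1 := (hent g hgM i l).resolve_left fun h => hl (hz _ _ h)
  have hm1 := hent g hgM i m
  have two_ne : q = 11 → (2 : F) ≠ 0 := fun h11 h0 => by
    have h2 : p ∣ 2 := (CharP.cast_eq_zero_iff F p 2).1 (by exact_mod_cast h0)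
    have hp2 : p = 2 := (Nat.prime_dvd_prime_iff_eq hp Nat.prime_two).1 h2
    have : 2 ∣ q := by
      rw [hqk, hp2]
      exact dvd_pow_self 2 (fun k0 => by rw [hqk, k0, pow_zero] at hq; omega)
    omega
  by_cases h11 : q = 11
  · -- eleven: exactly two halves
    have hp11 : p = 11 := by
      have : 11 ∣ p ^ k := by rw [← hqk, h11]
      exact ((Nat.prime_dvd_prime_iff_eq (by norm_num) hp).1 ((by norm_num : Nat.Prime 11).dvd_of_dvd_pow this)).symm
    haveI : CharP F 11 := hp11 ▸ hpc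
    have hne : ∀ n : ℕ, ¬ 11 ∣ n → (n : F) ≠ 0 := fun n hn h => hn ((CharP.cast_eq_zero_iff F 11 n).1 h)
    have n2 : (2 : F) ≠ 0 := by exact_mod_cast hne 2 (by norm_num)
    have n3 : (3 : F) ≠ 0 := by exact_mod_cast hne 3 (by norm_num)
    have n4 : (4 : F) ≠ 0 := by exact_mod_cast hne 4 (by norm_num)
    have key : N g i m = 0 ∧ 2 * N g i j = 1 ∧ 2 * N g i l = 1 := by
      have n1 : (1 : F) ≠ 0 := one_ne_zero
      rcases hj1 with a | ⟨-, a⟩ <;> rcases hl1 with b | ⟨-, b⟩ <;> rcases hm1 with c | c | ⟨-, c⟩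
      · exact absurd (by linear_combination hrow - a - b - c : (1 : F) = 0) n1
      · exact absurd (by linear_combination hrow - a - b - c : (2 : F) = 0) n2
      · exact absurd (by linear_combination 2 * hrow - 2 * a - 2 * b - c : (3 : F) = 0) n3
      · exact absurd (by linear_combination 2 * hrow - 2 * a - b - 2 * c : (1 : F) = 0) n1
      · exact absurd (by linear_combination 2 * hrow - 2 * a - b - 2 * c : (3 : F) = 0) n3
      · exact absurd (by linear_combination 2 * hrow - 2 * a - b - c : (2 : F) = 0) n2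
      · exact absurd (by linear_combination 2 * hrow - a - 2 * b - 2 * c : (1 : F) = 0) n1
      · exact absurd (by linear_combination 2 * hrow - a - 2 * b - 2 * c : (3 : F) = 0) n3
      · exact absurd (by linear_combination 2 * hrow - a - 2 * b - c : (2 : F) = 0) n2
      · exact ⟨c, a, b⟩
      · exact absurd (by linear_combination 2 * hrow - a - b - 2 * c : (2 : F) = 0) n2
      · exact absurd (by linear_combination 2 * hrow - a - b - c : (1 : F) = 0) n1
    obtain ⟨km, kj, kl⟩ := key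
    set e := N g i j * t + N g i l * t⁻¹ + N g i m * 1 with he
    have he2 : 2 * e = t + t⁻¹ := by rw [he]; linear_combination t * kj + t⁻¹ * kl + 2 * km
    have h4 : (t + t⁻¹) * (t + t⁻¹) ^ q = 4 * (e * e ^ q) := by
      rw [← he2, mul_pow, ← frobEquiv_apply hF (2 : F), map_ofNat]
      ring
    rw [hsum t ht] at h4
    have hinv : t * t⁻¹ = 1 := mul_inv_cancel₀ ht0
    rcases hc with h | h | ⟨-, h⟩
    · have : (t + t⁻¹) = 0 := by rw [← he2, h, mul_zero]
      exact hord 4 (by norm_num) (by omega) (by linear_combination (t * (t ^ 2 - 1)) * this - (t ^ 2 - 1) * hinv)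
    · have h5 : t ^ 4 - 2 * t ^ 2 + 1 = 0 := by
        linear_combination t ^ 2 * h4 + 4 * t ^ 2 * h - (2 * t ^ 2 + t * t⁻¹ + 1) * hinv
      have h6 : (t ^ 2 - 1) ^ 2 = 0 := by linear_combination h5
      exact hord 2 (by norm_num) (by omega) (sub_eq_zero.1 (pow_eq_zero_iff two_ne_zero |>.1 h6))
    · have h5 : t ^ 4 + 1 = 0 := by
        linear_combination t ^ 2 * h4 + 2 * t ^ 2 * h - (2 * t ^ 2 + t * t⁻¹ + 1) * hinv
      exact hord 8 (by norm_num) (by omega) (by linear_combination (t ^ 4 - 1) * h5)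
  -- otherwise all the non-zero norms are one and the characteristic is two
  have hj' : N g i j = 1 := hj1.resolve_right fun h => h11 h.1
  have hl' : N g i l = 1 := hl1.resolve_right fun h => h11 h.1
  rcases hm1 with hm' | hm' | ⟨h, -⟩
  · exact one_ne_zero (by linear_combination hrow - hj' - hl' - hm' : (1 : F) = 0)
  · have n2 : (2 : F) = 0 := by linear_combination hrow - hj' - hl' - hm'
    rw [hj', hl', hm', one_mul, one_mul, one_mul] at hc
    have hinv : t * t⁻¹ = 1 := mul_inv_cancel₀ ht0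
    have he : (t + t⁻¹ + 1) ^ q = t + t⁻¹ + 1 := by
      rw [← frobEquiv_apply hF, map_add, map_one, frobEquiv_apply, hsum t ht]
    rw [he] at hc
    have hs : t + t⁻¹ + 1 = 0 ∨ t + t⁻¹ + 1 = 1 := by
      rcases hc with h | h | ⟨h, -⟩
      · exact Or.inl h
      · right
        have h6 : (t + t⁻¹ + 1 - 1) ^ 2 = 0 := by linear_combination h - (t + t⁻¹ + 1 - 1) * n2
        exact sub_eq_zero.1 (pow_eq_zero_iff two_ne_zero |>.1 h6)
      · exact absurd h h11
    rcases hs with h | h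
    · exact hord 3 (by norm_num) (by omega) (by linear_combination (t * (t - 1)) * h - (t - 1) * hinv)
    · exact hord 2 (by norm_num) (by omega) (by linear_combination t * h - hinv - n2 + (1 - 0) * 0)
  · exact h11 h

/-- Transvections are not all monomial. -/
theorem frame_proper (hq : 3 ≤ q) : ¬ suGL 3 F q ≤ monomialGroup (Fin 3) F := by
  intro h
  have hf := isUnitaryForm hF (n := 3)
  obtain ⟨b, hb⟩ := Unit.exists_norm_eq hf.ne_refl hf.involutive (t := (-1 : F)) (by rw [map_neg, map_one])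
  rw [frobEquiv_apply] at hb
  have hb0 : b ≠ 0 := fun h0 => by rw [h0, zero_mul] at hb; exact one_ne_zero (neg_eq_zero.1 hb.symm)
  set v : Fin 3 → F := ![1, b, 0] with hv'
  have hq0 : q ≠ 0 := by omega
  have hv : hh v v = 0 := by
    rw [herm_three hF]
    simp [v, frobEquiv_apply, hb]
  obtain ⟨c, hc, hc0, hc1⟩ : ∃ c : F, c + c ^ q = 0 ∧ c ≠ 0 ∧ c ≠ -1 := by
    obtain ⟨z, hz, hz0, hz1⟩ := UTv.exists_skew_avoid hF (m := 2) (by omega) le_rfl (-1 : F)
    exact ⟨z, hz, hz0, hz1.resolve_right (by norm_num)⟩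
  obtain ⟨x, hx⟩ := single_of_mono (h (utv_mem hF hv hc)) 0
  have hcol : ∀ r, (tvec v (uax q v c) (uax_dot_self hv c) : Matrix (Fin 3) (Fin 3) F) r 0 =
      (Pi.single 0 1 : Fin 3 → F) r + c * v r := fun r => by
    rw [← UFrame.col_apply, UFrame.col, utv_mulVec hF hv, herm_single, Pi.add_apply, Pi.smul_apply, smul_eq_mul]
    simp [v]
  rcases eq_or_ne x 0 with rfl | hx0
  · have := hx 1 (by decide)
    rw [hcol] at this
    simp [v, hc0, hb0] at this
  · have := hx 0 (Ne.symm hx0)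
    rw [hcol] at this
    simp [v] at this
    exact hc1 (by linear_combination this)

/-- The stabiliser of a frame is maximal in SU. -/
theorem frame_maximal (hq : 3 ≤ q) (hq5 : q ≠ 5) {t : ℕ} {D : Fin t → Submodule F (Fin 3 → F)}
    (hD : IsNondegenerateMDecomposition (Cfsg.hermForm 3 F q) 1 D) :
    IsMaximalIn (suGL 3 F q) (decompositionStabilizer D ⊓ suGL 3 F q) := by
  classical
  have hf := isUnitaryForm hF (n := 3)
  -- an orthonormal basis
  have hu : ∀ i, ∃ u ∈ D i, hh u u = 1 ∧ ∀ x ∈ D i, ∃ a : F, x = a • u := fun i => by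
    obtain ⟨w, hw, hw0⟩ := (Submodule.ne_bot_iff _).1 (card_pos_dim hF hD i)
    have hline : ∀ x ∈ D i, ∃ a : F, x = a • w := fun x hx => by
      have hsp : F ∙ w = D i := Submodule.eq_of_le_of_finrank_le ((Submodule.span_singleton_le_iff_mem _ _).2 hw)
        (by rw [hD.decomp.finrank_eq, finrank_span_singleton hw0])
      obtain ⟨a, ha⟩ := Submodule.mem_span_singleton.1 (hsp.symm ▸ hx)
      exact ⟨a, ha.symm⟩
    have hww : hh (w) (w) ≠ 0 := fun h0 => by
      obtain ⟨-, y, hy, hwy⟩ := hD.nondegenerate i w hw hw0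
      obtain ⟨a, rfl⟩ := hline y hy
      rw [Unit.smul_right hf, h0, mul_zero] at hwy
      exact hwy rfl
    obtain ⟨s, hs⟩ := Unit.exists_norm_eq hf.ne_refl hf.involutive (t := 1 / hh (w) (w)) (by
      rw [map_div₀, map_one, Unit.sigma_self hf])
    have hs0 : s ≠ 0 := fun h0 => by rw [h0, zero_mul] at hs; exact one_div_ne_zero hww hs.symm
    refine ⟨s • w, (D i).smul_mem _ hw, by
      rw [hf.smul_left, Unit.smul_right hf, ← mul_assoc, hs, div_mul_cancel₀ _ hww], fun x hx => ?_⟩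
    obtain ⟨a, rfl⟩ := hline x hx
    exact ⟨a / s, by rw [smul_smul, div_mul_cancel₀ _ hs0]⟩
  choose u huD huu hline using hu
  have hon : ∀ i j, hh (u i) (u j) = if i = j then 1 else 0 := fun i j => by
    rcases eq_or_ne i j with rfl | h
    · rw [huu, if_pos rfl]
    · rw [if_neg h]; exact hD.orthogonal i j h _ (huD i) _ (huD j)
  have hli : LinearIndependent F u := linearIndependent_iff'.2 fun S c hc i hi => by
    let φ : (Fin 3 → F) →+ F :=
      AddMonoidHom.mk' (fun x => hh (x) (u i)) fun x y => CfsgLib.Unitary.herm_add_left 3 x y (u i)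
    have h1 := congrArg φ hc
    rw [map_sum, map_zero, Finset.sum_eq_single i] at h1
    · change hh (c i • u i) (u i) = 0 at h1
      rwa [hf.smul_left, huu, mul_one] at h1
    · intro j _ hj
      change hh (c j • u j) (u i) = 0
      rw [hf.smul_left, hon, if_neg hj, mul_zero]
    · exact fun h => absurd hi h
  have hspan : ⊤ ≤ Submodule.span F (Set.range u) := by
    rw [← hD.decomp.iSup_eq_top]
    refine iSup_le fun i x hx => ?_
    obtain ⟨a, rfl⟩ := hline i x hx
    exact Submodule.smul_mem _ _ (Submodule.subset_span ⟨i, rfl⟩)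
  obtain rfl : t = 3 := by
    have h1 := finrank_span_eq_card hli
    rw [top_le_iff.1 hspan, finrank_top, Module.finrank_fin_fun, Fintype.card_fin] at h1
    exact h1.symm
  let A : Matrix (Fin 3) (Fin 3) F := Matrix.of fun r c => u c r
  have hA : ∀ x, A *ᵥ x = ∑ c, x c • u c := fun x => funext fun r => by
    simp [A, Matrix.mulVec, dotProduct, Finset.sum_apply, mul_comm]
  have hdetA : A.det ≠ 0 := fun h0 => by
    obtain ⟨x, hx0, hx⟩ := Matrix.exists_mulVec_eq_zero_iff.2 h0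
    rw [hA] at hx
    exact hx0 (funext fun c => Fintype.linearIndependent_iff.1 hli x hx c)
  let P : GL (Fin 3) F := Matrix.GeneralLinearGroup.mkOfDetNeZero A hdetA
  have hPv : ∀ x, (P : Matrix (Fin 3) (Fin 3) F) *ᵥ x = ∑ c, x c • u c := hA
  have hPe : ∀ i, (P : Matrix (Fin 3) (Fin 3) F) *ᵥ Pi.single i 1 = u i := fun i => by
    rw [hPv, Finset.sum_eq_single i (fun b _ hb => by simp [hb]) (by simp), Pi.single_eq_same, one_smul]
  have hPG : P ∈ Cfsg.GU 3 F q := mem_GU.2 fun x y => by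
    let φ : ∀ w, (Fin 3 → F) →+ F := fun w =>
      AddMonoidHom.mk' (fun a => Cfsg.hermForm 3 F q a w) fun a b => CfsgLib.Unitary.herm_add_left 3 a b w
    let ψ : ∀ w, (Fin 3 → F) →+ F := fun w =>
      AddMonoidHom.mk' (fun a => Cfsg.hermForm 3 F q w a) fun a b => Unit.add_right hf w a b
    rw [hPv, hPv, herm_apply hF]
    refine (map_sum (φ _) _ _).trans (Finset.sum_congr rfl fun c _ => ?_)
    change Cfsg.hermForm 3 F q (x c • u c) (∑ d, y d • u d) = _
    rw [hf.smul_left]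
    congr 1
    refine (map_sum (ψ _) _ _).trans ?_
    rw [Finset.sum_eq_single c]
    · change Cfsg.hermForm 3 F q (u c) (y c • u c) = _
      rw [Unit.smul_right hf, huu, mul_one, frobEquiv_apply]
    · intro d _ hd
      change Cfsg.hermForm 3 F q (u c) (y d • u d) = 0
      rw [Unit.smul_right hf, hon, if_neg (Ne.symm hd), mul_zero]
    · simp
  have hconj : ∀ g, g ∈ decompositionStabilizer D ↔ P⁻¹ * g * P ∈ monomialGroup (Fin 3) F := by
    intro g
    constructor
    · intro hg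
      obtain ⟨σ, hσ⟩ := exists_perm_of_mem hg
      refine mem_mono_of_perm fun a => ⟨σ a, fun y hy => ?_⟩
      obtain ⟨c, hc⟩ := hline (σ a) _ (hσ a _ (huD a))
      rw [← UFrame.col_apply, UFrame.col, mul_mulVec, mul_mulVec, hPe, hc, ← hPe, ← Matrix.mulVec_smul, inv_mulVec_mulVec]
      simp [hy]
    · intro hm
      obtain ⟨π, hπ⟩ := mem_monomialGroup.1 hm
      refine mem_decompositionStabilizer_of hD.decomp π fun i x hx => ?_
      obtain ⟨a, rfl⟩ := hline i x hx
      rw [Matrix.mulVec_smul]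
      refine (D (π i)).smul_mem _ ?_
      have e : UFrame.col (P⁻¹ * g * P) i = ((P⁻¹ * g * P : GL (Fin 3) F) : Matrix (Fin 3) (Fin 3) F) (π i) i • Pi.single (π i) 1 :=
        funext fun r => by
          rw [UFrame.col_apply, Pi.smul_apply, smul_eq_mul]
          rcases eq_or_ne r (π i) with rfl | h
          · simp
          · simp [h, hπ r i h]
      have e2 := congrArg (fun r => (P : Matrix (Fin 3) (Fin 3) F) *ᵥ r) e
      simp only [UFrame.col, mul_mulVec, mulVec_inv_mulVec, Matrix.mulVec_smul, hPe] at e2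
      rw [e2]
      exact (D (π i)).smul_mem _ (huD _)
  have hdet1 : ∀ g A : GL (Fin 3) F, g ∈ specialLinear (Fin 3) F → A⁻¹ * g * A ∈ specialLinear (Fin 3) F :=
    fun g A hg => mem_specialLinear.2 (by
      rw [Units.val_mul, Units.val_mul, Matrix.det_mul, Matrix.det_mul, mem_specialLinear.1 hg, mul_one,
        ← Matrix.det_mul, ← Units.val_mul, inv_mul_cancel, Units.val_one, Matrix.det_one])
  have hsu : ∀ g, g ∈ suGL 3 F q → P⁻¹ * g * P ∈ suGL 3 F q ∧ P * g * P⁻¹ ∈ suGL 3 F q := fun g hg =>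
    ⟨⟨(Cfsg.GU 3 F q).mul_mem ((Cfsg.GU 3 F q).mul_mem ((Cfsg.GU 3 F q).inv_mem hPG) hg.1) hPG, hdet1 g P hg.2⟩,
     ⟨(Cfsg.GU 3 F q).mul_mem ((Cfsg.GU 3 F q).mul_mem hPG hg.1) ((Cfsg.GU 3 F q).inv_mem hPG), by
      have := hdet1 g P⁻¹ hg.2
      rwa [inv_inv] at this⟩⟩
  have hcc : ∀ g : GL (Fin 3) F, P * (P⁻¹ * g * P) * P⁻¹ = g := fun g => by group
  have hcc' : ∀ g : GL (Fin 3) F, P⁻¹ * (P * g * P⁻¹) * P = g := fun g => by group
  refine isMaximalIn_of_key (fun h => frame_proper hF hq fun g hg => ?_) fun M hM hMI hMX => ?_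
  · have := (hconj _).1 (h (hsu g hg).2)
    rwa [hcc'] at this
  · have key : suGL 3 F q ≤ M.comap (MulAut.conj P).toMonoidHom := by
      refine frame_key hF hq hq5 (fun g hg => ?_) (fun g hg => ?_) (fun h => hMX fun g hg => ?_)
      · exact hM ⟨(hconj _).2 (by show P⁻¹ * (P * g * P⁻¹) * P ∈ _; rw [hcc']; exact hg.1), (hsu g hg.2).2⟩
      · have := (hsu _ (hMI (show P * g * P⁻¹ ∈ M from hg))).1
        rwa [hcc'] at this
      · refine (hconj g).2 (h ?_)
        show P * (P⁻¹ * g * P) * P⁻¹ ∈ M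
        rw [hcc]; exact hg
    intro g hg
    have := key (hsu g hg).1
    change P * (P⁻¹ * g * P) * P⁻¹ ∈ M at this
    rwa [hcc] at this

end CfsgLib.Geo.SU3
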