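/-
Torus elements between two centres, and the number of centres.
-/
import Cfsg.Agent.Geo.SUThree.Stab
import Cfsg.Agent.Geo.SLThree.Plane

set_option autoImplicit false
set_option linter.unusedSectionVars false

namespace CfsgLib.Geo.SU3

open Matrix Cfsg Cfsg.Geo CfsgLib.Geo CfsgLib.Geo.UTv CfsgLib.Dickson
open scoped Classical OnePoint

variable {q : ℕ} {F : Type*} [Field F] [Finite F] (hF : Nat.card F = q ^ 2) {M : Subgroup (GL (Fin 3) F)}

local notation "hh" => Cfsg.hermForm 3 F q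

/-- An isotropic vector carrying a transvection of `M`. -/
def IsCentre (M : Subgroup (GL (Fin 3) F)) (v : Fin 3 → F) : Prop :=
  v ≠ 0 ∧ Cfsg.hermForm 3 F q v v = 0 ∧ tvParam hF M v ≠ ⊥

include hF

lemma axis_smul (a : F) (v : Fin 3 → F) (c : F) :
    a • uax q (a • v) c = uax q v (a * frobEquiv hF a * c) := by
  rw [uax, uax, Unit.axisOf_smul (isUnitaryForm hF (n := 3)), smul_smul, smul_smul]
  congr 1
  ring

lemma mem_param_smul {a : F} (ha : a ≠ 0) {v : Fin 3 → F} {c : F} :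
    c ∈ tvParam hF M (a • v) ↔ a * frobEquiv hF a * c ∈ tvParam hF M v := by
  have hf := isUnitaryForm hF (n := 3)
  have hk : (a * frobEquiv hF a) ^ q = a * frobEquiv hF a := by
    rw [← frobEquiv_apply hF (a * frobEquiv hF a), map_mul, hf.involutive]; ring
  constructor
  · rintro ⟨hc, h⟩
    refine ⟨?_, ?_⟩
    · rw [mul_pow, hk]
      linear_combination (a * frobEquiv hF a) * hc
    · rw [← axis_smul hF]
      exact (hasTv_smul_iff a ha).1 h
  · rintro ⟨hc, h⟩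
    refine ⟨?_, (hasTv_smul_iff a ha).2 (by rw [axis_smul hF]; exact h)⟩
    have h2 : (a * frobEquiv hF a) * (c + c ^ q) = 0 := by
      rw [mul_pow, hk] at hc
      linear_combination hc
    exact (mul_eq_zero.1 h2).resolve_left (mul_ne_zero ha ((map_ne_zero _).2 ha))

lemma card_param_smul {a : F} (ha : a ≠ 0) (v : Fin 3 → F) :
    Nat.card (tvParam hF M (a • v)) = Nat.card (tvParam hF M v) := by
  have hk : a * frobEquiv hF a ≠ 0 := mul_ne_zero ha ((map_ne_zero _).2 ha)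
  refine Nat.card_congr (Equiv.ofBijective (fun c => ⟨_, (mem_param_smul hF ha).1 c.2⟩)
    ⟨fun x y h => Subtype.ext (mul_left_cancel₀ hk (congrArg Subtype.val h)),
      fun c => ⟨⟨(a * frobEquiv hF a)⁻¹ * c, (mem_param_smul hF ha).2 ?_⟩, Subtype.ext ?_⟩⟩)
  · rw [← mul_assoc, mul_inv_cancel₀ hk, one_mul]; exact c.2
  · show a * frobEquiv hF a * ((a * frobEquiv hF a)⁻¹ * c) = c
    rw [← mul_assoc, mul_inv_cancel₀ hk, one_mul]

lemma param_le_conj (hMI : M ≤ suGL 3 F q) {g : GL (Fin 3) F} (hg : g ∈ M) (v : Fin 3 → F) :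
    tvParam hF M v ≤ tvParam hF M ((g : Matrix (Fin 3) (Fin 3) F) *ᵥ v) := by
  rintro c ⟨hc, h⟩
  refine ⟨hc, ?_⟩
  have e : uax q ((g : Matrix (Fin 3) (Fin 3) F) *ᵥ v) c =
      uax q v c ᵥ* ((g⁻¹ : GL (Fin 3) F) : Matrix (Fin 3) (Fin 3) F) := by
    refine dotProduct_eq _ _ fun x => ?_
    rw [smul_dotProduct, axisOf_dot, ← Matrix.dotProduct_mulVec, smul_dotProduct, axisOf_dot,
      ← herm_mulVec (hMI hg) _ v, mulVec_inv_mulVec]
  rw [e]
  exact h.conj hg

lemma param_conj (hMI : M ≤ suGL 3 F q) {g : GL (Fin 3) F} (hg : g ∈ M) (v : Fin 3 → F) :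
    tvParam hF M ((g : Matrix (Fin 3) (Fin 3) F) *ᵥ v) = tvParam hF M v := by
  refine le_antisymm ?_ (param_le_conj hF hMI hg v)
  have := param_le_conj hF hMI (M.inv_mem hg) ((g : Matrix (Fin 3) (Fin 3) F) *ᵥ v)
  rwa [Matrix.mulVec_mulVec, ← Units.val_mul, inv_mul_cancel, Units.val_one, Matrix.one_mulVec] at this

lemma exists_tv_of_centre {v : Fin 3 → F} (hv : IsCentre hF M v) :
    ∃ c, c ∈ tvParam hF M v ∧ c ≠ 0 := by
  by_contra h
  push Not at h
  exact hv.2.2 ((AddSubgroup.eq_bot_iff_forall _).2 h)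

lemma centre_smul {a : F} (ha : a ≠ 0) {v : Fin 3 → F} (hv : IsCentre hF M v) : IsCentre hF M (a • v) := by
  have hf := isUnitaryForm hF (n := 3)
  obtain ⟨c, hc, hc0⟩ := exists_tv_of_centre hF hv
  have hk : a * frobEquiv hF a ≠ 0 := mul_ne_zero ha ((map_ne_zero _).2 ha)
  refine ⟨smul_ne_zero ha hv.1, by rw [hf.smul_left, Unit.smul_right hf, hv.2.1, mul_zero, mul_zero], fun h => ?_⟩
  have h1 : (a * frobEquiv hF a)⁻¹ * c ∈ tvParam hF M (a • v) :=
    (mem_param_smul hF ha).2 (by rw [← mul_assoc, mul_inv_cancel₀ hk, one_mul]; exact hc)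
  rw [h, AddSubgroup.mem_bot] at h1
  exact mul_ne_zero (inv_ne_zero hk) hc0 h1

lemma centre_conj (hMI : M ≤ suGL 3 F q) {g : GL (Fin 3) F} (hg : g ∈ M) {v : Fin 3 → F} (hv : IsCentre hF M v) :
    IsCentre hF M ((g : Matrix (Fin 3) (Fin 3) F) *ᵥ v) :=
  ⟨SL3.Plane.mulVec_ne_zero' g hv.1, by rw [herm_mulVec (hMI hg)]; exact hv.2.1,
    by rw [param_conj hF hMI hg]; exact hv.2.2⟩

/-- A fixed point of a transvection on the chord is its centre. -/
lemma tv_fix {v : Fin 3 → F} (hv : hh v v = 0) {c : F} (hc0 : c ≠ 0) {y : Fin 3 → F}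
    (hy0 : y ≠ 0) (hy : hh y y = 0) {g : GL (Fin 3) F}
    (hg : ∀ x, (g : Matrix (Fin 3) (Fin 3) F) *ᵥ x = x + (c * hh x v) • v)
    (h : (g : Matrix (Fin 3) (Fin 3) F) *ᵥ y ∈ F ∙ y) (hv0 : v ≠ 0) : y ∈ F ∙ v := by
  rw [hg] at h
  have h2 : (c * hh y v) • v ∈ F ∙ y := by
    simpa using (F ∙ y).sub_mem h (Submodule.mem_span_singleton_self y)
  obtain ⟨l, hl⟩ := Submodule.mem_span_singleton.1 h2
  rcases eq_or_ne (hh y v) 0 with h0 | h0
  · exact mem_span_of_orth hF hv0 hv hy h0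
  · have hl0 : l ≠ 0 := fun e => by
      rw [e, zero_smul] at hl
      exact smul_ne_zero (mul_ne_zero hc0 h0) hv0 hl.symm
    refine Submodule.mem_span_singleton.2 ⟨l⁻¹ * (c * hh y v), ?_⟩
    rw [mul_smul, ← hl, smul_smul, inv_mul_cancel₀ hl0, one_smul]

/-- An order divisible by `q` on a chord gives a full centre. -/
theorem full_of_dvd {p a : ℕ} [Fact p.Prime] [CharP F p] (hq : q = p ^ a) {w : Fin 3 → F} (hw : hh w w ≠ 0)
    {G' : Type*} [Group G'] {ρ : lineStab q w →* G'} (hdvd : q ∣ Nat.card ((M.subgroupOf (lineStab q w)).map ρ)) :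
    ∃ v, v ≠ 0 ∧ Full q M v := by
  set L := M ⊓ lineStab q w
  have hdvd' : q ∣ Nat.card L := by
    refine hdvd.trans ((Subgroup.card_map_dvd _ _).trans (dvd_of_eq ?_))
    exact Nat.card_congr
      { toFun := fun g => ⟨((g : lineStab q w) : GL (Fin 3) F), g.2, (g : lineStab q w).2⟩
        invFun := fun g => ⟨⟨(g : GL (Fin 3) F), g.2.2⟩, g.2.1⟩
        left_inv := fun g => rfl
        right_inv := fun g => rfl }
  let Q : Sylow p L := default
  refine full_of_pgroup hF (p := p) hw (Q := (Q : Subgroup L).map L.subtype) ?_ ?_ (Q.2.map _) ?_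
  · rintro _ ⟨g, -, rfl⟩
    exact g.2.1
  · rintro _ ⟨g, -, rfl⟩
    exact g.2.2
  · rw [Subgroup.card_map_of_injective Subtype.val_injective, Q.card_eq_multiplicity]
    refine Nat.le_of_dvd (pow_pos (Fact.out : p.Prime).pos _) ?_
    rw [hq] at hdvd' ⊢
    exact Nat.pow_dvd_pow p ((Nat.Prime.pow_dvd_iff_le_factorization Fact.out Nat.card_pos.ne').1 hdvd')

namespace Frame

variable {e f w : Fin 3 → F} (hB : Frame q e f w) (hMI : M ≤ suGL 3 F q)
include hB hMI

/-- Two centres with at least four transvection parameters span a line carrying a torus of the group; the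
ratios of the parameters lie in a subfield, which is proper unless there is a full centre. -/
theorem exists_torus_field {p a : ℕ} [Fact p.Prime] [CharP F p] (hq : q = p ^ a) (he : IsCentre hF M e)
    (hf : IsCentre hF M f) (h4 : 4 ≤ Nat.card (tvParam hF M e)) :
    (∃ g ∈ M, ∃ lam : F, (g : Matrix (Fin 3) (Fin 3) F) *ᵥ e = lam • e ∧
      (g : Matrix (Fin 3) (Fin 3) F) *ᵥ f ∈ F ∙ f ∧ lam * frobEquiv hF lam ≠ 1) ∧
    ∃ K : Subfield F, (∀ x ∈ K, frobEquiv hF x = x) ∧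
      (∀ c ∈ tvParam hF M e, ∀ d ∈ tvParam hF M e, c / d ∈ K) ∧
      (q ≤ Nat.card K → ∃ v, v ≠ 0 ∧ Full q M v) := by
  have hU := isUnitaryForm hF (n := 3)
  obtain ⟨δ, hδ0, hδ⟩ := Unit.exists_skew hU.ne_refl hU.involutive
  set k := fixF hF
  haveI : CharP k p := (k.subtype.charP_iff Subtype.val_injective p).2 inferInstance
  haveI := CfsgLib.Dickson.Torus.finite_pgl k
  set ρ := hB.rho hF hδ0 hδ
  set H := (M.subgroupOf (lineStab q w)).map ρ
  -- the transvections as elements of the line stabiliser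
  have htv : ∀ v, hh v v = 0 → hh w v = 0 → ∀ c ∈ tvParam hF M v, ∃ g : lineStab q w, (g : GL (Fin 3) F) ∈ M ∧
      ∀ x, ((g : GL (Fin 3) F) : Matrix (Fin 3) (Fin 3) F) *ᵥ x = x + (c * hh x v) • v := by
    rintro v hv hwv c ⟨hc, hd, hm⟩
    refine ⟨⟨tvec v (uax q v c) hd, (mem_lineStab hF).2 ⟨?_, hMI hm⟩⟩, hm, fun x => utv_mulVec hF hv c x⟩
    rw [utv_mulVec hF hv, hwv, mul_zero, zero_smul, add_zero]
    exact Submodule.mem_span_singleton_self w
  choose T hTM hT using htv e hB.ee hB.we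
  have hp0 : ∀ c ∈ tvParam hF M e, ∀ x : Fin 3 → F, x + ((p : F) * c * hh x e) • e = x := fun c hc x => by
    rw [CharP.cast_eq_zero F p, zero_mul, zero_mul, zero_smul, add_zero]
  let τ : tvParam hF M e → PGL2 k := fun c => ρ (T c c.2)
  have hτinj : ∀ c : tvParam hF M e, τ c = 1 → c = 0 := fun c hc => by
    obtain ⟨u, hu⟩ := hB.scalar_of_rho hF hδ0 hδ hc
    have h1 := hu f (hB.fw hF)
    rw [hT, hB.fe hF, mul_one] at h1
    obtain ⟨h2, -, -⟩ := hB.inj hF (a := (c : F)) (b := 1) (c := 0) (a' := 0) (b' := u) (c' := 0) (by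
      rw [one_smul, zero_smul, zero_smul, add_zero, add_zero, zero_add, add_comm, h1])
    exact Subtype.ext h2
  have hτadd : ∀ c d : tvParam hF M e, τ (c + d) = τ c * τ d := fun c d => by
    simp only [τ]
    rw [← map_mul]
    congr 1
    refine Subtype.ext (gl_ext_mulVec fun x => ?_)
    rw [Subgroup.coe_mul, mul_mulVec, hT, hT, hT, AddSubgroup.coe_add, hU.add_left, hU.smul_left, hB.ee]
    module
  have hτ0 : τ 0 = 1 := by
    have := hτadd 0 0
    rw [add_zero] at this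
    exact left_eq_mul.1 this
  let τH : Multiplicative (tvParam hF M e) →* H :=
    MonoidHom.mk' (fun c => ⟨τ c.toAdd, _, hTM c.toAdd c.toAdd.2, rfl⟩) fun c d => Subtype.ext (hτadd _ _)
  have hτH : Function.Injective τH := (injective_iff_map_eq_one τH).2 fun c hc =>
    toAdd_eq_zero.1 (hτinj _ (congrArg Subtype.val hc))
  have hdvd : Nat.card (tvParam hF M e) ∣ Nat.card H := by
    rw [← Nat.card_congr (Multiplicative.toAdd (α := tvParam hF M e))]
    exact Subgroup.card_dvd_of_injective τH hτH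
  have hpow : ∃ j, Nat.card (tvParam hF M e) = p ^ j := by
    have hexp : ∀ x : Multiplicative (tvParam hF M e), x ^ p = 1 := fun x => toAdd_eq_zero.1 (by
      rw [toAdd_pow]
      refine Subtype.ext ?_
      rw [AddSubgroup.coe_nsmul, nsmul_eq_mul, CharP.cast_eq_zero F p, zero_mul]
      rfl)
    have hP : IsPGroup p (Multiplicative (tvParam hF M e)) := fun x => ⟨1, by rw [pow_one]; exact hexp x⟩
    obtain ⟨j, hj⟩ := IsPGroup.iff_card.1 hP
    exact ⟨j, by rw [← Nat.card_congr (Multiplicative.toAdd (α := tvParam hF M e))]; exact hj⟩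
  obtain ⟨j, hj⟩ := hpow
  obtain ⟨c₀, hc₀, hc₀0⟩ := exists_tv_of_centre hF he
  obtain ⟨d₀, hd₀, hd₀0⟩ := exists_tv_of_centre hF hf
  obtain ⟨Tf, hTfM, hTf⟩ := htv f hB.ff hB.wf d₀ hd₀
  set A := ρ (T c₀ hc₀)
  set B := ρ Tf
  have hA : A ∈ H := ⟨_, hTM c₀ hc₀, rfl⟩
  have hBm : B ∈ H := ⟨_, hTfM, rfl⟩
  -- fixed points of the two transvections
  have hfixA : ∀ {v}, v ≠ 0 → hh v v = 0 → ((T c₀ hc₀ : GL (Fin 3) F) : Matrix (Fin 3) (Fin 3) F) *ᵥ v ∈ F ∙ v →
      v ∈ F ∙ e := fun {v} hv0 hvv h => tv_fix hF hB.ee hc₀0 hv0 hvv (hT c₀ hc₀) h (hB.e_ne hF)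
  have hfixB : ∀ {v}, v ≠ 0 → hh v v = 0 → ((Tf : GL (Fin 3) F) : Matrix (Fin 3) (Fin 3) F) *ᵥ v ∈ F ∙ v →
      v ∈ F ∙ f := fun {v} hv0 hvv h => tv_fix hF hB.ff hd₀0 hv0 hvv hTf h (hB.f_ne hF)
  have hsep : ∀ {v}, v ≠ 0 → v ∈ F ∙ e → v ∈ F ∙ f → False := fun {v} hv0 h1 h2 => by
    obtain ⟨r, hr⟩ := Submodule.mem_span_singleton.1 h1
    obtain ⟨s, hs⟩ := Submodule.mem_span_singleton.1 h2
    have h3 := congrArg (fun y => hh y e) (hr.trans hs.symm)
    simp only [hU.smul_left, hB.ee, hB.fe hF, mul_zero, mul_one] at h3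
    rw [← h3, zero_smul] at hs
    exact hv0 hs.symm
  have hA1 : A ≠ 1 := fun h => hc₀0 (congrArg Subtype.val (hτinj ⟨c₀, hc₀⟩ h))
  have hB1 : B ≠ 1 := fun h => by
    obtain ⟨u, hu⟩ := hB.scalar_of_rho hF hδ0 hδ h
    have h1 := hu e (hB.ew hF)
    rw [hTf, hB.ef, mul_one] at h1
    obtain ⟨-, h2, -⟩ := hB.inj hF (a := 1) (b := d₀) (c := 0) (a' := u) (b' := 0) (c' := 0) (by
      rw [one_smul, zero_smul, zero_smul, add_zero, add_zero, h1, add_zero])
    exact hd₀0 h2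
  rcases pgl_classification p (algebraMap k (AlgebraicClosure k)) H with
    ⟨-, x, hx⟩ | ⟨hnp, -⟩ | ⟨n, -, hpn, hn, -⟩ | ⟨h5, hn, -⟩ | ⟨h5, hn, -⟩ | ⟨hp2, hp5, hn, -⟩ |
      ⟨fd, m, hfd, hm, -, ψ, h, hH⟩
  · exfalso
    obtain ⟨v, hv0, hvv, -, hv⟩ := hB.exists_iso_of_fix hF hδ0 hδ x
    exact hsep hv0 (hfixA hv0 hvv (hv _ (hx A hA))) (hfixB hv0 hvv (hv _ (hx B hBm)))
  · exfalso
    refine hnp ?_
    refine (dvd_pow_self p (fun h0 => ?_)).trans (hj ▸ hdvd)
    rw [h0, pow_zero] at hj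
    omega
  · exfalso
    rw [hn, hj] at hdvd
    rcases eq_or_ne p 2 with hp | hp
    · have hodd : Odd n := Nat.odd_iff.2 (by rw [hp] at hpn; omega)
      rcases le_or_gt j 1 with hj1 | hj1
      · have : p ^ j ≤ p := (Nat.pow_le_pow_right (Fact.out : p.Prime).pos hj1).trans (pow_one p).le
        omega
      · have h22 : 4 ∣ 2 * n := by
          refine dvd_trans ?_ hdvd
          rw [hp]
          exact pow_dvd_pow 2 hj1
        rw [Nat.odd_iff] at hodd
        omega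
    · refine hpn ?_
      have : p ∣ 2 * n := (dvd_pow_self p (fun h0 => by rw [h0, pow_zero] at hj; omega)).trans hdvd
      exact ((Fact.out : p.Prime).dvd_mul.1 this).resolve_left fun h2 =>
        hp ((Nat.prime_dvd_prime_iff_eq Fact.out Nat.prime_two).1 h2)
  · exfalso
    rw [hn, hj] at hdvd
    have h12 : p ∣ 12 := (dvd_pow_self p (fun h0 => by rw [h0, pow_zero] at hj; omega)).trans hdvd
    have := Nat.le_of_dvd (by norm_num) h12
    have hp' := (Fact.out : p.Prime)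
    interval_cases p <;> first | omega | exact absurd hp' (by norm_num)
  · exfalso
    rw [hn, hj] at hdvd
    have h24 : p ∣ 24 := (dvd_pow_self p (fun h0 => by rw [h0, pow_zero] at hj; omega)).trans hdvd
    have := Nat.le_of_dvd (by norm_num) h24
    have hp' := (Fact.out : p.Prime)
    interval_cases p <;> first | omega | exact absurd hp' (by norm_num)
  · exfalso
    rw [hn, hj] at hdvd
    have h60 : p ∣ 60 := (dvd_pow_self p (fun h0 => by rw [h0, pow_zero] at hj; omega)).trans hdvd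
    have hp3 : p = 3 := by
      have hp' : p.Prime := Fact.out
      have h3 : p ∣ 2 ^ 2 * 3 * 5 := by norm_num; exact h60
      rcases hp'.dvd_mul.1 h3 with h3 | h3
      · rcases hp'.dvd_mul.1 h3 with h3 | h3
        · exact absurd ((Nat.prime_dvd_prime_iff_eq hp' Nat.prime_two).1 (hp'.dvd_of_dvd_pow h3)) hp2
        · exact (Nat.prime_dvd_prime_iff_eq hp' Nat.prime_three).1 h3
      · exact absurd ((Nat.prime_dvd_prime_iff_eq hp' (by norm_num)).1 h3) hp5
    rw [hp3] at hj hdvd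
    rcases le_or_gt j 1 with hj1 | hj1
    · interval_cases j <;> omega
    · have : 9 ∣ 60 := (pow_dvd_pow 3 hj1).trans hdvd
      omega
  -- the subfield case
  haveI : Fact p.Prime := ‹_›
  let L := GaloisField p fd
  haveI := CfsgLib.Dickson.Torus.finite_pgl L
  have hL : Nat.card L = p ^ fd := GaloisField.card p fd (by omega)
  set Ψ := Matrix.ProjGenLinGroup.map (n := Fin 2) ψ
  have hmem : ∀ x, x ∈ H → ∃ y : PGL2 L, Ψ y = h * x * h⁻¹ := fun x hx => by
    have h1 : h * x * h⁻¹ ∈ conjH h H := mem_conjH hx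
    rcases hH with hH | ⟨-, hH⟩ <;> rw [hH] at h1
    · exact h1
    · obtain ⟨y, hy⟩ := h1
      exact ⟨_, hy⟩
  have hcard4 : 4 ≤ p ^ fd := by
    have hc : Nat.card H = Nat.card (conjH h H) := Nat.card_congr (conjHEquiv h H).toEquiv
    have hd : Nat.card H ∣ p ^ fd * ((p ^ fd) ^ 2 - 1) := by
      have e1 : Nat.card (pglImage ψ) = p ^ fd * ((p ^ fd) ^ 2 - 1) := by
        rw [← Nat.card_congr (pglImageEquiv ψ).toEquiv, CfsgLib.Linear.PSLTwo.card_pgl, hL]
      rw [hc]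
      rcases hH with hH | ⟨-, hH⟩
      · rw [hH, e1]
      · rw [hH, ← e1]
        refine Subgroup.card_dvd_of_le ?_
        rintro _ ⟨y, rfl⟩
        exact ⟨_, rfl⟩
    have h1 := hdvd.trans hd
    rw [hj] at h1
    have hcop : Nat.Coprime (p ^ j) ((p ^ fd) ^ 2 - 1) := by
      refine Nat.Coprime.pow_left j ((Nat.Prime.coprime_iff_not_dvd Fact.out).2 fun h2 => ?_)
      have hp1 : p ∣ (p ^ fd) ^ 2 := dvd_pow (dvd_pow_self p (by omega)) two_ne_zero
      have h3 := Nat.dvd_sub hp1 h2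
      rw [Nat.sub_sub_self (Nat.one_le_pow _ _ (pow_pos (Fact.out : p.Prime).pos _))] at h3
      exact (Fact.out : p.Prime).one_lt.ne' (Nat.dvd_one.1 h3)
    have := Nat.le_of_dvd (pow_pos (Fact.out : p.Prime).pos _) (hcop.dvd_of_dvd_mul_right h1)
    omega
  haveI : CharP L p := inferInstance
  have hpA : A ^ p = 1 := by
    have : (T c₀ hc₀) ^ p = 1 := Subtype.ext (gl_ext_mulVec fun x => by
      have hn : ∀ i : ℕ, (((T c₀ hc₀ : GL (Fin 3) F) ^ i : GL (Fin 3) F) : Matrix (Fin 3) (Fin 3) F) *ᵥ x =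
          x + ((i : F) * c₀ * hh x e) • e := fun i => by
        induction i with
        | zero => simp
        | succ i ih =>
          rw [pow_succ', mul_mulVec, ih, hT, hU.add_left, hU.smul_left, hB.ee, Nat.cast_succ]
          module
      rw [Subgroup.coe_pow, hn, hp0 c₀ hc₀, Subgroup.coe_one, Units.val_one, Matrix.one_mulVec])
    rw [← map_pow, this, map_one]
  have hpB : B ^ p = 1 := by
    have : Tf ^ p = 1 := Subtype.ext (gl_ext_mulVec fun x => by
      have hn : ∀ i : ℕ, (((Tf : GL (Fin 3) F) ^ i : GL (Fin 3) F) : Matrix (Fin 3) (Fin 3) F) *ᵥ x =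
          x + ((i : F) * d₀ * hh x f) • f := fun i => by
        induction i with
        | zero => simp
        | succ i ih =>
          rw [pow_succ', mul_mulVec, ih, hTf, hU.add_left, hU.smul_left, hB.ff, Nat.cast_succ]
          module
      rw [Subgroup.coe_pow, hn, CharP.cast_eq_zero F p, zero_mul, zero_mul, zero_smul, add_zero, Subgroup.coe_one,
        Units.val_one, Matrix.one_mulVec])
    rw [← map_pow, this, map_one]
  -- the rational fixed points
  have hfixed : ∀ X : PGL2 k, X ∈ H → X ≠ 1 → X ^ p = 1 →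
      ∃ z : OnePoint L, X • (h⁻¹ • OnePoint.map ψ z) = h⁻¹ • OnePoint.map ψ z := fun X hX hX1 hXp => by
    obtain ⟨y, hy⟩ := hmem X hX
    have hyp : y ^ p = 1 := mapHom_injective ψ (by rw [map_pow, hy, conj_pow, hXp, map_one]; group)
    obtain ⟨z, hz⟩ := exists_fix_of_isPGroup p (Subgroup.zpowers y) (fun g => by
      obtain ⟨i, hi⟩ := g.2
      exact ⟨1, Subtype.ext (by
        rw [Subgroup.coe_pow, pow_one, Subgroup.coe_one, ← hi, ← zpow_natCast, ← _root_.zpow_mul, mul_comm, _root_.zpow_mul,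
          zpow_natCast, hyp, _root_.one_zpow])⟩)
    refine ⟨z, ?_⟩
    have := congrArg (OnePoint.map ψ) (hz y (Subgroup.mem_zpowers y))
    rw [← mapHom_smul, hy, mul_smul, mul_smul, smul_eq_iff_eq_inv_smul] at this
    exact this
  obtain ⟨zP, hzP⟩ := hfixed A hA hA1 hpA
  obtain ⟨zR, hzR⟩ := hfixed B hBm hB1 hpB
  obtain ⟨vP, hvP0, hvPv, -, hvP⟩ := hB.exists_iso_of_fix hF hδ0 hδ (h⁻¹ • OnePoint.map ψ zP)
  obtain ⟨vR, hvR0, hvRv, -, hvR⟩ := hB.exists_iso_of_fix hF hδ0 hδ (h⁻¹ • OnePoint.map ψ zR)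
  have hPe := hfixA hvP0 hvPv (hvP _ hzP)
  have hRf := hfixB hvR0 hvRv (hvR _ hzR)
  have hne : zP ≠ zR := fun heq => hsep hvP0 hPe (hfixB hvP0 hvPv (hvP _ (heq ▸ hzR)))
  refine ⟨?_, ?_⟩
  swap
  · -- the parameters become rational after conjugation
    obtain ⟨g₀, hg₀⟩ := exists_smul_eq_infty zP
    set h0 := Ψ g₀ * h
    have hτaff : ∀ c : tvParam hF M e, τ c = aff (1 : kˣ) ⟨δ * (c : F), by
        rw [mem_fixF hF, map_mul, hδ, frobEquiv_apply hF (c : F)]
        linear_combination (-δ) * c.2.1⟩ := fun c => by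
      refine mapHom_injective (fixF hF).subtype ?_
      rw [hB.map_rho hF hδ0 hδ, aff, mob, Matrix.ProjGenLinGroup.map_mk]
      congr 1
      ext i j
      rw [hB.chordHom_val hF hδ0]
      fin_cases i <;> fin_cases j <;>
        simp [Frame.chordMat, hT _ c.2, hU.add_left, hU.smul_left, hB.ee, hB.ff, hB.ef, hB.fe hF,
          Matrix.GeneralLinearGroup.mkOfDetNeZero, Matrix.GeneralLinearGroup.map]
    have hinf : h⁻¹ • OnePoint.map ψ zP = (∞ : OnePoint k) := by
      have hz : A • (h⁻¹ • OnePoint.map ψ zP) = h⁻¹ • OnePoint.map ψ zP := hzP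
      change τ ⟨c₀, hc₀⟩ • _ = _ at hz
      rw [hτaff] at hz
      rcases hc' : h⁻¹ • OnePoint.map ψ zP with _ | t
      · rfl
      · rw [hc'] at hz
        change aff (1 : kˣ) _ • ((t : k) : OnePoint k) = (t : k) at hz
        rw [aff_smul_coe] at hz
        have h1 := OnePoint.coe_injective hz
        rw [Units.val_one, one_mul, add_eq_left] at h1
        exact absurd (congrArg Subtype.val h1) (mul_ne_zero hδ0 hc₀0)
    have hh0 : h0 • (∞ : OnePoint k) = ∞ := by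
      simp only [h0]
      rw [mul_smul, ← hinf, smul_inv_smul, mapHom_smul, hg₀, OnePoint.map_infty, hinf]
    obtain ⟨u, b, hub⟩ := eq_aff_of_fix_infty hh0
    have hrat : ∀ c : tvParam hF M e, ∃ x : L, (ψ x : F) = ((u : k) : F) * (δ * (c : F)) := fun c => by
      obtain ⟨y, hy⟩ := hmem (τ c) ⟨_, hTM c c.2, rfl⟩
      obtain ⟨cc, hcc, hτc⟩ : ∃ cc : k, (cc : F) = δ * (c : F) ∧ τ c = aff (1 : kˣ) cc := ⟨_, rfl, hτaff c⟩
      have e1 : Ψ (g₀ * y * g₀⁻¹) = aff (1 : kˣ) ((u : k) * cc) := by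
        rw [map_mul, map_mul, map_inv, hy, hτc,
          show Ψ g₀ * (h * aff (1 : kˣ) cc * h⁻¹) * (Ψ g₀)⁻¹ = h0 * aff (1 : kˣ) cc * h0⁻¹
            by simp [h0, mul_assoc], hub, mul_inv_eq_iff_eq_mul, aff_mul, aff_mul]
        congr 1 <;> simp [add_comm]
      have h2 : (g₀ * y * g₀⁻¹) • (∞ : OnePoint L) = ∞ := by
        refine Option.map_injective ψ.injective ?_
        show OnePoint.map ψ ((g₀ * y * g₀⁻¹) • (∞ : OnePoint L)) = OnePoint.map ψ ∞
        rw [← mapHom_smul, e1, OnePoint.map_infty, aff_smul_infty]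
      obtain ⟨v, x, hvx⟩ := eq_aff_of_fix_infty h2
      refine ⟨x, ?_⟩
      have h3 := congrArg (fun X => X • ((0 : k) : OnePoint k)) e1
      simp only [hvx, aff_smul_coe, mul_zero, zero_add] at h3
      rw [show ((0 : k) : OnePoint k) = OnePoint.map ψ ((0 : L) : OnePoint L) by simp, mapHom_smul, aff_smul_coe,
        mul_zero, zero_add, OnePoint.map_some] at h3
      rw [← hcc]
      exact congrArg Subtype.val (OnePoint.coe_injective h3)
    refine ⟨((fixF hF).subtype.comp ψ).fieldRange, ?_, fun c hc d hd => ?_, fun hqK => ?_⟩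
    · rintro _ ⟨x, rfl⟩
      exact (mem_fixF hF).1 (ψ x).2
    · obtain ⟨x, hx⟩ := hrat ⟨c, hc⟩
      obtain ⟨y, hy⟩ := hrat ⟨d, hd⟩
      refine ⟨x / y, ?_⟩
      rw [map_div₀, RingHom.comp_apply, RingHom.comp_apply]
      show (ψ x : F) / (ψ y : F) = c / d
      rw [hx, hy, mul_div_mul_left _ _ (fun h1 => u.ne_zero (Subtype.ext h1)), mul_div_mul_left _ _ hδ0]
    · have hK : Nat.card ((fixF hF).subtype.comp ψ).fieldRange = p ^ fd := by
        rw [← hL]
        exact (Nat.card_congr (RingEquiv.ofBijective ((fixF hF).subtype.comp ψ).rangeRestrictField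
          ⟨RingHom.injective _,
           fun ⟨y, x, hx⟩ => ⟨x, Subtype.ext hx⟩⟩).toEquiv).symm
      rw [hK] at hqK
      have hqe : p ^ fd = q := le_antisymm (by
        rw [← card_fixF hF, ← hL]; exact Nat.card_le_card_of_injective ψ ψ.injective) hqK
      have hd2 : q ∣ Nat.card H := card_dvd_pgl_image hF hq ψ h hfd hqe hH
      exact full_of_dvd hF hq (hB.ww) (ρ := ρ) hd2
  -- a torus element of PSL fixing both
  obtain ⟨s, hs1, hsP, hsR, hsimg⟩ : ∃ s : PGL2 L, s ≠ 1 ∧ s • zP = zP ∧ s • zR = zR ∧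
      s ∈ CfsgLib.Dickson.Torus.pslTop L := by
    obtain ⟨g, hgP, hgR⟩ := exists_smul_pair hne
    obtain ⟨l, hl⟩ := IsCyclic.exists_ofOrder_eq_natCard (α := Lˣ)
    rw [Nat.card_units, hL] at hl
    let D : Matrix.SpecialLinearGroup (Fin 2) L := ⟨!![(l : L), 0; 0, ((l⁻¹ : Lˣ) : L)], by
      rw [Matrix.det_fin_two]; simp⟩
    let d : PGL2 L := Matrix.ProjGenLinGroup.mk (Matrix.SpecialLinearGroup.toGL D)
    have hd : d ∈ CfsgLib.Dickson.Torus.pslTop L := by
      rw [← CfsgLib.Dickson.Torus.pslTop_eq]; exact ⟨D, rfl⟩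
    have hd1 : d ≠ 1 := fun hd => by
      rw [Matrix.ProjGenLinGroup.mk_eq_one, Matrix.GeneralLinearGroup.center_eq_range_scalar] at hd
      obtain ⟨u, hu⟩ := hd
      have h00 : (u : L) = l := by
        have := congrArg (fun m : GL (Fin 2) L => (m : Matrix (Fin 2) (Fin 2) L) 0 0) hu
        simpa [D, Matrix.SpecialLinearGroup.toGL, Matrix.GeneralLinearGroup.coe_scalar] using this
      have h11 : (u : L) = ((l⁻¹ : Lˣ) : L) := by
        have := congrArg (fun m : GL (Fin 2) L => (m : Matrix (Fin 2) (Fin 2) L) 1 1) hu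
        simpa [D, Matrix.SpecialLinearGroup.toGL, Matrix.GeneralLinearGroup.coe_scalar] using this
      have h2 : l ^ 2 = 1 := by
        rw [pow_two, ← eq_inv_iff_mul_eq_one]
        exact Units.ext (h00.symm.trans h11)
      have := Nat.le_of_dvd two_pos (orderOf_dvd_of_pow_eq_one h2)
      omega
    have hdinf : d • (∞ : OnePoint L) = ∞ := by
      rw [mk_smul_eq, OnePoint.smul_infty_eq_self_iff]
      simp [D, Matrix.SpecialLinearGroup.toGL]
    have hd0 : d • ((0 : L) : OnePoint L) = ((0 : L) : OnePoint L) := by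
      rw [mk_smul_eq, OnePoint.smul_some_eq_ite]
      simp [D, Matrix.SpecialLinearGroup.toGL]
    refine ⟨g⁻¹ * d * g, fun h1 => hd1 (by
      have := congrArg (fun x => g * x * g⁻¹) h1
      simpa [mul_assoc] using this), ?_, ?_, ?_⟩
    · rw [mul_smul, mul_smul, hgP, hdinf, ← hgP, inv_smul_smul]
    · rw [mul_smul, mul_smul, hgR, hd0, ← hgR, inv_smul_smul]
    · have := (CfsgLib.Dickson.Torus.pslTop_normal L).conj_mem d hd g⁻¹
      rwa [inv_inv] at this
  have hsH : h⁻¹ * Ψ s * h ∈ H := by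
    have h1 : Ψ s ∈ conjH h H := by
      rcases hH with hH | ⟨-, hH⟩ <;> rw [hH]
      · exact ⟨s, rfl⟩
      · obtain ⟨y, hy⟩ := hsimg
        exact ⟨y, by rw [MonoidHom.comp_apply, hy]⟩
    obtain ⟨x, hx, hxe⟩ := h1
    have : h⁻¹ * Ψ s * h = x := by rw [← hxe]; simp [mul_assoc]
    rwa [this]
  obtain ⟨G, hGM, hGs⟩ := hsH
  have hfixP : ρ G • (h⁻¹ • OnePoint.map ψ zP) = h⁻¹ • OnePoint.map ψ zP := by
    rw [hGs, mul_smul, mul_smul, smul_inv_smul, mapHom_smul, hsP]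
  have hfixR : ρ G • (h⁻¹ • OnePoint.map ψ zR) = h⁻¹ • OnePoint.map ψ zR := by
    rw [hGs, mul_smul, mul_smul, smul_inv_smul, mapHom_smul, hsR]
  have transfer : ∀ {v u : Fin 3 → F}, v ≠ 0 → v ∈ F ∙ u →
      ((G : GL (Fin 3) F) : Matrix (Fin 3) (Fin 3) F) *ᵥ v ∈ F ∙ v →
      ((G : GL (Fin 3) F) : Matrix (Fin 3) (Fin 3) F) *ᵥ u ∈ F ∙ u := fun {v u} hv0 hvu hv => by
    obtain ⟨r, rfl⟩ := Submodule.mem_span_singleton.1 hvu
    have hr : r ≠ 0 := fun e => hv0 (by rw [e, zero_smul])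
    rw [Matrix.mulVec_smul, Submodule.span_singleton_smul_eq (IsUnit.mk0 r hr)] at hv
    simpa [smul_smul, hr] using Submodule.smul_mem _ r⁻¹ hv
  obtain ⟨lam, hlam⟩ := Submodule.mem_span_singleton.1 (transfer hvP0 hPe (hvP _ hfixP))
  have hf' := transfer hvR0 hRf (hvR _ hfixR)
  obtain ⟨nu, hnu⟩ := Submodule.mem_span_singleton.1 hf'
  refine ⟨G, hGM, lam, hlam.symm, hf', fun hN => hs1 ?_⟩
  have hnl : nu * frobEquiv hF lam = 1 := by
    have := herm_mulVec G.2.2 f e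
    rw [← hlam, ← hnu, hU.smul_left, Unit.smul_right hU, hB.fe hF, mul_one] at this
    exact this
  have heq : nu = lam := by linear_combination lam * hnl - nu * hN
  have h1 : ρ G = 1 := hB.rho_eq_one_of_scalar hF hδ0 hδ ⟨lam, fun y hy => by
    conv_lhs => rw [hB.expand_perp hF hy, Matrix.mulVec_add, Matrix.mulVec_smul, Matrix.mulVec_smul, ← hlam,
      ← hnu, heq]
    conv_rhs => rw [hB.expand_perp hF hy]
    module⟩
  rw [h1] at hGs
  apply mapHom_injective ψ
  rw [map_one]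
  have := congrArg (fun x => h * x * h⁻¹) hGs
  simpa [mul_assoc] using this.symm

/-- Two centres with at least four transvection parameters span a line carrying a torus of the group. -/
theorem exists_torus {p a : ℕ} [Fact p.Prime] [CharP F p] (hq : q = p ^ a) (he : IsCentre hF M e)
    (hf : IsCentre hF M f) (h4 : 4 ≤ Nat.card (tvParam hF M e)) :
    ∃ g ∈ M, ∃ lam : F, (g : Matrix (Fin 3) (Fin 3) F) *ᵥ e = lam • e ∧
      (g : Matrix (Fin 3) (Fin 3) F) *ᵥ f ∈ F ∙ f ∧ lam * frobEquiv hF lam ≠ 1 :=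
  (hB.exists_torus_field hF hMI hq he hf h4).1

/-- The group fixing `e` is semiregular on the other isotropic points. -/
lemma semiregular {g : GL (Fin 3) F} (hg : g ∈ fixVec M e) {v : Fin 3 → F} (hv : hh v v = 0) (hve : v ∉ F ∙ e)
    (hgv : (g : Matrix (Fin 3) (Fin 3) F) *ᵥ v ∈ F ∙ v) : g = 1 := by
  have hU := isUnitaryForm hF (n := 3)
  obtain ⟨h0, x, z, heq, hx⟩ := hB.normal_form hF hv hve
  set f' := x • e + f + z • w
  have hef' : hh e f' = 1 := by
    simp only [f', Unit.add_right hU, Unit.smul_right hU, hB.ee, hB.ef, hB.ew hF]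
    ring
  have hff' : hh f' f' = 0 := by rw [hB.unit_iso hF, hx]
  obtain ⟨w', hB'⟩ := exists_frame_of_pair hF hB.ee hff' hef'
  have hv' : (g : Matrix (Fin 3) (Fin 3) F) *ᵥ f' ∈ F ∙ f' := by
    rw [heq, Matrix.mulVec_smul, Submodule.span_singleton_smul_eq (IsUnit.mk0 _ h0)] at hgv
    simpa [smul_smul, h0, f'] using Submodule.smul_mem _ (hh v e)⁻¹ hgv
  obtain ⟨c, hc⟩ := Submodule.mem_span_singleton.1 hv'
  exact hB'.fixVec_eq_one hF hMI hg hc.symm

/-- With a torus between `e` and every other centre, the other centres form one orbit. -/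
theorem orbit_centres
    (htor : ∀ v, IsCentre hF M v → v ∉ F ∙ e → ∃ g ∈ M, ∃ lam : F, (g : Matrix (Fin 3) (Fin 3) F) *ᵥ e = lam • e ∧
      (g : Matrix (Fin 3) (Fin 3) F) *ᵥ v ∈ F ∙ v ∧ lam * frobEquiv hF lam ≠ 1)
    (hf : IsCentre hF M f) :
    ∀ v, IsCentre hF M v → v ∉ F ∙ e → ∃ u ∈ fixVec M e, (u : Matrix (Fin 3) (Fin 3) F) *ᵥ f ∈ F ∙ v := by
  have hU := isUnitaryForm hF (n := 3)
  have hsemi : ∀ {g : GL (Fin 3) F}, g ∈ fixVec M e → ∀ {v}, hh v v = 0 → v ∉ F ∙ e →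
      (g : Matrix (Fin 3) (Fin 3) F) *ᵥ v ∈ F ∙ v → g = 1 := fun {g} hg {v} hv hve hgv =>
    hB.semiregular hF hMI hg hv hve hgv
  -- the points fixed by a torus element
  have htwo : ∀ {g : GL (Fin 3) F}, g ∈ M → ∀ {lam : F}, (g : Matrix (Fin 3) (Fin 3) F) *ᵥ e = lam • e →
      lam * frobEquiv hF lam ≠ 1 → ∀ {u v}, hh u u = 0 → hh v v = 0 → u ∉ F ∙ e → v ∉ F ∙ e →
      (g : Matrix (Fin 3) (Fin 3) F) *ᵥ u ∈ F ∙ u → (g : Matrix (Fin 3) (Fin 3) F) *ᵥ v ∈ F ∙ v → v ∈ F ∙ u := by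
    intro g hg lam hlam hN u v hu hv hue hve hgu hgv
    obtain ⟨a, ha⟩ := Submodule.mem_span_singleton.1 hgu
    obtain ⟨b, hb⟩ := Submodule.mem_span_singleton.1 hgv
    have h1 : ∀ {y}, y ∉ F ∙ e → hh y y = 0 → ∀ {r}, (g : Matrix (Fin 3) (Fin 3) F) *ᵥ y = r • y →
        r * frobEquiv hF lam = 1 := by
      intro y hy hyy r hr
      have := herm_mulVec (hMI hg) y e
      rw [hr, hlam, hU.smul_left, Unit.smul_right hU, ← mul_assoc] at this
      exact (mul_eq_right₀ (fun h => hy (mem_span_of_orth hF (hB.e_ne hF) hB.ee hyy h))).1 this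
    have e1 := h1 hue hu ha.symm
    have e2 := h1 hve hv hb.symm
    by_contra hvu
    have := herm_mulVec (hMI hg) u v
    rw [← ha, ← hb, hU.smul_left, Unit.smul_right hU, ← mul_assoc] at this
    have hne : hh u v ≠ 0 := fun h => hvu (mem_span_of_orth hF (fun h0 => hue (by rw [h0]; exact Submodule.zero_mem _))
      hu hv (herm_swap0 hF h))
    have e3 : a * frobEquiv hF b = 1 := (mul_eq_right₀ hne).1 this
    have e4 : lam * frobEquiv hF b = 1 := by
      have := congrArg (frobEquiv hF) e2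
      rw [map_mul, hU.involutive, map_one] at this
      rw [mul_comm]; exact this
    have e5 : a = lam := mul_right_cancel₀ (fun h0 => by rw [h0, mul_zero] at e4; exact zero_ne_one e4) (e3.trans e4.symm)
    exact hN (e5 ▸ e1)
  -- transitivity
  have hft : f ∉ F ∙ e := fun h => by
    obtain ⟨r, hr⟩ := Submodule.mem_span_singleton.1 h
    have h3 := congrArg (fun y => hh y e) hr
    simp [hU.smul_left, hB.ee, hB.fe hF] at h3
  obtain ⟨h, hhM, lam, hlam, hhf, hN⟩ := htor f hf hft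
  intro v hv hve
  obtain ⟨h', hh'M, lam', hlam', hh'v, hN'⟩ := htor v hv hve
  have hlam0 : lam ≠ 0 := fun h0 => hN (by simp [h0, zero_mul] at hlam; exact absurd hlam (by
    intro h1; exact hB.e_ne hF (by rw [← inv_mulVec_mulVec h e, h1, Matrix.mulVec_zero])))
  have hlam0' : lam' ≠ 0 := fun h0 => hN' (by simp [h0, zero_mul] at hlam'; exact absurd hlam' (by
    intro h1; exact hB.e_ne hF (by rw [← inv_mulVec_mulVec h' e, h1, Matrix.mulVec_zero])))
  -- conjugation is onto, as the torus elements centralise nothing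
  have honto : ∀ {t : GL (Fin 3) F} {μ : F} {r : Fin 3 → F}, t ∈ M → (t : Matrix (Fin 3) (Fin 3) F) *ᵥ e = μ • e →
      μ * frobEquiv hF μ ≠ 1 → μ ≠ 0 → hh r r = 0 → r ∉ F ∙ e → (t : Matrix (Fin 3) (Fin 3) F) *ᵥ r ∈ F ∙ r →
      ∀ y ∈ fixVec M e, ∃ u ∈ fixVec M e, t⁻¹ * u * t * u⁻¹ = y := by
    intro t μ r ht hμ hμN hμ0 hr hre htr y hy
    have hte : ((t⁻¹ : GL (Fin 3) F) : Matrix (Fin 3) (Fin 3) F) *ᵥ e = μ⁻¹ • e := by
      conv_lhs => rw [show e = μ⁻¹ • (t : Matrix (Fin 3) (Fin 3) F) *ᵥ e by rw [hμ, smul_smul, inv_mul_cancel₀ hμ0, one_smul],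
        Matrix.mulVec_smul, inv_mulVec_mulVec]
    let Φ : fixVec M e → fixVec M e := fun u => ⟨t⁻¹ * u * t * (u : GL (Fin 3) F)⁻¹, by
      refine ⟨M.mul_mem (M.mul_mem (M.mul_mem (M.inv_mem ht) u.2.1) ht) (M.inv_mem u.2.1), ?_⟩
      rw [mul_mulVec, mul_mulVec, mul_mulVec, ((fixVec M e).inv_mem u.2).2, hμ, Matrix.mulVec_smul, u.2.2,
        Matrix.mulVec_smul, hte, smul_smul, mul_inv_cancel₀ hμ0, one_smul]⟩
    have hinj : Function.Injective Φ := fun u₁ u₂ heq => by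
      have h0 := congrArg Subtype.val heq
      simp only [Φ] at h0
      set d : GL (Fin 3) F := (u₂ : GL (Fin 3) F)⁻¹ * u₁
      have hd : d ∈ fixVec M e := (fixVec M e).mul_mem ((fixVec M e).inv_mem u₂.2) u₁.2
      have hcomm : d * t = t * d := by
        have h1 : (u₁ : GL (Fin 3) F) * t * (u₁ : GL (Fin 3) F)⁻¹ = u₂ * t * (u₂ : GL (Fin 3) F)⁻¹ := by
          have := congrArg (fun x => t * x) h0
          simpa [mul_assoc] using this
        calc d * t = (u₂ : GL (Fin 3) F)⁻¹ * ((u₁ : GL (Fin 3) F) * t * (u₁ : GL (Fin 3) F)⁻¹) * u₁ := by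
              simp [d, mul_assoc]
          _ = t * d := by rw [h1]; simp [d, mul_assoc]
      have hfix : (t : Matrix (Fin 3) (Fin 3) F) *ᵥ ((d : Matrix (Fin 3) (Fin 3) F) *ᵥ r) ∈
          F ∙ ((d : Matrix (Fin 3) (Fin 3) F) *ᵥ r) := by
        obtain ⟨c, hc⟩ := Submodule.mem_span_singleton.1 htr
        refine Submodule.mem_span_singleton.2 ⟨c, ?_⟩
        rw [← Matrix.mulVec_smul, hc, ← mul_mulVec, ← mul_mulVec, hcomm]
      have hdr : hh ((d : Matrix (Fin 3) (Fin 3) F) *ᵥ r) ((d : Matrix (Fin 3) (Fin 3) F) *ᵥ r) = 0 := by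
        rw [herm_mulVec (hMI hd.1), hr]
      have hdre : (d : Matrix (Fin 3) (Fin 3) F) *ᵥ r ∉ F ∙ e := fun hm => hre (by
        obtain ⟨c, hc⟩ := Submodule.mem_span_singleton.1 hm
        refine Submodule.mem_span_singleton.2 ⟨c, ?_⟩
        conv_rhs => rw [← inv_mulVec_mulVec d r, ← hc, Matrix.mulVec_smul, ((fixVec M e).inv_mem hd).2])
      have h2 := htwo ht hμ hμN hr hdr hre hdre htr hfix
      exact Subtype.ext (eq_of_inv_mul_eq_one (hsemi hd hr hre h2)).symm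
    obtain ⟨u, hu⟩ := Finite.surjective_of_injective hinj ⟨y, hy⟩
    exact ⟨u, u.2, congrArg Subtype.val hu⟩
  have he' : ∀ {t : GL (Fin 3) F} {μ : F}, (t : Matrix (Fin 3) (Fin 3) F) *ᵥ e = μ • e → μ ≠ 0 →
      ((t⁻¹ : GL (Fin 3) F) : Matrix (Fin 3) (Fin 3) F) *ᵥ e = μ⁻¹ • e := fun {t μ} hμ hμ0 => by
    conv_lhs => rw [show e = μ⁻¹ • (t : Matrix (Fin 3) (Fin 3) F) *ᵥ e by rw [hμ, smul_smul, inv_mul_cancel₀ hμ0, one_smul],
      Matrix.mulVec_smul, inv_mulVec_mulVec]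
  have hy0 : h⁻¹ * (h' * h * h'⁻¹) ∈ fixVec M e := by
    refine ⟨M.mul_mem (M.inv_mem hhM) (M.mul_mem (M.mul_mem hh'M hhM) (M.inv_mem hh'M)), ?_⟩
    rw [mul_mulVec, mul_mulVec, mul_mulVec]
    simp only [Matrix.mulVec_smul, hlam, hlam', he' hlam hlam0, he' hlam' hlam0', smul_smul]
    rw [show lam'⁻¹ * lam * lam' * lam⁻¹ = 1 by field_simp, one_smul]
  obtain ⟨u, hu, hueq⟩ := honto hhM hlam hN hlam0 hf.2.1 hft hhf _ hy0
  set t := u⁻¹ * h'
  have htM : t ∈ M := M.mul_mem (M.inv_mem hu.1) hh'M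
  have htc : t * h = h * t := by
    have h1 : u * h * u⁻¹ = h' * h * h'⁻¹ := by
      have := congrArg (fun x => h * x) hueq
      simpa [mul_assoc] using this
    calc t * h = u⁻¹ * (h' * h * h'⁻¹) * h' := by simp [t, mul_assoc]
      _ = h * t := by rw [← h1]; simp [t, mul_assoc]
  have hte : (t : Matrix (Fin 3) (Fin 3) F) *ᵥ e = lam' • e := by
    rw [mul_mulVec, hlam', Matrix.mulVec_smul, ((fixVec M e).inv_mem hu).2]
  -- `t` fixes `f`
  have htf : (t : Matrix (Fin 3) (Fin 3) F) *ᵥ f ∈ F ∙ f := by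
    refine htwo hhM hlam hN hf.2.1 (by rw [herm_mulVec (hMI htM), hB.ff]) hft (fun hm => hft ?_) hhf ?_
    · obtain ⟨c, hc⟩ := Submodule.mem_span_singleton.1 hm
      refine Submodule.mem_span_singleton.2 ⟨c * lam'⁻¹, ?_⟩
      conv_rhs => rw [← inv_mulVec_mulVec t f, ← hc, Matrix.mulVec_smul, he' hte hlam0', smul_smul]
    · obtain ⟨c, hc⟩ := Submodule.mem_span_singleton.1 hhf
      refine Submodule.mem_span_singleton.2 ⟨c, ?_⟩
      rw [← Matrix.mulVec_smul, hc, ← mul_mulVec, ← mul_mulVec, htc]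
  obtain ⟨u', hu', hu'eq⟩ := honto htM hte hN' hlam0' hf.2.1 hft htf _ (by
    refine ⟨M.mul_mem (M.inv_mem htM) hh'M, ?_⟩
    rw [mul_mulVec, hlam', Matrix.mulVec_smul, he' hte hlam0', smul_smul, mul_inv_cancel₀ hlam0', one_smul] :
      t⁻¹ * h' ∈ fixVec M e)
  have hconj : h' = u' * t * u'⁻¹ := by
    have := congrArg (fun x => t * x) hu'eq
    simpa [mul_assoc] using this.symm
  refine ⟨u', hu', ?_⟩
  refine htwo hh'M hlam' hN' hv.2.1 (by rw [herm_mulVec (hMI hu'.1), hB.ff]) hve (fun hm => hft ?_) hh'v ?_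
  · obtain ⟨c, hc⟩ := Submodule.mem_span_singleton.1 hm
    refine Submodule.mem_span_singleton.2 ⟨c, ?_⟩
    conv_rhs => rw [← inv_mulVec_mulVec u' f, ← hc, Matrix.mulVec_smul, ((fixVec M e).inv_mem hu').2]
  · rw [hconj, mul_mulVec, mul_mulVec, inv_mulVec_mulVec]
    obtain ⟨c, hc⟩ := Submodule.mem_span_singleton.1 htf
    rw [← hc, Matrix.mulVec_smul]
    exact Submodule.smul_mem _ _ (Submodule.mem_span_singleton_self _)

/-- With a torus between `e` and every other centre, the other centres form one regular orbit. -/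
theorem card_centres (he : IsCentre hF M e)
    (htor : ∀ v, IsCentre hF M v → v ∉ F ∙ e → ∃ g ∈ M, ∃ lam : F, (g : Matrix (Fin 3) (Fin 3) F) *ᵥ e = lam • e ∧
      (g : Matrix (Fin 3) (Fin 3) F) *ᵥ v ∈ F ∙ v ∧ lam * frobEquiv hF lam ≠ 1)
    (hf : IsCentre hF M f) :
    Nat.card {P : SL3.Plane.Pt F | IsCentre hF M P.rep} = Nat.card (fixVec M e) + 1 := by
  have hU := isUnitaryForm hF (n := 3)
  have hsemi : ∀ {g : GL (Fin 3) F}, g ∈ fixVec M e → ∀ {v}, hh v v = 0 → v ∉ F ∙ e →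
      (g : Matrix (Fin 3) (Fin 3) F) *ᵥ v ∈ F ∙ v → g = 1 := fun {g} hg {v} hv hve hgv =>
    hB.semiregular hF hMI hg hv hve hgv
  have hft : f ∉ F ∙ e := fun h => by
    obtain ⟨r, hr⟩ := Submodule.mem_span_singleton.1 h
    have h3 := congrArg (fun y => hh y e) hr
    simp [hU.smul_left, hB.ee, hB.fe hF] at h3
  have htrans := hB.orbit_centres hF hMI htor hf
  -- the bijection
  let C : Set (SL3.Plane.Pt F) := {P | IsCentre hF M P.rep}
  have hmk : ∀ {y}, IsCentre hF M y → ∀ (h0 : y ≠ 0), Projectivization.mk F y h0 ∈ C := by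
    intro y hy h0
    obtain ⟨c, hc, hc'⟩ := SL3.Plane.exists_smul_of_mk h0 rfl
    have := centre_smul hF (inv_ne_zero hc) hy
    conv at this => arg 3; rw [hc', smul_smul, inv_mul_cancel₀ hc, one_smul]
    exact this
  let β : Option (fixVec M e) → C := fun o => match o with
    | none => ⟨Projectivization.mk F e (hB.e_ne hF), hmk he _⟩
    | some u => ⟨_, hmk (centre_conj hF hMI u.2.1 hf) (SL3.Plane.mulVec_ne_zero' _ (hB.f_ne hF))⟩
  have hne : ∀ u : fixVec M e, ((u : GL (Fin 3) F) : Matrix (Fin 3) (Fin 3) F) *ᵥ f ∉ F ∙ e := fun u hm => hft (by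
    obtain ⟨c, hc⟩ := Submodule.mem_span_singleton.1 hm
    refine Submodule.mem_span_singleton.2 ⟨c, ?_⟩
    conv_rhs => rw [← inv_mulVec_mulVec (u : GL (Fin 3) F) f, ← hc, Matrix.mulVec_smul, ((fixVec M e).inv_mem u.2).2])
  have hspan : ∀ {y z : Fin 3 → F} (hy : y ≠ 0) (hz : z ≠ 0),
      Projectivization.mk F y hy = Projectivization.mk F z hz ↔ y ∈ F ∙ z := fun {y z} hy hz => by
    rw [Projectivization.mk_eq_mk_iff', Submodule.mem_span_singleton]
  have hinj : Function.Injective β := by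
    rintro (_ | u) (_ | v) hh'
    · rfl
    · exact absurd ((hspan _ _).1 (congrArg Subtype.val hh').symm) (hne v)
    · exact absurd ((hspan _ _).1 (congrArg Subtype.val hh')) (hne u)
    · obtain ⟨c, hc⟩ := Submodule.mem_span_singleton.1 ((hspan _ _).1 (congrArg Subtype.val hh'))
      have hd := (fixVec M e).mul_mem ((fixVec M e).inv_mem v.2) u.2
      have := hsemi hd hB.ff hft (by
        rw [mul_mulVec, ← hc, Matrix.mulVec_smul, inv_mulVec_mulVec]
        exact Submodule.smul_mem _ _ (Submodule.mem_span_singleton_self _))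
      exact congrArg some (Subtype.ext (eq_of_inv_mul_eq_one this).symm)
  have hsurj : Function.Surjective β := by
    rintro ⟨P, hP⟩
    by_cases hPe : P.rep ∈ F ∙ e
    · exact ⟨none, Subtype.ext (((hspan P.rep_nonzero (hB.e_ne hF)).2 hPe).symm.trans P.mk_rep)⟩
    · obtain ⟨u, hu, huv⟩ := htrans _ hP hPe
      exact ⟨some ⟨u, hu⟩, Subtype.ext (((hspan _ P.rep_nonzero).2 huv).trans P.mk_rep)⟩
  rw [show Nat.card {P : SL3.Plane.Pt F | IsCentre hF M P.rep} = Nat.card C from rfl,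
    ← Nat.card_congr (Equiv.ofBijective β ⟨hinj, hsurj⟩), Finite.card_option]

end Frame

end CfsgLib.Geo.SU3
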