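/-
A unitary rational structure of odd index on a space of dimension three: frames, scalars, membership.
-/
import Cfsg.Agent.Geo.SUThree.Stab
import Cfsg.Agent.Geo.UnitSubfieldParabolic

set_option autoImplicit false
set_option linter.unusedSectionVars false

namespace CfsgLib.Geo.SU3

open Matrix Cfsg Cfsg.Geo CfsgLib.Geo CfsgLib.Geo.UTv

variable {q : ℕ} {F : Type*} [Field F] [Finite F] (hF : Nat.card F = q ^ 2) {F₀ : Subfield F}
  {P : GL (Fin 3) F} (hS : UnitSub 3 q F F₀ P)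

local notation "hh" => Cfsg.hermForm 3 F q

/-- A frame of rational vectors. -/
structure RatFrame (q : ℕ) (F₀ : Subfield F) (P : GL (Fin 3) F) (e f w : Fin 3 → F) : Prop extends
    Frame q e f w where
  e_mem : InRS F₀ P e
  f_mem : InRS F₀ P f
  w_mem : InRS F₀ P w

include hF

/-- The subfield of odd index: its order, and the involution on it. -/
lemma exists_subfield_card {r : ℕ} (hro : Odd r) (hcard : Nat.card F = Nat.card F₀ ^ r) :
    ∃ q0, 2 ≤ q0 ∧ Nat.card F₀ = q0 ^ 2 ∧ q = q0 ^ r ∧ ∀ x ∈ F₀, x ^ q = x ^ q0 := by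
  obtain ⟨p, a, hpc, hp, hqa⟩ := CfsgLib.Forms.exists_charP_pow hF
  haveI := Fact.mk hp
  haveI : CharP F₀ p := (F₀.subtype.charP_iff Subtype.val_injective p).2 inferInstance
  haveI := Fintype.ofFinite F₀
  obtain ⟨b, -, hb⟩ := FiniteField.card F₀ p
  rw [← Nat.card_eq_fintype_card] at hb
  obtain ⟨i, rfl⟩ := hro
  have hab : a * 2 = (b : ℕ) * (2 * i + 1) := by
    refine Nat.pow_right_injective hp.two_le ?_
    show p ^ (a * 2) = p ^ ((b : ℕ) * (2 * i + 1))
    rw [pow_mul, pow_mul, ← hqa, ← hb, ← hcard, hF]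
  obtain ⟨c, hc⟩ : 2 ∣ (b : ℕ) := by
    have h2 : 2 ∣ (b : ℕ) * (2 * i + 1) := ⟨a, by rw [← hab]; ring⟩
    exact (Nat.prime_two.dvd_mul.1 h2).resolve_right (by omega)
  have hc0 : c ≠ 0 := fun h => by
    have := b.pos
    rw [hc, h, mul_zero] at this
    exact lt_irrefl 0 this
  have hq : q = (p ^ c) ^ (2 * i + 1) := by
    rw [hqa, ← pow_mul]
    congr 1
    rw [hc] at hab
    linarith
  have hcard0 : Nat.card F₀ = (p ^ c) ^ 2 := by rw [hb, hc, ← pow_mul, mul_comm c]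
  refine ⟨p ^ c, hp.two_le.trans (Nat.le_self_pow hc0 p), hcard0, hq, fun x hx => ?_⟩
  have hfix : x ^ (p ^ c) ^ 2 = x := by
    have h1 := congrArg Subtype.val (FiniteField.pow_card (⟨x, hx⟩ : F₀))
    rw [SubmonoidClass.coe_pow, ← Nat.card_eq_fintype_card, hcard0] at h1
    exact h1
  rw [hq]
  clear hab hcard hq
  induction i with
  | zero => rw [mul_zero, zero_add, pow_one]
  | succ i ih =>
    rw [show (p ^ c) ^ (2 * (i + 1) + 1) = (p ^ c) ^ 2 * (p ^ c) ^ (2 * i + 1) by ring, pow_mul, hfix, ih]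

/-- The fixed and the skew scalars of the subfield. -/
lemma card_real_skew {q0 : ℕ} (h0 : Nat.card F₀ = q0 ^ 2) (hσ : ∀ x ∈ F₀, x ^ q = x ^ q0) :
    Nat.card {x : F // x ∈ F₀ ∧ x ^ q = x} = q0 ∧ Nat.card {x : F // x ∈ F₀ ∧ x + x ^ q = 0} = q0 := by
  constructor
  · refine Eq.trans (Nat.card_congr ?_) (MinIdxPSU.card_fix_skew (F := F₀) h0).1
    exact { toFun := fun x => ⟨⟨x.1, x.2.1⟩, Subtype.ext ((hσ _ x.2.1).symm.trans x.2.2)⟩
            invFun := fun x => ⟨(x.1 : F), x.1.2, (hσ _ x.1.2).trans (congrArg Subtype.val x.2)⟩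
            left_inv := fun x => rfl
            right_inv := fun x => rfl }
  · refine Eq.trans (Nat.card_congr ?_) (MinIdxPSU.card_fix_skew (F := F₀) h0).2
    exact { toFun := fun x => ⟨⟨x.1, x.2.1⟩, Subtype.ext (by
              show x.1 + x.1 ^ q0 = 0
              rw [← hσ _ x.2.1]; exact x.2.2)⟩
            invFun := fun x => ⟨(x.1 : F), x.1.2, by rw [hσ _ x.1.2]; exact congrArg Subtype.val x.2⟩
            left_inv := fun x => rfl
            right_inv := fun x => rfl }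

include hS

/-- A rational pair completes to a rational frame. -/
lemma exists_third_rat {e f : Fin 3 → F} (he : InRS F₀ P e) (hf' : InRS F₀ P f) (hee : hh e e = 0)
    (hff : hh f f = 0) (hef : hh e f = 1) : ∃ w, RatFrame q F₀ P e f w := by
  have hf := isUnitaryForm hF (n := 3)
  obtain ⟨w₀, hB₀⟩ := exists_frame_of_pair hF hee hff hef
  obtain ⟨i, hi⟩ : ∃ i, hh ((P : Matrix (Fin 3) (Fin 3) F) *ᵥ Pi.single i 1) w₀ ≠ 0 := by
    by_contra h
    push Not at h
    have h0 : w₀ = 0 := exists_cols_ne hS (fun i => herm_swap0 hF (h i)) hF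
    exact hB₀.ww (by rw [h0, zero_left hF])
  set x := (P : Matrix (Fin 3) (Fin 3) F) *ᵥ Pi.single i 1
  set w := x + (-(hh x f)) • e + (-(hh x e)) • f with hw
  have hx : InRS F₀ P x := inRS_col i
  have hwr : InRS F₀ P w :=
    (hx.add (he.smul (F₀.neg_mem (herm_mem hS hx hf')))).add (hf'.smul (F₀.neg_mem (herm_mem hS hx he)))
  have hwe : hh w e = 0 := by
    simp only [hw, hf.add_left, hf.smul_left, hee, hB₀.fe hF]; ring
  have hwf : hh w f = 0 := by
    simp only [hw, hf.add_left, hf.smul_left, hef, hff]; ring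
  have hdec := hB₀.decomp hF w
  rw [hwe, hwf, zero_smul, zero_smul, zero_add, zero_add] at hdec
  have hww₀ : hh w w₀ ≠ 0 := by
    simp only [hw, hf.add_left, hf.smul_left, hB₀.ew hF, hB₀.fw hF, mul_zero, add_zero]
    exact hi
  refine ⟨w, ⟨hee, hff, hef, hwe, hwf, ?_⟩, he, hf', hwr⟩
  rw [hdec, hf.smul_left, Unit.smul_right hf, div_mul_eq_mul_div]
  exact mul_ne_zero (div_ne_zero hww₀ hB₀.ww) (mul_ne_zero ((map_ne_zero _).2 (div_ne_zero hww₀ hB₀.ww)) hB₀.ww) |>
    fun h => by rwa [div_mul_eq_mul_div] at h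

lemma exists_rat_frame : ∃ e f w, RatFrame q F₀ P e f w := by
  obtain ⟨e, f, he, hf, hee, hff, hef, -, -, -⟩ := exists_rs_pair hF hS
    (Fin.elim0 : Fin 0 → (Fin 3 → F)) (fun j => j.elim0) (by norm_num)
  obtain ⟨w, h⟩ := exists_third_rat hF hS he hf hee hff hef
  exact ⟨e, f, w, h⟩

/-- The fourth rational point of a frame. -/
lemma RatFrame.exists_unit_point {e f w : Fin 3 → F} (hB : RatFrame q F₀ P e f w) :
    ∃ x ∈ F₀, x ≠ 0 ∧ hh (x • e + f + (1 : F) • w) (x • e + f + (1 : F) • w) = 0 := by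
  have hf := isUnitaryForm hF (n := 3)
  obtain ⟨x, hx, hxx⟩ := exists_trace0 hF hS hB.w_mem
  refine ⟨x, hx, fun h => hB.ww ?_, ?_⟩
  · rw [h, ← frobEquiv_apply hF, map_zero, zero_add, zero_add] at hxx
    exact hxx
  · rw [hB.toFrame.unit_iso hF, map_one, one_mul, one_mul, frobEquiv_apply hF]
    linear_combination hxx

/-- An isometry taking the isotropic points of a rational frame and one more to rational points is rational. -/
theorem mem_of_iso_points {g : GL (Fin 3) F} (hg : g ∈ suGL 3 F q)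
    (h : ∀ x, InRS F₀ P x → hh x x = 0 → x ≠ 0 → IsPt F₀ P ((g : Matrix (Fin 3) (Fin 3) F) *ᵥ x)) :
    g ∈ subfieldSubgroup F₀ P := by
  have hf := isUnitaryForm hF (n := 3)
  obtain ⟨e, f, w, hB⟩ := exists_rat_frame hF hS
  obtain ⟨x, hx, hx0, hxx⟩ := hB.exists_unit_point hF hS
  have hye : hh (x • e + f + (1 : F) • w) e = 1 := by
    have := hB.toFrame.coord_e hF x 1 1
    rwa [one_smul F f] at this
  obtain ⟨a, re, hre, hae⟩ := h e hB.e_mem hB.ee (hB.toFrame.e_ne hF)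
  obtain ⟨b, rf, hrf, hbf⟩ := h f hB.f_mem hB.ff (hB.toFrame.f_ne hF)
  obtain ⟨ρ, ry, hry, hρy⟩ := h _ (((hB.e_mem.smul hx).add hB.f_mem).add (hB.w_mem.smul F₀.one_mem)) hxx
    (fun h0 => by rw [h0, zero_left hF] at hye; exact zero_ne_one hye)
  have hone : a * frobEquiv hF b * hh re rf = 1 := by
    have h1 := herm_mulVec hg e f
    rw [hB.ef, hae, hbf, hf.smul_left, Unit.smul_right hf, ← mul_assoc] at h1
    exact h1
  have ha : a ≠ 0 := fun h0 => by rw [h0, zero_mul, zero_mul] at hone; exact zero_ne_one hone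
  have hb : b ≠ 0 := fun h0 => by rw [h0, map_zero, mul_zero, zero_mul] at hone; exact zero_ne_one hone
  have hc0 : hh re rf ≠ 0 := fun h0 => by rw [h0, mul_zero] at hone; exact zero_ne_one hone
  set c := frobEquiv hF (hh re rf)
  have hc : c ∈ F₀ := by
    simp only [c, frobEquiv_apply hF]
    exact pow_mem (herm_mem hS hre hrf) q
  have hcz : c ≠ 0 := (map_ne_zero _).2 hc0
  set Rf := c⁻¹ • rf
  have hiso : ∀ {d : F} {r z : Fin 3 → F}, d ≠ 0 → hh z z = 0 →
      (g : Matrix (Fin 3) (Fin 3) F) *ᵥ z = d • r → hh r r = 0 := fun {d r z} hd hz hr => by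
    have h1 := herm_mulVec hg z z
    rw [hr, hz, hf.smul_left, Unit.smul_right hf] at h1
    exact (mul_eq_zero.1 ((mul_eq_zero.1 h1).resolve_left hd)).resolve_left ((map_ne_zero _).2 hd)
  obtain ⟨w', hB'⟩ : ∃ w', RatFrame q F₀ P re Rf w' := exists_third_rat hF hS hre (hrf.smul (F₀.inv_mem hc)) (hiso ha hB.ee hae)
    (by rw [hf.smul_left, Unit.smul_right hf, hiso hb hB.ff hbf, mul_zero, mul_zero])
    (by rw [Unit.smul_right hf, map_inv₀]; simp only [c, hf.involutive]; exact inv_mul_cancel₀ hc0)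
  -- the image of the anisotropic vector of the frame
  have hgf : (g : Matrix (Fin 3) (Fin 3) F) *ᵥ f = (b * c) • Rf := by
    rw [hbf, smul_smul, mul_assoc, mul_inv_cancel₀ hcz, mul_one]
  set t := (g : Matrix (Fin 3) (Fin 3) F) *ᵥ w with ht
  have hte : hh t re = 0 := by
    have h1 := herm_mulVec hg w e
    rw [hB.we, hae, Unit.smul_right hf] at h1
    exact (mul_eq_zero.1 h1).resolve_left ((map_ne_zero _).2 ha)
  have htf : hh t Rf = 0 := by
    have h1 := herm_mulVec hg w f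
    rw [hB.wf, hgf, Unit.smul_right hf] at h1
    exact (mul_eq_zero.1 h1).resolve_left ((map_ne_zero _).2 (mul_ne_zero hb hcz))
  set γ := hh t w' / hh w' w'
  have htw : t = γ • w' := by
    conv_lhs => rw [hB'.toFrame.decomp hF t, hte, htf, zero_smul, zero_smul, zero_add, zero_add]
  have himg : (x * a) • re + (b * c) • Rf + γ • w' = ρ • ry := by
    rw [← hρy, Matrix.mulVec_add, Matrix.mulVec_add, Matrix.mulVec_smul, Matrix.mulVec_smul, hae, hgf, ← ht, htw,
      one_smul]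
    module
  have hρ : ρ ≠ 0 := fun h0 => by
    rw [h0, zero_smul] at himg
    have h1 := congrArg (fun z => hh z re) himg
    simp only [hB'.toFrame.coord_e hF, zero_left hF] at h1
    exact mul_ne_zero hb hcz h1
  have h1 : x * a = ρ * hh ry Rf := by
    have := congrArg (fun z => hh z Rf) himg
    simpa only [hB'.toFrame.coord_f hF, hf.smul_left] using this
  have h2 : b * c = ρ * hh ry re := by
    have := congrArg (fun z => hh z re) himg
    simpa only [hB'.toFrame.coord_e hF, hf.smul_left] using this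
  have h3 : γ = ρ * (hh ry w' / hh w' w') := by
    have h4 := congrArg (fun z => hh z w') himg
    simp only [hB'.toFrame.coord_w hF, hf.smul_left] at h4
    field_simp [hB'.ww]
    exact h4
  have hkey : InRS F₀ P (ρ⁻¹ • ((g : Matrix (Fin 3) (Fin 3) F) *ᵥ e)) ∧
      InRS F₀ P (ρ⁻¹ • ((g : Matrix (Fin 3) (Fin 3) F) *ᵥ f)) ∧
      InRS F₀ P (ρ⁻¹ • ((g : Matrix (Fin 3) (Fin 3) F) *ᵥ w)) := by
    refine ⟨?_, ?_, ?_⟩
    · rw [hae, smul_smul, show ρ⁻¹ * a = hh ry Rf / x by field_simp; linear_combination h1]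
      exact hre.smul (F₀.div_mem (herm_mem hS hry hB'.f_mem) hx)
    · rw [hgf, smul_smul, h2, ← mul_assoc, inv_mul_cancel₀ hρ, one_mul]
      exact hB'.f_mem.smul (herm_mem hS hry hre)
    · rw [← ht, htw, smul_smul, h3, ← mul_assoc, inv_mul_cancel₀ hρ, one_mul]
      exact hB'.w_mem.smul (F₀.div_mem (herm_mem hS hry hB'.w_mem) (herm_mem hS hB'.w_mem hB'.w_mem))
  refine mem_subfield_of_scaled_rs (inv_ne_zero hρ) fun z hz => ?_
  rw [hB.toFrame.decomp hF z]
  simp only [Matrix.mulVec_add, Matrix.mulVec_smul, smul_add, smul_comm ρ⁻¹]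
  exact ((hkey.1.smul (herm_mem hS hz hB.f_mem)).add (hkey.2.1.smul (herm_mem hS hz hB.e_mem))).add
    (hkey.2.2.smul (F₀.div_mem (herm_mem hS hz hB.w_mem) (herm_mem hS hB.w_mem hB.w_mem)))

/-- An element of the subfield group fixing a rational vector preserves rational vectors. -/
lemma inRS_mulVec_of_fix {e f w : Fin 3 → F} (hB : RatFrame q F₀ P e f w) {g : GL (Fin 3) F}
    (hg : g ∈ subfieldSubgroup F₀ P) (hge : (g : Matrix (Fin 3) (Fin 3) F) *ᵥ e = e) {x : Fin 3 → F}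
    (hx : InRS F₀ P x) : InRS F₀ P ((g : Matrix (Fin 3) (Fin 3) F) *ᵥ x) := by
  obtain ⟨d, hd0, hd⟩ := exists_scaled_rs_of_mem hg
  have hdF : d ∈ F₀ := by
    have h1 := herm_mem hS (hd e hB.e_mem) hB.f_mem
    rwa [hge, (isUnitaryForm hF).smul_left, hB.ef, mul_one] at h1
  have h1 := (hd x hx).smul (F₀.inv_mem hdF)
  rwa [smul_smul, inv_mul_cancel₀ hd0, one_smul] at h1

/-- The subfield group is proper. -/
theorem subfield_proper {q0 r : ℕ} (hr : 2 ≤ r) (hq0 : 2 ≤ q0) (h0 : Nat.card F₀ = q0 ^ 2) (hqr : q = q0 ^ r)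
    (hσ : ∀ x ∈ F₀, x ^ q = x ^ q0) : ¬ suGL 3 F q ≤ subfieldSubgroup F₀ P := by
  have hf := isUnitaryForm hF (n := 3)
  intro hle
  obtain ⟨e, f, w, hB⟩ := exists_rat_frame hF hS
  obtain ⟨c, hc, hcF⟩ : ∃ c : F, c + c ^ q = 0 ∧ c ∉ F₀ := by
    by_contra h
    push Not at h
    have h1 : Nat.card (MinIdxPSU.Skew hF) ≤ Nat.card {x : F // x ∈ F₀ ∧ x + x ^ q = 0} :=
      Nat.card_le_card_of_injective (fun s => ⟨s.1, h _ s.2, s.2⟩)
        fun a b hab => Subtype.ext (congrArg (fun z : {x : F // x ∈ F₀ ∧ x + x ^ q = 0} => z.1) hab)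
    rw [(MinIdxPSU.card_fix_skew hF).2, (card_real_skew hF h0 hσ).2, hqr] at h1
    have := Nat.pow_lt_pow_right hq0 (show 1 < r by omega)
    rw [pow_one] at this
    omega
  have hfix : (tvec e (uax q e c) (uax_dot_self hB.ee c) : Matrix (Fin 3) (Fin 3) F) *ᵥ e = e := by
    rw [utv_mulVec hF hB.ee, hB.ee, mul_zero, zero_smul, add_zero]
  have h1 := herm_mem hS (inRS_mulVec_of_fix hF hS hB (hle (utv_mem hF hB.ee hc)) hfix hB.f_mem) hB.f_mem
  rw [utv_mulVec hF hB.ee, hB.toFrame.fe hF, mul_one, hf.add_left, hf.smul_left, hB.ff, hB.ef, mul_one,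
    zero_add] at h1
  exact hcF h1

end CfsgLib.Geo.SU3
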