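/-
Homologies of a rational structure; an element carrying rational anisotropic points to rational points.
-/
import Cfsg.Agent.Geo.SUThree.SubfieldBase
import Cfsg.Agent.Geo.SUThree.Homology
import Cfsg.Agent.Geo.SLThree.Plane

set_option autoImplicit false
set_option linter.unusedSectionVars false

namespace CfsgLib.Geo.SU3

open Matrix Cfsg Cfsg.Geo CfsgLib.Geo CfsgLib.Geo.UTv
open scoped Classical

variable {q : ℕ} {F : Type*} [Field F] [Finite F] (hF : Nat.card F = q ^ 2) {F₀ : Subfield F}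
  {P : GL (Fin 3) F} (hS : UnitSub 3 q F F₀ P)

local notation "hh" => Cfsg.hermForm 3 F q

include hF

/-- The homology of a unit vector. -/
lemma exists_homology {u : Fin 3 → F} (hu : hh u u = 1) {t : F} (ht : t * t ^ q = 1) :
    ∃ x ∈ suGL 3 F q, IsHom q x u t := by
  have hf := isUnitaryForm hF (n := 3)
  rw [← frobEquiv_apply hF] at ht
  have ht0 : t ≠ 0 := fun h => by rw [h, zero_mul] at ht; exact zero_ne_one ht
  have hσt : frobEquiv hF t = t⁻¹ := eq_inv_of_mul_eq_one_right ht
  obtain ⟨e, f, hB⟩ := exists_frame_perp hF (w := u) (by rw [hu]; exact one_ne_zero)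
  let L : (Fin 3 → F) →ₗ[F] (Fin 3 → F) :=
    { toFun := fun z => t • z + ((t ^ 2)⁻¹ - t) • (hh z u • u)
      map_add' := fun a b => by rw [hf.add_left]; module
      map_smul' := fun c a => by rw [hf.smul_left, RingHom.id_apply]; module }
  have hL : ∀ z, L z = t • z + ((t ^ 2)⁻¹ - t) • (hh z u • u) := fun z => rfl
  have hinj : Function.Injective L := (injective_iff_map_eq_zero L).2 fun z hz => by
    rw [hL] at hz
    have h1 := congrArg (fun m => hh m u) hz
    simp only [hf.add_left, hf.smul_left, hu, zero_left hF, mul_one] at h1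
    have h2 : hh z u = 0 := by
      have h3 : (t ^ 2)⁻¹ * hh z u = 0 := by linear_combination h1
      exact (mul_eq_zero.1 h3).resolve_left (inv_ne_zero (pow_ne_zero _ ht0))
    rw [h2, zero_smul, smul_zero, add_zero] at hz
    exact (smul_eq_zero.1 hz).resolve_left ht0
  let A : Matrix (Fin 3) (Fin 3) F := LinearMap.toMatrix' L
  have hA : ∀ z, A *ᵥ z = L z := fun z => by rw [← Matrix.toLin'_apply, Matrix.toLin'_toMatrix']
  have hdet : A.det ≠ 0 := fun h => by
    obtain ⟨z, hz0, hz⟩ := Matrix.exists_mulVec_eq_zero_iff.2 h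
    rw [hA] at hz
    exact hz0 (hinj (hz.trans (map_zero L).symm))
  let x : GL (Fin 3) F := Matrix.GeneralLinearGroup.mkOfDetNeZero A hdet
  have hx : ∀ z, (x : Matrix (Fin 3) (Fin 3) F) *ᵥ z = L z := hA
  refine ⟨x, ⟨mem_GU.2 fun a b => ?_, ?_⟩, fun z => hx z⟩
  · rw [hx, hx, hL, hL]
    simp only [hf.add_left, Unit.add_right hf, hf.smul_left, Unit.smul_right hf, hu, map_mul, map_sub, map_inv₀,
      map_pow, hσt, hf.herm u b, hf.involutive]
    field_simp
    ring
  · refine mem_specialLinear.2 ?_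
    have h := hB.det_of_stab hF (g := x) (lam := t) (mu := (t ^ 2)⁻¹) (nu := t) (c := 0) (a := 0) (b := 0)
      (by rw [hx, hL, hB.ew hF, zero_smul, smul_zero, add_zero])
      (by rw [hx, hL, hu, zero_smul]; module)
      (by rw [hx, hL, hB.fw hF, zero_smul, zero_smul, smul_zero, add_zero, zero_add, add_zero])
    rw [h]
    field_simp

include hS

/-- Homologies of rational unit vectors with rational scalars are rational. -/
lemma hom_rat {u : Fin 3 → F} (hu : InRS F₀ P u) {t : F} (ht : t ∈ F₀) {x : GL (Fin 3) F}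
    (hx : IsHom q x u t) : x ∈ subfieldSubgroup F₀ P :=
  mem_subfield_of_scaled_rs one_ne_zero fun z hz => by
    rw [one_smul, hx z, smul_smul]
    exact (hz.smul ht).add (hu.smul (F₀.mul_mem (F₀.sub_mem (F₀.inv_mem (pow_mem ht 2)) ht) (herm_mem hS hz hu)))

/-- An element carrying rational anisotropic points to rational points is rational. -/
theorem mem_of_aniso_points {g : GL (Fin 3) F} (hg : g ∈ suGL 3 F q)
    (h : ∀ x, InRS F₀ P x → hh x x ≠ 0 → IsPt F₀ P ((g : Matrix (Fin 3) (Fin 3) F) *ᵥ x)) :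
    g ∈ subfieldSubgroup F₀ P := by
  have hf := isUnitaryForm hF (n := 3)
  refine mem_of_iso_points hF hS hg fun x hx hxx hx0 => ?_
  obtain ⟨f, hf', hff, hxf, -, -⟩ := exists_iso_dual hF hS (Fin.elim0 : Fin 0 → (Fin 3 → F)) (fun j => j.elim0) hx hxx
    (fun j => j.elim0) (by simpa using hx0)
  obtain ⟨w, hB⟩ := exists_third_rat hF hS hx hf' hxx hff hxf
  obtain ⟨a, r1, hr1, h1⟩ := h w hB.w_mem hB.ww
  obtain ⟨b, r2, hr2, h2⟩ := h (w + x) (hB.w_mem.add hx) (by
    simp only [hf.add_left, Unit.add_right hf, hxx, hB.we, hB.toFrame.ew hF, add_zero]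
    exact hB.ww)
  have ha : a ≠ 0 := fun h0 => SL3.Plane.mulVec_ne_zero' g (show w ≠ 0 from fun e => hB.ww (by rw [e, zero_left hF]))
    (by rw [h1, h0, zero_smul])
  have hr11 : hh r1 r1 ≠ 0 := fun h0 => hB.ww (by
    rw [← herm_mulVec hg, h1, hf.smul_left, Unit.smul_right hf, h0, mul_zero, mul_zero])
  have hgx : (g : Matrix (Fin 3) (Fin 3) F) *ᵥ x = b • r2 - a • r1 := by
    rw [← h2, ← h1, Matrix.mulVec_add, add_sub_cancel_left]
  have hperp : b * hh r2 r1 = a * hh r1 r1 := by
    have e := herm_mulVec hg x w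
    rw [hB.toFrame.ew hF, hgx, h1, sub_eq_add_neg, ← neg_smul, hf.add_left, hf.smul_left, hf.smul_left,
      Unit.smul_right hf, Unit.smul_right hf] at e
    have e' : frobEquiv hF a * (b * hh r2 r1 - a * hh r1 r1) = 0 := by linear_combination e
    exact sub_eq_zero.1 ((mul_eq_zero.1 e').resolve_left ((map_ne_zero _).2 ha))
  refine ⟨b, r2 - (hh r2 r1 / hh r1 r1) • r1,
    hr2.sub (hr1.smul (F₀.div_mem (herm_mem hS hr2 hr1) (herm_mem hS hr1 hr1))), ?_⟩
  rw [hgx, smul_sub, smul_smul, mul_div_assoc', hperp, mul_div_cancel_right₀ _ hr11]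

end CfsgLib.Geo.SU3
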