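/-
An orthogonal structure on a unitary space of dimension three: rational frames, reflections, the stabiliser of a
rational isotropic point in an overgroup without transvections.
-/
import Cfsg.Agent.Geo.SUThree.Orbit
import Cfsg.Agent.Geo.SUThree.SubfieldAniso
import Cfsg.Agent.Geo.UnitOrthogonalSub

set_option autoImplicit false
set_option linter.unusedSectionVars false

namespace CfsgLib.Geo.SU3

open Matrix Cfsg Cfsg.Geo CfsgLib.Geo CfsgLib.Geo.UTv
open scoped Classical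

variable {q : ℕ} {F : Type*} [Field F] [Finite F] (hF : Nat.card F = q ^ 2) {F₀ : Subfield F}
  {P : GL (Fin 3) F} (hO : OrthSub 3 q F F₀ P) {M : Subgroup (GL (Fin 3) F)}
  (hM : subfieldSubgroup F₀ P ⊓ suGL 3 F q ≤ M) (hMI : M ≤ suGL 3 F q)

local notation "hh" => Cfsg.hermForm 3 F q

/-- A multiple of a vector fixed by the semilinear involution. -/
def IsRPt (q : ℕ) (P : GL (Fin 3) F) (x : Fin 3 → F) : Prop :=
  ∃ (c : F) (r : Fin 3 → F), IsRV q P r ∧ x = c • r

/-- A frame of rational vectors. -/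
structure RVFrame (q : ℕ) (P : GL (Fin 3) F) (e f w : Fin 3 → F) : Prop extends Frame q e f w where
  e_rv : IsRV q P e
  f_rv : IsRV q P f
  w_rv : IsRV q P w

include hF hO

/-- A rational pair completes to a rational frame. -/
lemma exists_third_rv {e f : Fin 3 → F} (he : IsRV q P e) (hf' : IsRV q P f) (hee : hh e e = 0)
    (hff : hh f f = 0) (hef : hh e f = 1) : ∃ w, RVFrame q P e f w := by
  obtain ⟨w₀, hB₀⟩ := exists_frame_of_pair hF hee hff hef
  obtain ⟨w, hw, hw0, hwu⟩ := exists_rv_ne_zero hF hO ![e, f] (Fin.forall_fin_two.2 ⟨he, hf'⟩) (by norm_num)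
  have hwe : hh w e = 0 := hwu 0
  have hwf : hh w f = 0 := hwu 1
  have hd := hB₀.decomp hF w
  rw [hwe, hwf, zero_smul, zero_smul, zero_add, zero_add] at hd
  refine ⟨w, ⟨hee, hff, hef, hwe, hwf, ?_⟩, he, hf', hw⟩
  rw [hd, (isUnitaryForm hF).smul_left, Unit.smul_right (isUnitaryForm hF)]
  have hne : hh w w₀ / hh w₀ w₀ ≠ 0 := fun h => hw0 (by rw [hd, h, zero_smul])
  exact mul_ne_zero hne (mul_ne_zero ((map_ne_zero _).2 hne) hB₀.ww)

lemma exists_rv_frame : ∃ e f w, RVFrame q P e f w := by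
  obtain ⟨e, f, he, hf, hee, hff, hef, -, -, -⟩ := exists_rv_pair hF hO
    (Fin.elim0 : Fin 0 → (Fin 3 → F)) (fun j => j.elim0) (by norm_num)
  obtain ⟨w, h⟩ := exists_third_rv hF hO he hf hee hff hef
  exact ⟨e, f, w, h⟩

/-- Every rational isotropic vector begins a rational frame. -/
lemma exists_rv_frame_at {b : Fin 3 → F} (hb : IsRV q P b) (hbb : hh b b = 0) (hb0 : b ≠ 0) :
    ∃ f w, RVFrame q P b f w := by
  have hf := isUnitaryForm hF (n := 3)
  obtain ⟨y, hy, hby, -⟩ := exists_rv_dual hF hO (Fin.elim0 : Fin 0 → (Fin 3 → F)) (fun j => j.elim0) hb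
    (by simpa using hb0)
  have hyb : hh y b = 1 := by rw [hf.herm, hby, map_one]
  have hc : frobEquiv hF (-hh y y / 2) = -hh y y / 2 := by
    rw [map_div₀, map_neg, map_ofNat, fixed_herm hF hO hy hy]
  obtain ⟨w, h⟩ := exists_third_rv hF hO hb (hy.add hF (hb.smul hF hc)) hbb
    (by
      simp only [hf.add_left, Unit.add_right hf, hf.smul_left, Unit.smul_right hf, hbb, hby, hyb, hc, mul_one,
        mul_zero, add_zero]
      field_simp [hO.two]
      ring)
    (by rw [Unit.add_right hf, Unit.smul_right hf, hbb, hby, mul_zero, add_zero])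
  exact ⟨_, w, h⟩

/-- The half-turn about a rational anisotropic vector. -/
lemma exists_turn {v : Fin 3 → F} (hv : IsRV q P v) (hvv : hh v v ≠ 0) :
    ∃ R ∈ subfieldSubgroup F₀ P ⊓ suGL 3 F q,
      ∀ y, (R : Matrix (Fin 3) (Fin 3) F) *ᵥ y = -y + (2 * hh y v / hh v v) • v := by
  have hf := isUnitaryForm hF (n := 3)
  obtain ⟨s, hs⟩ := Unit.exists_norm_eq hf.ne_refl hf.involutive (t := (hh v v)⁻¹)
    (by rw [map_inv₀, Unit.sigma_self hf])
  have hu : hh (s • v) (s • v) = 1 := by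
    rw [hf.smul_left, Unit.smul_right hf, ← mul_assoc, hs, inv_mul_cancel₀ hvv]
  obtain ⟨x, hx, hxh⟩ := exists_homology hF hu (t := (-1 : F)) (by
    rw [← frobEquiv_apply hF, map_neg, map_one]; ring)
  have hform : ∀ y, (x : Matrix (Fin 3) (Fin 3) F) *ᵥ y = -y + (2 * hh y v / hh v v) • v := fun y => by
    rw [hxh y, Unit.smul_right hf, smul_smul, smul_smul, neg_one_smul]
    congr 2
    rw [neg_one_sq, inv_one, div_eq_mul_inv, ← hs]
    ring
  refine ⟨x, ⟨mem_subfield_of_scaled hO one_ne_zero fun y hy => ?_, hx⟩, hform⟩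
  rw [one_smul, hform, ← neg_one_smul F y]
  exact (hy.smul hF (by rw [map_neg, map_one])).add hF (hv.smul hF (by
    rw [map_div₀, map_mul, map_ofNat, fixed_herm hF hO hy hv, fixed_herm hF hO hv hv]))

omit hF hO in
lemma isRPt_self {x : Fin 3 → F} (hx : IsRV q P x) : IsRPt q P x := ⟨1, x, hx, (one_smul F x).symm⟩

/-- A common phase makes an element rational. -/
lemma rv_mulVec_of_fix {g : GL (Fin 3) F} (hg : g ∈ subfieldSubgroup F₀ P) {x : Fin 3 → F} {l : F}
    (hl : frobEquiv hF l = l) (hx : IsRV q P x) (hx0 : x ≠ 0) (hgx : (g : Matrix (Fin 3) (Fin 3) F) *ᵥ x = l • x)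
    {y : Fin 3 → F} (hy : IsRV q P y) : IsRV q P ((g : Matrix (Fin 3) (Fin 3) F) *ᵥ y) := by
  obtain ⟨d, hd0, hd⟩ := exists_scaled_of_mem_subfield hO hg
  have hl0 : l ≠ 0 := fun h => hx0 (by
    rw [← inv_mulVec_mulVec g x, hgx, h, zero_smul, Matrix.mulVec_zero])
  have h1 : IsRV q P ((d * l) • x) := by
    have := hd x hx
    rwa [hgx, smul_smul] at this
  rw [IsRV, kap_smul hF, hx] at h1
  have h2 := smul_left_injective F hx0 h1
  rw [map_mul, hl] at h2
  have hdF : frobEquiv hF d = d := mul_right_cancel₀ hl0 h2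
  have h3 := (hd y hy).smul hF (c := d⁻¹) (by rw [map_inv₀, hdF])
  rwa [smul_smul, inv_mul_cancel₀ hd0, one_smul] at h3

include hM hMI

/-- Without transvections an element fixing a rational isotropic vector is rational. -/
lemma fix_rat (hno : ∀ v, ¬ IsCentre hF M v) {e f w : Fin 3 → F} (hB : RVFrame q P e f w) {g : GL (Fin 3) F}
    (hg : g ∈ fixVec M e) : g ∈ subfieldSubgroup F₀ P := by
  have hf := isUnitaryForm hF (n := 3)
  have hA : ∀ c ∈ tvParam hF M e, c = 0 := fun c hc => by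
    by_contra h
    exact hno e ⟨hB.toFrame.e_ne hF, hB.ee, fun h0 => h (by rwa [h0, AddSubgroup.mem_bot] at hc)⟩
  have hreal : ∀ z : F, frobEquiv hF z = z → ∃ A ∈ subfieldSubgroup F₀ P, ∃ hA : A ∈ fixVec M e,
      hh ((A : Matrix (Fin 3) (Fin 3) F) *ᵥ f) w / hh w w = z := by
    intro z hz
    have hxe : hh (z • w) e = 0 := by rw [hf.smul_left, hB.we, mul_zero]
    obtain ⟨A, hA, hE⟩ := exists_rat_eich hF hO hB.e_rv (hB.w_rv.smul hF hz) hB.ee hxe
    refine ⟨A, hA.1, ⟨hM hA, ?_⟩, ?_⟩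
    · rw [hE e, hB.ee, herm_swap0 hF hxe]
      simp
    · rw [hE f, hB.toFrame.fe hF, one_smul]
      simp only [hf.add_left, hf.smul_left, hB.toFrame.ew hF, hB.toFrame.fw hF, mul_zero, add_zero, zero_add]
      rw [mul_div_cancel_right₀ _ hB.ww]
  set z := hh ((g : Matrix (Fin 3) (Fin 3) F) *ᵥ f) w / hh w w with hz
  have hzd : z ∈ hB.toFrame.dirs hF hMI := (hB.toFrame.mem_dirs hF hMI).2 ⟨g, hg, rfl⟩
  obtain ⟨A1, -, hA1, hd1⟩ := hreal 1 (map_one _)
  have h1 := hA _ (hB.toFrame.comm_mem_param hF hMI hzd ((hB.toFrame.mem_dirs hF hMI).2 ⟨A1, hA1, hd1⟩))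
  rw [map_one, mul_one, one_mul] at h1
  have hzr : frobEquiv hF z = z := by
    have := (mul_eq_zero.1 h1).resolve_left hB.ww
    linear_combination -this
  obtain ⟨A, hAX, hAM, hAd⟩ := hreal z hzr
  let G : fixVec M e := ⟨g, hg⟩
  let A' : fixVec M e := ⟨A, hAM⟩
  have hk : hB.toFrame.zHom hF hMI (A'⁻¹ * G) = 1 := by
    rw [map_mul, map_inv, hB.toFrame.zHom_apply hF hMI, hB.toFrame.zHom_apply hF hMI, inv_mul_eq_one]
    show Multiplicative.ofAdd _ = Multiplicative.ofAdd _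
    rw [hAd]
  obtain ⟨hmem, hy⟩ := hB.toFrame.kernel_mulVec hF hMI hk
  have hone : A⁻¹ * g = 1 := gl_ext_mulVec fun y => by
    have h3 := hy y
    rw [hA _ hmem, zero_mul, zero_smul, add_zero] at h3
    rw [Units.val_one, Matrix.one_mulVec]
    exact h3
  rw [← inv_mul_eq_one.1 hone]
  exact hAX

/-- Without transvections an element fixing a rational isotropic point is rational. -/
lemma stab_rat (hno : ∀ v, ¬ IsCentre hF M v) {e f w : Fin 3 → F} (hB : RVFrame q P e f w) {g : GL (Fin 3) F}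
    (hg : g ∈ M) {lam : F} (hge : (g : Matrix (Fin 3) (Fin 3) F) *ᵥ e = lam • e) : g ∈ subfieldSubgroup F₀ P := by
  have hf := isUnitaryForm hF (n := 3)
  obtain ⟨hl0, -, c0, hgw⟩ := hB.toFrame.stab_form hF (hMI hg) hge
  obtain ⟨A, hA, hE⟩ := exists_rat_eich hF hO hB.e_rv hB.w_rv hB.ee hB.we
  have hAe : (A : Matrix (Fin 3) (Fin 3) F) *ᵥ e = e := by
    rw [hE e, hB.ee, hB.toFrame.ew hF]
    simp
  have hAw : (A : Matrix (Fin 3) (Fin 3) F) *ᵥ w = (-hh w w) • e + w := by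
    rw [hE w, hB.we]
    module
  have hgie : ((g⁻¹ : GL (Fin 3) F) : Matrix (Fin 3) (Fin 3) F) *ᵥ e = lam⁻¹ • e := by
    conv_lhs => rw [show e = lam⁻¹ • (g : Matrix (Fin 3) (Fin 3) F) *ᵥ e by
      rw [hge, smul_smul, inv_mul_cancel₀ hl0, one_smul], Matrix.mulVec_smul, inv_mulVec_mulVec]
  set u' := g * A * g⁻¹
  have hu' : u' ∈ fixVec M e := by
    refine ⟨M.mul_mem (M.mul_mem hg (hM hA)) (M.inv_mem hg), ?_⟩
    simp only [u', mul_mulVec, hgie, Matrix.mulVec_smul, hAe, hge, smul_smul, inv_mul_cancel₀ hl0, one_smul]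
  have hr := rv_mulVec_of_fix hF hO (fix_rat hF hO hM hMI hno hB hu') (map_one _) hB.e_rv (hB.toFrame.e_ne hF)
    (by rw [one_smul]; exact hu'.2) hB.w_rv
  have hu'w : (u' : Matrix (Fin 3) (Fin 3) F) *ᵥ w = (-hh w w * lam ^ 2 / frobEquiv hF lam) • e + w := by
    have h1 : (u' : Matrix (Fin 3) (Fin 3) F) *ᵥ ((g : Matrix (Fin 3) (Fin 3) F) *ᵥ w) =
        (g : Matrix (Fin 3) (Fin 3) F) *ᵥ ((A : Matrix (Fin 3) (Fin 3) F) *ᵥ w) := by
      simp only [u', mul_mulVec, inv_mulVec_mulVec]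
    rw [hAw, hgw, Matrix.mulVec_add, Matrix.mulVec_add, Matrix.mulVec_smul, Matrix.mulVec_smul, hu'.2,
      Matrix.mulVec_smul, hge, hgw] at h1
    have hσ : frobEquiv hF lam ≠ 0 := (map_ne_zero _).2 hl0
    refine smul_right_injective _ (div_ne_zero hσ hl0) ?_
    have e1 : frobEquiv hF lam / lam * (-hh w w * lam ^ 2 / frobEquiv hF lam) = -hh w w * lam := by field_simp
    simp only [smul_add, smul_smul, e1]
    linear_combination (norm := module) h1
  have h1 := fixed_herm hF hO hr hB.f_rv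
  rw [hu'w, hf.add_left, hf.smul_left, hB.ef, hB.wf, mul_one, add_zero] at h1
  rw [map_div₀, map_mul, map_neg, fixed_herm hF hO hB.w_rv hB.w_rv, map_pow, hf.involutive] at h1
  have hσ : frobEquiv hF lam ≠ 0 := (map_ne_zero _).2 hl0
  have h3 : frobEquiv hF lam ^ 3 = lam ^ 3 := by
    rw [div_eq_div_iff hl0 hσ] at h1
    refine mul_left_cancel₀ (neg_ne_zero.2 hB.ww) ?_
    linear_combination h1
  -- split off a scalar cube root of one
  set ε := frobEquiv hF lam / lam with hε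
  have hε3 : ε ^ 3 = 1 := by rw [hε, div_pow, h3, div_self (pow_ne_zero _ hl0)]
  have hεN : ε * frobEquiv hF ε = 1 := by
    simp only [ε, map_div₀, hf.involutive]
    field_simp
  have hε0 : ε ≠ 0 := fun h => by rw [h, zero_mul] at hεN; exact zero_ne_one hεN
  set a := lam / ε
  have ha : frobEquiv hF a = a := by
    simp only [a, ε, map_div₀, hf.involutive]
    rw [div_div_eq_mul_div, div_div_eq_mul_div, div_eq_div_iff hl0 hσ]
    linear_combination h3
  have ha0 : a ≠ 0 := div_ne_zero hl0 hε0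
  have h2 := hO.two
  have hv1 : hh (e + f) (e + f) = 2 := by
    simp only [hf.add_left, Unit.add_right hf, hB.ee, hB.ff, hB.ef, hB.toFrame.fe hF]; ring
  have hv2 : hh (e + a • f) (e + a • f) = 2 * a := by
    simp only [hf.add_left, Unit.add_right hf, hf.smul_left, Unit.smul_right hf, hB.ee, hB.ff, hB.ef,
      hB.toFrame.fe hF, ha]
    ring
  obtain ⟨R1, hR1, hR1v⟩ := exists_turn hF hO (hB.e_rv.add hF hB.f_rv) (by rw [hv1]; exact h2)
  obtain ⟨R2, hR2, hR2v⟩ := exists_turn hF hO (hB.e_rv.add hF (hB.f_rv.smul hF ha))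
    (by rw [hv2]; exact mul_ne_zero h2 ha0)
  have hRe : ((R1 * R2 : GL (Fin 3) F) : Matrix (Fin 3) (Fin 3) F) *ᵥ e = a • e := by
    rw [mul_mulVec, hR2v e, hv2, Matrix.mulVec_add, Matrix.mulVec_smul, Matrix.mulVec_neg, Matrix.mulVec_add,
      Matrix.mulVec_smul, hR1v e, hR1v f, hv1]
    simp only [Unit.add_right hf, Unit.smul_right hf, hB.ee, hB.ef, hB.ff, hB.toFrame.fe hF, ha]
    match_scalars <;> field_simp <;> ring
  let S : GL (Fin 3) F :=
    Units.map (Matrix.scalar (Fin 3) : F →+* Matrix (Fin 3) (Fin 3) F).toMonoidHom (Units.mk0 ε hε0)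
  have hSy : ∀ y, (S : Matrix (Fin 3) (Fin 3) F) *ᵥ y = ε • y := fun y => by
    show Matrix.scalar (Fin 3) ε *ᵥ y = _
    simp
  have hS : S ∈ subfieldSubgroup F₀ P ⊓ suGL 3 F q := by
    refine ⟨mem_subfield_of_scaled hO (inv_ne_zero hε0) fun y hy => ?_, mem_GU.2 fun y z => ?_, mem_specialLinear.2 ?_⟩
    · rw [hSy, smul_smul, inv_mul_cancel₀ hε0, one_smul]; exact hy
    · rw [hSy, hSy, hf.smul_left, Unit.smul_right hf, ← mul_assoc, hεN, one_mul]
    · show (Matrix.scalar (Fin 3) ε).det = 1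
      simpa using hε3
  set D := S * (R1 * R2)
  have hD : D ∈ subfieldSubgroup F₀ P ⊓ suGL 3 F q := Subgroup.mul_mem _ hS (Subgroup.mul_mem _ hR1 hR2)
  have hDe : (D : Matrix (Fin 3) (Fin 3) F) *ᵥ e = lam • e := by
    rw [mul_mulVec, hRe, hSy, smul_smul]
    simp only [a, mul_div_cancel₀ _ hε0]
  have hfix : D⁻¹ * g ∈ fixVec M e := by
    refine ⟨M.mul_mem (M.inv_mem (hM hD)) hg, ?_⟩
    rw [mul_mulVec, hge, ← hDe, inv_mulVec_mulVec]
  have := (subfieldSubgroup F₀ P).mul_mem hD.1 (fix_rat hF hO hM hMI hno hB hfix)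
  rwa [mul_inv_cancel_left] at this

/-- Without transvections an element carrying a rational isotropic point to a rational point is rational. -/
theorem rat_of_point (hno : ∀ v, ¬ IsCentre hF M v) {g : GL (Fin 3) F} (hg : g ∈ M) {b : Fin 3 → F}
    (hb : IsRV q P b) (hbb : hh b b = 0) (hb0 : b ≠ 0)
    (hgb : IsRPt q P ((g : Matrix (Fin 3) (Fin 3) F) *ᵥ b)) : g ∈ subfieldSubgroup F₀ P := by
  have hf := isUnitaryForm hF (n := 3)
  obtain ⟨f, w, hB⟩ := exists_rv_frame_at hF hO hb hbb hb0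
  obtain ⟨c, r, hr, hcr⟩ := hgb
  have hc : c ≠ 0 := fun h => hb0 (by
    rw [← inv_mulVec_mulVec g b, hcr, h, zero_smul, Matrix.mulVec_zero])
  have hrr : hh r r = 0 := by
    have h1 := herm_mulVec (hMI hg) b b
    rw [hcr, hbb, hf.smul_left, Unit.smul_right hf] at h1
    exact (mul_eq_zero.1 ((mul_eq_zero.1 h1).resolve_left hc)).resolve_left ((map_ne_zero _).2 hc)
  by_cases hrb : r ∈ F ∙ b
  · obtain ⟨l, rfl⟩ := Submodule.mem_span_singleton.1 hrb
    exact stab_rat hF hO hM hMI hno hB hg (by rw [hcr, smul_smul])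
  have hne : hh b r ≠ 0 := fun h => hrb (mem_span_of_orth hF hb0 hbb hrr (herm_swap0 hF h))
  set v := b - r with hv
  have hrb' : hh r b = hh b r := herm_swap_rv hF hO hb hr
  have hvv : hh v v = -2 * hh b r := by
    simp only [hv, sub_eq_add_neg, ← neg_one_smul F r, hf.add_left, Unit.add_right hf, hf.smul_left,
      Unit.smul_right hf, hbb, hrr, hrb', map_neg, map_one]
    ring
  obtain ⟨R, hR, hRv⟩ := exists_turn hF hO (hb.sub hF hr)
    (by rw [← hv, hvv]; exact mul_ne_zero (neg_ne_zero.2 hO.two) hne)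
  have hRr : (R : Matrix (Fin 3) (Fin 3) F) *ᵥ r = -b := by
    rw [hRv, ← hv, hvv]
    simp only [hv, sub_eq_add_neg, ← neg_one_smul F r, Unit.add_right hf, Unit.smul_right hf, hrr, hrb', map_neg,
      map_one, mul_zero, add_zero]
    have h2 := hO.two
    match_scalars <;> field_simp <;> ring
  have h1 := stab_rat hF hO hM hMI hno hB (M.mul_mem (hM hR) hg) (lam := -c) (by
    rw [mul_mulVec, hcr, Matrix.mulVec_smul, hRr, smul_neg, neg_smul])
  have := (subfieldSubgroup F₀ P).mul_mem ((subfieldSubgroup F₀ P).inv_mem hR.1) h1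
  rwa [inv_mul_cancel_left] at this

end CfsgLib.Geo.SU3
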