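/-
The orthogonal subfield group is maximal in SU of dimension three, odd order at least seven.
-/
import Cfsg.Agent.Geo.SUThree.OrthBase
import Cfsg.Agent.Geo.SUFour.OrthIdent

set_option autoImplicit false
set_option linter.unusedSectionVars false

namespace CfsgLib.Geo.SU3

open Matrix Cfsg Cfsg.Geo CfsgLib.Geo CfsgLib.Geo.UTv
open scoped Classical

variable {q : ℕ} {F : Type*} [Field F] [Finite F] (hF : Nat.card F = q ^ 2) {F₀ : Subfield F}
  {P : GL (Fin 3) F} (hO : OrthSub 3 q F F₀ P) {M : Subgroup (GL (Fin 3) F)}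
  (hM : subfieldSubgroup F₀ P ⊓ suGL 3 F q ≤ M) (hMI : M ≤ suGL 3 F q)

local notation "hh" => Cfsg.hermForm 3 F q

/-- `g` carries the rational vector `u` to a vector of the given phase. -/
def HasPhase (q : ℕ) (P g : GL (Fin 3) F) (u : Fin 3 → F) (π : F) : Prop :=
  kap q P ((g : Matrix (Fin 3) (Fin 3) F) *ᵥ u) = π • ((g : Matrix (Fin 3) (Fin 3) F) *ᵥ u)

include hF hO

omit hO in
/-- Two vectors orthogonal to an orthogonal pair with an anisotropic member are proportional. -/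
lemma prop_of_perp {u₁ u₂ a b : Fin 3 → F} (h11 : hh u₁ u₁ ≠ 0) (h21 : hh u₂ u₁ = 0) (hu₂ : u₂ ≠ 0)
    (ha0 : a ≠ 0) (ha1 : hh a u₁ = 0) (ha2 : hh a u₂ = 0) (hb1 : hh b u₁ = 0) (hb2 : hh b u₂ = 0) :
    b ∈ F ∙ a := by
  have hf := isUnitaryForm hF (n := 3)
  obtain ⟨e, f, hB⟩ := exists_frame_perp hF h11
  set a2 := hh u₂ f
  set b2 := hh u₂ e
  have hu : u₂ = a2 • e + b2 • f := hB.expand_perp hF h21
  have eA := hB.expand_perp hF ha1
  have eB := hB.expand_perp hF hb1
  have key : ∀ y, y = hh y f • e + hh y e • f → hh y u₂ = 0 →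
      hh y f * frobEquiv hF b2 + hh y e * frobEquiv hF a2 = 0 := fun y hy h => by
    rw [hy, hu] at h
    simp only [hf.add_left, Unit.add_right hf, hf.smul_left, Unit.smul_right hf, hB.ee, hB.ff, hB.ef,
      hB.fe hF] at h
    linear_combination h
  have kA := key a eA ha2
  have kB := key b eB hb2
  have hdet : hh b f * hh a e - hh b e * hh a f = 0 := by
    by_contra hd
    have h1 : frobEquiv hF b2 * (hh b f * hh a e - hh b e * hh a f) = 0 := by
      linear_combination hh a e * kB - hh b e * kA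
    have h2 : frobEquiv hF a2 * (hh b f * hh a e - hh b e * hh a f) = 0 := by
      linear_combination hh b f * kA - hh a f * kB
    refine hu₂ ?_
    rw [hu, (map_eq_zero_iff _ (frobEquiv hF).injective).1 ((mul_eq_zero.1 h2).resolve_right hd),
      (map_eq_zero_iff _ (frobEquiv hF).injective).1 ((mul_eq_zero.1 h1).resolve_right hd), zero_smul, zero_smul,
      add_zero]
  rcases eq_or_ne (hh a e) 0 with h0 | h0
  · have haf : hh a f ≠ 0 := fun h => ha0 (by rw [eA, h0, h, zero_smul, zero_smul, add_zero])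
    have hbe : hh b e = 0 := by
      rw [h0, mul_zero, zero_sub, neg_eq_zero] at hdet
      exact (mul_eq_zero.1 hdet).resolve_right haf
    refine Submodule.mem_span_singleton.2 ⟨hh b f / hh a f, ?_⟩
    calc (hh b f / hh a f) • a = (hh b f / hh a f) • (hh a f • e) :=
          congrArg _ (eA.trans (by rw [h0, zero_smul, add_zero]))
      _ = hh b f • e := by rw [smul_smul, div_mul_cancel₀ _ haf]
      _ = b := (eB.trans (by rw [hbe, zero_smul, add_zero])).symm
  · refine Submodule.mem_span_singleton.2 ⟨hh b e / hh a e, ?_⟩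
    calc (hh b e / hh a e) • a = (hh b e / hh a e) • (hh a f • e + hh a e • f) := congrArg _ eA
      _ = hh b f • e + hh b e • f := by
        rw [smul_add, smul_smul, smul_smul, div_mul_cancel₀ _ h0]
        congr 2
        rw [div_mul_eq_mul_div, div_eq_iff h0]
        linear_combination -hdet
      _ = b := eB.symm

omit hO in
/-- An orthogonal pair of anisotropic vectors has an anisotropic pole. -/
lemma pole_aniso {u₁ u₂ a : Fin 3 → F} (h11 : hh u₁ u₁ ≠ 0) (h22 : hh u₂ u₂ ≠ 0) (h21 : hh u₂ u₁ = 0)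
    (ha0 : a ≠ 0) (ha1 : hh a u₁ = 0) (ha2 : hh a u₂ = 0) : hh a a ≠ 0 := by
  have hf := isUnitaryForm hF (n := 3)
  obtain ⟨z, hz1, hz2, hzz⟩ := exists_pole hF u₁ u₂
  have hzz' : hh z z ≠ 0 := by
    rw [hzz, herm_swap0 hF h21, zero_mul, sub_zero]
    exact mul_ne_zero h11 h22
  obtain ⟨l, hl⟩ := Submodule.mem_span_singleton.1
    (prop_of_perp hF h11 h21 (fun h => h22 (by rw [h, zero_left hF])) ha0 ha1 ha2 hz1 hz2)
  intro h
  apply hzz'
  rw [← hl, hf.smul_left, Unit.smul_right hf, h, mul_zero, mul_zero]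

/-- The expansion in a rational orthogonal basis. -/
lemma expand3 {u₁ u₂ w : Fin 3 → F} (h11 : hh u₁ u₁ ≠ 0) (h22 : hh u₂ u₂ ≠ 0) (hww : hh w w ≠ 0)
    (h21 : hh u₂ u₁ = 0) (hw1 : hh w u₁ = 0) (hw2 : hh w u₂ = 0) (x : Fin 3 → F) :
    x = (hh x u₁ / hh u₁ u₁) • u₁ + (hh x u₂ / hh u₂ u₂) • u₂ + (hh x w / hh w w) • w := by
  have hf := isUnitaryForm hF (n := 3)
  set c₁ := hh x u₁ / hh u₁ u₁
  set c₂ := hh x u₂ / hh u₂ u₂
  set c₃ := hh x w / hh w w
  set y := x + (-c₁) • u₁ + (-c₂) • u₂ with hy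
  have hy1 : hh y u₁ = 0 := by
    simp only [hy, hf.add_left, hf.smul_left, h21, c₁]
    field_simp
    ring
  have hy2 : hh y u₂ = 0 := by
    simp only [hy, hf.add_left, hf.smul_left, herm_swap0 hF h21, c₂]
    field_simp
    ring
  obtain ⟨l, hl⟩ := Submodule.mem_span_singleton.1 (prop_of_perp hF h11 h21 (fun h => h22 (by rw [h, zero_left hF]))
    (fun h => hww (by rw [h, zero_left hF])) hw1 hw2 hy1 hy2)
  have h3 : l = c₃ := by
    have e := congrArg (fun z => hh z w) hl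
    simp only [hy, hf.add_left, hf.smul_left, herm_swap0 hF hw1, herm_swap0 hF hw2] at e
    simp only [c₃]
    field_simp
    linear_combination e
  rw [← h3, hl, hy]
  module

/-- A phase determines a scalar making the image rational. -/
lemma isRPt_of_phase {g : GL (Fin 3) F} {u : Fin 3 → F} (hu0 : u ≠ 0) {π : F} (h : HasPhase q P g u π) :
    IsRPt q P ((g : Matrix (Fin 3) (Fin 3) F) *ᵥ u) ∧ frobEquiv hF π * π = 1 ∧
      ∃ s : F, s ≠ 0 ∧ frobEquiv hF s * π = s := by
  have hf := isUnitaryForm hF (n := 3)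
  unfold HasPhase at h
  set x := (g : Matrix (Fin 3) (Fin 3) F) *ᵥ u
  have hx0 : x ≠ 0 := SL3.Plane.mulVec_ne_zero' g hu0
  have hπ : frobEquiv hF π * π = 1 := by
    have h1 := congrArg (kap q P) h
    rw [kap_kap hF, kap_smul hF, h, smul_smul] at h1
    exact (smul_left_injective F hx0 ((one_smul F x).trans h1)).symm
  obtain ⟨δ, hδ0, hδ⟩ := exists_delta hF
  obtain ⟨s, hs0, hs⟩ : ∃ s : F, s ≠ 0 ∧ frobEquiv hF s * π = s := by
    by_cases hp : π + 1 = 0
    · exact ⟨δ, hδ0, by rw [hδ]; linear_combination -δ * hp⟩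
    · exact ⟨π + 1, hp, by rw [map_add, map_one]; linear_combination hπ⟩
  refine ⟨⟨s⁻¹, s • x, ?_, by rw [smul_smul, inv_mul_cancel₀ hs0, one_smul]⟩, hπ, s, hs0, hs⟩
  rw [IsRV, kap_smul hF, h, smul_smul, hs]

omit hO in
/-- A vector with a rational image has a phase. -/
lemma exists_phase_of_isRPt {g : GL (Fin 3) F} {u : Fin 3 → F} (hu0 : u ≠ 0)
    (h : IsRPt q P ((g : Matrix (Fin 3) (Fin 3) F) *ᵥ u)) : ∃ π, HasPhase q P g u π := by
  obtain ⟨c, r, hr, hcr⟩ := h
  have hc : c ≠ 0 := fun h0 => SL3.Plane.mulVec_ne_zero' g hu0 (by rw [hcr, h0, zero_smul])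
  refine ⟨frobEquiv hF c / c, ?_⟩
  unfold HasPhase
  rw [hcr, kap_smul hF, hr, smul_smul, div_mul_cancel₀ _ hc]

omit hO in
lemma phase_lin {g : GL (Fin 3) F} {u u' : Fin 3 → F} {π : F} (h : HasPhase q P g u π) (h' : HasPhase q P g u' π)
    {a b : F} (ha : frobEquiv hF a = a) (hb : frobEquiv hF b = b) : HasPhase q P g (a • u + b • u') π := by
  unfold HasPhase at h h' ⊢
  rw [Matrix.mulVec_add, Matrix.mulVec_smul, Matrix.mulVec_smul, kap_add hF, kap_smul hF, kap_smul hF, ha, hb, h, h']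
  module

/-- Rational vectors of different phases are orthogonal. -/
lemma phase_orth {g : GL (Fin 3) F} (hg : g ∈ suGL 3 F q) {u u' : Fin 3 → F} (hu : IsRV q P u) (hu' : IsRV q P u')
    (hu0 : u' ≠ 0) {π π' : F} (h : HasPhase q P g u π) (h' : HasPhase q P g u' π') (hne : π ≠ π') :
    hh u u' = 0 := by
  have hf := isUnitaryForm hF (n := 3)
  obtain ⟨-, hπ', -⟩ := isRPt_of_phase hF hO hu0 h'
  unfold HasPhase at h h'
  have e := herm_kap hF hO ((g : Matrix (Fin 3) (Fin 3) F) *ᵥ u) ((g : Matrix (Fin 3) (Fin 3) F) *ᵥ u')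
  rw [h, h', hf.smul_left, Unit.smul_right hf, herm_mulVec hg, fixed_herm hF hO hu hu'] at e
  by_contra h0
  apply hne
  have e1 : π * frobEquiv hF π' = 1 := mul_right_cancel₀ h0 (by linear_combination e)
  linear_combination π' * e1 - π * hπ'

/-- An element with one phase on a rational basis is rational. -/
lemma mem_of_phase {g : GL (Fin 3) F} {u₁ u₂ w : Fin 3 → F} (hu₁ : IsRV q P u₁) (hu₂ : IsRV q P u₂)
    (hw : IsRV q P w) (h11 : hh u₁ u₁ ≠ 0) (h22 : hh u₂ u₂ ≠ 0) (hww : hh w w ≠ 0) (h21 : hh u₂ u₁ = 0)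
    (hw1 : hh w u₁ = 0) (hw2 : hh w u₂ = 0) {π : F} (h₁ : HasPhase q P g u₁ π) (h₂ : HasPhase q P g u₂ π)
    (h₃ : HasPhase q P g w π) : g ∈ subfieldSubgroup F₀ P := by
  have hu0 : u₁ ≠ 0 := fun h => h11 (by rw [h, zero_left hF])
  obtain ⟨-, -, s, hs0, hs⟩ := isRPt_of_phase hF hO hu0 h₁
  refine mem_subfield_of_scaled hO hs0 fun x hx => ?_
  have hreal : ∀ a b : Fin 3 → F, IsRV q P a → IsRV q P b → frobEquiv hF (hh a b / hh b b) = hh a b / hh b b :=
    fun a b ha hb => by rw [map_div₀, fixed_herm hF hO ha hb, fixed_herm hF hO hb hb]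
  have h := phase_lin hF (phase_lin hF h₁ h₂ (hreal x u₁ hx hu₁) (hreal x u₂ hx hu₂)) h₃ (a := 1) (map_one _)
    (hreal x w hx hw)
  rw [one_smul, ← expand3 hF hO h11 h22 hww h21 hw1 hw2 x] at h
  unfold HasPhase at h
  rw [IsRV, kap_smul hF, h, smul_smul, hs]

include hM hMI

/-- A rational isotropic point whose image is irrational is orthogonal to a rational point with rational image. -/
lemma exists_good (hno : ∀ v, ¬ IsCentre hF M v) {g : GL (Fin 3) F} (hg : g ∈ M) {b : Fin 3 → F}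
    (hb : IsRV q P b) (hbb : hh b b = 0) (hb0 : b ≠ 0)
    (hgb : ¬ IsRPt q P ((g : Matrix (Fin 3) (Fin 3) F) *ᵥ b)) :
    ∃ u π, IsRV q P u ∧ u ≠ 0 ∧ hh u b = 0 ∧ HasPhase q P g u π := by
  have hf := isUnitaryForm hF (n := 3)
  obtain ⟨δ, hδ0, hδ⟩ := exists_delta hF
  set β := (g : Matrix (Fin 3) (Fin 3) F) *ᵥ b with hβdef
  have hββ : hh β β = 0 := by rw [hβdef, herm_mulVec (hMI hg)]; exact hbb
  have hβ0 : β ≠ 0 := SL3.Plane.mulVec_ne_zero' g hb0
  obtain ⟨a, c, ha, hc, hβe, -, -, -⟩ := exists_parts hF hO hδ0 hδ β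
  obtain ⟨v, hv, hv0, hvu⟩ := exists_rv_ne_zero hF hO ![a, c] (Fin.forall_fin_two.2 ⟨ha, hc⟩) (by norm_num)
  have hva : hh v a = 0 := hvu 0
  have hvc : hh v c = 0 := hvu 1
  have hβv : hh β v = 0 := by
    rw [hβe, hf.add_left, hf.smul_left, herm_swap0 hF hva, herm_swap0 hF hvc, mul_zero, add_zero]
  have hvv : hh v v ≠ 0 := fun h => by
    obtain ⟨l, hl⟩ := Submodule.mem_span_singleton.1 (mem_span_of_orth hF hv0 h hββ hβv)
    exact hgb ⟨l, v, hv, hl.symm⟩
  obtain ⟨R, hR, hRv⟩ := exists_turn hF hO hv hvv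
  set h := g⁻¹ * R * g
  have hhM : h ∈ M := M.mul_mem (M.mul_mem (M.inv_mem hg) (hM hR)) hg
  set u := ((g⁻¹ : GL (Fin 3) F) : Matrix (Fin 3) (Fin 3) F) *ᵥ v with hu
  have hgu : (g : Matrix (Fin 3) (Fin 3) F) *ᵥ u = v := mulVec_inv_mulVec g v
  have hhy : ∀ y, (h : Matrix (Fin 3) (Fin 3) F) *ᵥ y = -y + (2 * hh y u / hh v v) • u := fun y => by
    rw [mul_mulVec, mul_mulVec, hRv, Matrix.mulVec_add, Matrix.mulVec_neg, Matrix.mulVec_smul, inv_mulVec_mulVec,
      ← hgu, herm_mulVec (hMI hg), hgu, ← hu]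
  have hub : hh u b = 0 := by
    rw [← herm_mulVec (hMI hg), hgu]
    exact herm_swap0 hF hβv
  have hhb : (h : Matrix (Fin 3) (Fin 3) F) *ᵥ b = (-1 : F) • b := by
    rw [hhy, herm_swap0 hF hub, mul_zero, zero_div, zero_smul, add_zero, neg_one_smul]
  have hhX := rat_of_point hF hO hM hMI hno hhM hb hbb hb0 ⟨-1, b, hb, hhb⟩
  have hcomm : Commutes q P h := fun x hx =>
    rv_mulVec_of_fix hF hO hhX (by rw [map_neg, map_one]) hb hb0 hhb hx
  have huu : hh u u = hh v v := by rw [← herm_mulVec (hMI hg) u u, hgu]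
  have hhu : (h : Matrix (Fin 3) (Fin 3) F) *ᵥ u = u := by
    rw [hhy, huu, mul_div_assoc, div_self hvv]
    module
  have h1 := congrArg (kap q P) hhu
  rw [← commutes_kap hF hO hcomm, hhy] at h1
  set l := hh (kap q P u) u / hh v v
  have h2' : kap q P u = l • u := by
    have h2 := hO.two
    refine smul_right_injective _ h2 ?_
    have h3 : -kap q P u + (2 * l) • u = kap q P u := by
      rw [show 2 * l = 2 * hh (kap q P u) u / hh v v by simp only [l, mul_div_assoc]]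
      exact h1
    simp only [smul_smul]
    linear_combination (norm := module) -h3
  obtain ⟨-, -, s, hs0, hs⟩ := isRPt_of_phase hF hO (g := (1 : GL (Fin 3) F)) (u := u) (π := l)
    (SL3.Plane.mulVec_ne_zero' g⁻¹ hv0) (by unfold HasPhase; rw [Units.val_one, Matrix.one_mulVec]; exact h2')
  have hus : IsRV q P (s • u) := by rw [IsRV, kap_smul hF, h2', smul_smul, hs]
  have hu0 : u ≠ 0 := SL3.Plane.mulVec_ne_zero' g⁻¹ hv0
  refine ⟨s • u, frobEquiv hF s / s, hus, smul_ne_zero hs0 hu0, by rw [hf.smul_left, hub, mul_zero], ?_⟩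
  unfold HasPhase
  rw [Matrix.mulVec_smul, hgu, kap_smul hF, hv, smul_smul, div_mul_cancel₀ _ hs0]

/-- An irrational element has one phase on an anisotropic rational plane. -/
lemma exists_good_plane (hq : 7 ≤ q) (hno : ∀ v, ¬ IsCentre hF M v) {g : GL (Fin 3) F} (hg : g ∈ M)
    (hgX : g ∉ subfieldSubgroup F₀ P) :
    ∃ u₁ u₂ π, IsRV q P u₁ ∧ IsRV q P u₂ ∧ hh u₁ u₁ ≠ 0 ∧ hh u₂ u₂ ≠ 0 ∧ hh u₂ u₁ = 0 ∧
      HasPhase q P g u₁ π ∧ HasPhase q P g u₂ π ∧
      ∀ a b : F, frobEquiv hF a = a → frobEquiv hF b = b → a • u₁ + b • u₂ ≠ 0 →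
        hh (a • u₁ + b • u₂) (a • u₁ + b • u₂) ≠ 0 := by
  have hf := isUnitaryForm hF (n := 3)
  have haniso : ∀ u π, IsRV q P u → u ≠ 0 → HasPhase q P g u π → hh u u ≠ 0 := fun u π hu hu0 h hz =>
    hgX (rat_of_point hF hO hM hMI hno hg hu hz hu0 (isRPt_of_phase hF hO hu0 h).1)
  obtain ⟨e, f, w, hB⟩ := exists_rv_frame hF hO
  have h2 := hO.two
  set x0 : F := -hh w w / 2
  have hx0 : frobEquiv hF x0 = x0 := by simp only [x0, map_div₀, map_neg, map_ofNat, fixed_herm hF hO hB.w_rv hB.w_rv]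
  let pt : fixF hF → (Fin 3 → F) := fun z => ((z : F) * (z : F) * x0) • e + f + (z : F) • w
  have hptR : ∀ z : fixF hF, IsRV q P (pt z) := fun z =>
    ((hB.e_rv.smul hF (by rw [map_mul, map_mul, hx0, (mem_fixF hF).1 z.2])).add hF hB.f_rv).add hF
      (hB.w_rv.smul hF ((mem_fixF hF).1 z.2))
  have hpt0 : ∀ z, hh (pt z) (pt z) = 0 := fun z => by
    simp only [pt]
    rw [hB.toFrame.unit_iso hF, map_mul, map_mul, hx0, (mem_fixF hF).1 z.2]
    simp only [x0]
    field_simp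
    ring
  have hptne : ∀ z, pt z ≠ 0 := fun z h => by
    have h1 := hB.toFrame.coord_e hF ((z : F) * (z : F) * x0) 1 (z : F)
    rw [one_smul, show ((z : F) * (z : F) * x0) • e + f + (z : F) • w = pt z from rfl, h, zero_left hF] at h1
    exact zero_ne_one h1
  have hgood : ∀ z, ∃ u π, IsRV q P u ∧ u ≠ 0 ∧ hh u (pt z) = 0 ∧ HasPhase q P g u π := fun z =>
    exists_good hF hO hM hMI hno hg (hptR z) (hpt0 z) (hptne z) fun h =>
      hgX (rat_of_point hF hO hM hMI hno hg (hptR z) (hpt0 z) (hptne z) h)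
  choose U Φ hUR hU0 hUb hUP using hgood
  -- a common phase for two independent vectors
  obtain ⟨z₁, z₂, hΦ, hind⟩ : ∃ z₁ z₂, Φ z₁ = Φ z₂ ∧ U z₂ ∉ F ∙ U z₁ := by
    by_contra hcon
    push Not at hcon
    haveI := Fintype.ofFinite (fixF hF)
    let S : fixF hF → Finset (fixF hF) := fun i => Finset.univ.filter fun z => U z ∈ F ∙ U i
    have horth : ∀ i j, U j ∉ F ∙ U i → hh (U i) (U j) = 0 := fun i j h =>
      phase_orth hF hO (hMI hg) (hUR i) (hUR j) (hU0 j) (hUP i) (hUP j) fun he => h (hcon i j he)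
    have hS : ∀ i, (S i).card ≤ 2 := fun i => by
      by_contra h
      obtain ⟨a, ha, b, hb, c, hc, hab, hac, hbc⟩ := Finset.two_lt_card.1 (lt_of_not_ge h)
      have hroot : ∀ z ∈ S i, (z : F) * (z : F) * (x0 * hh e (U i)) + (z : F) * hh w (U i) + hh f (U i) = 0 := by
        intro z hz
        obtain ⟨l, hl⟩ := Submodule.mem_span_singleton.1 (Finset.mem_filter.1 hz).2
        have hl0 : l ≠ 0 := fun h0 => hU0 z (by rw [← hl, h0, zero_smul])
        have h1 := hUb z
        rw [← hl, hf.smul_left] at h1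
        have h2 := herm_swap0 hF ((mul_eq_zero.1 h1).resolve_left hl0)
        simp only [pt, hf.add_left, hf.smul_left] at h2
        linear_combination h2
      set A := x0 * hh e (U i)
      set B := hh w (U i)
      have hab' : (a : F) - b ≠ 0 := sub_ne_zero.2 fun h => hab (Subtype.ext h)
      have hac' : (a : F) - c ≠ 0 := sub_ne_zero.2 fun h => hac (Subtype.ext h)
      have hbc' : (b : F) - c ≠ 0 := sub_ne_zero.2 fun h => hbc (Subtype.ext h)
      have k1 : ((a : F) + b) * A + B = 0 := mul_left_cancel₀ hab'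
        (by linear_combination hroot a ha - hroot b hb)
      have k2 : ((a : F) + c) * A + B = 0 := mul_left_cancel₀ hac'
        (by linear_combination hroot a ha - hroot c hc)
      have hA : A = 0 := (mul_eq_zero.1 (show ((b : F) - c) * A = 0 by linear_combination k1 - k2)).resolve_left hbc'
      have hB0 : B = 0 := by linear_combination k1 - ((a : F) + b) * hA
      have hC : hh f (U i) = 0 := by linear_combination hroot a ha - (a : F) * (a : F) * hA - (a : F) * hB0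
      have hx00 : x0 ≠ 0 := div_ne_zero (neg_ne_zero.2 hB.ww) h2
      have hd := hB.toFrame.decomp hF (U i)
      rw [herm_swap0 hF hC, herm_swap0 hF hB0, herm_swap0 hF ((mul_eq_zero.1 hA).resolve_left hx00)] at hd
      exact hU0 i (hd.trans (by simp))
    have hq' : 7 ≤ (Finset.univ : Finset (fixF hF)).card := by
      rw [Finset.card_univ, ← Nat.card_eq_fintype_card, card_fixF hF]; exact hq
    obtain ⟨i₁, -⟩ := Finset.card_pos.1 (show 0 < (Finset.univ : Finset (fixF hF)).card by omega)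
    obtain ⟨i₂, -, h2i⟩ := Finset.exists_mem_notMem_of_card_lt_card
      (show (S i₁).card < (Finset.univ : Finset (fixF hF)).card by have := hS i₁; omega)
    obtain ⟨i₃, -, h3i⟩ := Finset.exists_mem_notMem_of_card_lt_card
      (show (S i₁ ∪ S i₂).card < (Finset.univ : Finset (fixF hF)).card by
        have := Finset.card_union_le (S i₁) (S i₂); have := hS i₁; have := hS i₂; omega)
    obtain ⟨i₄, -, h4i⟩ := Finset.exists_mem_notMem_of_card_lt_card
      (show (S i₁ ∪ S i₂ ∪ S i₃).card < (Finset.univ : Finset (fixF hF)).card by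
        have := Finset.card_union_le (S i₁ ∪ S i₂) (S i₃); have := Finset.card_union_le (S i₁) (S i₂)
        have := hS i₁; have := hS i₂; have := hS i₃; omega)
    simp only [Finset.mem_union, S, Finset.mem_filter, Finset.mem_univ, true_and, not_or] at h2i h3i h4i
    have h12 := horth i₁ i₂ h2i
    obtain ⟨l, hl⟩ := Submodule.mem_span_singleton.1 (prop_of_perp hF (haniso _ _ (hUR i₁) (hU0 i₁) (hUP i₁))
      (herm_swap0 hF h12) (hU0 i₂) (hU0 i₃) (herm_swap0 hF (horth i₁ i₃ h3i.1)) (herm_swap0 hF (horth i₂ i₃ h3i.2))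
      (herm_swap0 hF (horth i₁ i₄ h4i.1.1)) (herm_swap0 hF (horth i₂ i₄ h4i.1.2)))
    exact h4i.2 (Submodule.mem_span_singleton.2 ⟨l, hl⟩)
  -- orthogonalise
  set π := Φ z₁
  have hu₁ := hUP z₁
  have hu₂ : HasPhase q P g (U z₂) π := by rw [hΦ]; exact hUP z₂
  have h11 := haniso _ _ (hUR z₁) (hU0 z₁) hu₁
  set t := -(hh (U z₂) (U z₁) / hh (U z₁) (U z₁))
  have ht : frobEquiv hF t = t := by
    simp only [t, map_neg, map_div₀, fixed_herm hF hO (hUR z₂) (hUR z₁), fixed_herm hF hO (hUR z₁) (hUR z₁)]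
  set u₂ := t • U z₁ + (1 : F) • U z₂
  have hu₂' : HasPhase q P g u₂ π := phase_lin hF hu₁ hu₂ ht (map_one _)
  have hu₂R : IsRV q P u₂ := ((hUR z₁).smul hF ht).add hF ((hUR z₂).smul hF (map_one _))
  have hu₂0 : u₂ ≠ 0 := fun h => hind (Submodule.mem_span_singleton.2 ⟨-t, by
    simp only [u₂, one_smul] at h
    rw [neg_smul]
    exact neg_eq_of_add_eq_zero_right h⟩)
  have h21 : hh u₂ (U z₁) = 0 := by
    simp only [u₂, t, hf.add_left, hf.smul_left, one_mul, neg_mul, div_mul_cancel₀ _ h11]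
    ring
  exact ⟨U z₁, u₂, π, hUR z₁, hu₂R, h11, haniso _ _ hu₂R hu₂0 hu₂', h21, hu₁, hu₂', fun a b ha hb h0 =>
    haniso _ _ (((hUR z₁).smul hF ha).add hF (hu₂R.smul hF hb)) h0 (phase_lin hF hu₁ hu₂' ha hb)⟩

/-- Without transvections the overgroup is the subfield group. -/
theorem le_of_no_centre (hq : 7 ≤ q) (hno : ∀ v, ¬ IsCentre hF M v) : M ≤ subfieldSubgroup F₀ P := by
  have hf := isUnitaryForm hF (n := 3)
  intro g hg
  by_contra hgX
  obtain ⟨u₁, u₂, π, hu₁, hu₂, h11, h22, h21, hp₁, hp₂, -⟩ := exists_good_plane hF hO hM hMI hq hno hg hgX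
  obtain ⟨w, hw, hw0, hwu⟩ := exists_rv_ne_zero hF hO ![u₁, u₂] (Fin.forall_fin_two.2 ⟨hu₁, hu₂⟩) (by norm_num)
  have hw1 : hh w u₁ = 0 := hwu 0
  have hw2 : hh w u₂ = 0 := hwu 1
  have hww := pole_aniso hF h11 h22 h21 hw0 hw1 hw2
  have hu₁0 : u₁ ≠ 0 := fun h => h11 (by rw [h, zero_left hF])
  have hu₂0 : u₂ ≠ 0 := fun h => h22 (by rw [h, zero_left hF])
  -- the pole has a phase
  set G := (g : Matrix (Fin 3) (Fin 3) F)
  obtain ⟨π', hp₃⟩ : ∃ π', HasPhase q P g w π' := by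
    have key : ∀ u, HasPhase q P g u π → u ≠ 0 → hh w u = 0 → hh (kap q P (G *ᵥ w)) (G *ᵥ u) = 0 := by
      intro u hu hu0 hwu'
      have e := herm_kap hF hO (G *ᵥ w) (G *ᵥ u)
      rw [herm_mulVec (hMI hg), hwu', map_zero, show kap q P (G *ᵥ u) = π • (G *ᵥ u) from hu,
        Unit.smul_right hf] at e
      refine (mul_eq_zero.1 e).resolve_left ((map_ne_zero _).2 fun h0 => ?_)
      obtain ⟨-, h1, -⟩ := isRPt_of_phase hF hO hu0 hu
      rw [h0, map_zero, zero_mul] at h1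
      exact zero_ne_one h1
    obtain ⟨l, hl⟩ := Submodule.mem_span_singleton.1 (prop_of_perp hF
      (show hh (G *ᵥ u₁) (G *ᵥ u₁) ≠ 0 by rw [herm_mulVec (hMI hg)]; exact h11)
      (show hh (G *ᵥ u₂) (G *ᵥ u₁) = 0 by rw [herm_mulVec (hMI hg)]; exact h21)
      (SL3.Plane.mulVec_ne_zero' g hu₂0) (SL3.Plane.mulVec_ne_zero' g hw0)
      (by rw [herm_mulVec (hMI hg)]; exact hw1) (by rw [herm_mulVec (hMI hg)]; exact hw2)
      (key u₁ hp₁ hu₁0 hw1) (key u₂ hp₂ hu₂0 hw2))
    exact ⟨l, hl.symm⟩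
  have hne : π' ≠ π := fun h => hgX (mem_of_phase hF hO hu₁ hu₂ hw h11 h22 hww h21 hw1 hw2 hp₁ hp₂ (h ▸ hp₃))
  -- a vector of the plane with the length opposite to the pole
  have hmem : ∀ {a b : Fin 3 → F}, IsRV q P a → IsRV q P b → hh a b ∈ F₀ := fun ha hb =>
    hO.mem_of_fixed _ (herm_fixed hO ha hb)
  obtain ⟨X, Y, hXY⟩ := CfsgLib.Forms.exists_binary (F := F₀)
    (fun e => hO.two (by have := congrArg F₀.subtype e; rwa [map_ofNat, map_zero] at this))
    (a := ⟨_, hmem hu₁ hu₁⟩) (b := ⟨_, hmem hu₂ hu₂⟩)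
    (fun e => h11 (congrArg Subtype.val e)) (fun e => h22 (congrArg Subtype.val e)) (-⟨_, hmem hw hw⟩)
  have hXY' : hh u₁ u₁ * (X : F) ^ 2 + hh u₂ u₂ * (Y : F) ^ 2 = -hh w w := congrArg Subtype.val hXY
  have hfix : ∀ x : F₀, frobEquiv hF (x : F) = x := fun x => by rw [frobEquiv_apply hF, hO.fixed _ x.2]
  have h12 := herm_swap0 hF h21
  set a₀ := (X : F) • u₁ + (Y : F) • u₂ with ha₀
  have ha₀R : IsRV q P a₀ := (hu₁.smul hF (hfix X)).add hF (hu₂.smul hF (hfix Y))
  have ha₀p : HasPhase q P g a₀ π := phase_lin hF hp₁ hp₂ (hfix X) (hfix Y)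
  have ha₀n : hh a₀ a₀ = -hh w w := by
    rw [← hXY', ha₀]
    simp only [hf.add_left, Unit.add_right hf, hf.smul_left, Unit.smul_right hf, hfix, h12, h21]
    ring
  set a₁ := ((Y : F) * hh u₂ u₂) • u₁ + (-((X : F) * hh u₁ u₁)) • u₂ with ha₁
  have ha₁R : IsRV q P a₁ := by
    refine (hu₁.smul hF ?_).add hF (hu₂.smul hF ?_)
    · rw [map_mul, hfix, fixed_herm hF hO hu₂ hu₂]
    · rw [map_neg, map_mul, hfix, fixed_herm hF hO hu₁ hu₁]
  have ha10 : hh a₁ a₀ = 0 := by
    simp only [ha₀, ha₁, hf.add_left, Unit.add_right hf, hf.smul_left, Unit.smul_right hf, hfix, h12, h21]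
    ring
  have ha11 : hh a₁ a₁ ≠ 0 := by
    have e : hh a₁ a₁ = hh u₁ u₁ * hh u₂ u₂ * (hh u₁ u₁ * (X : F) ^ 2 + hh u₂ u₂ * (Y : F) ^ 2) := by
      simp only [ha₁, hf.add_left, Unit.add_right hf, hf.smul_left, Unit.smul_right hf, map_neg, map_mul, hfix,
        fixed_herm hF hO hu₁ hu₁, fixed_herm hF hO hu₂ hu₂, h12, h21]
      ring
    rw [e, hXY']
    exact mul_ne_zero (mul_ne_zero h11 h22) (neg_ne_zero.2 hww)
  have ha1w : hh a₁ w = 0 := by
    simp only [ha₁, hf.add_left, hf.smul_left, herm_swap0 hF hw1, herm_swap0 hF hw2, mul_zero, add_zero]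
  have ha0w : hh a₀ w = 0 := by
    simp only [ha₀, hf.add_left, hf.smul_left, herm_swap0 hF hw1, herm_swap0 hF hw2, mul_zero, add_zero]
  have ha₀a : hh a₀ a₀ ≠ 0 := by rw [ha₀n]; exact neg_ne_zero.2 hww
  have ha₀0 : a₀ ≠ 0 := fun h => ha₀a (by rw [h, zero_left hF])
  -- the conjugate half-turn
  obtain ⟨⟨c, ra, hra, hca⟩, -⟩ := isRPt_of_phase hF hO ha₀0 ha₀p
  obtain ⟨⟨c', rw', hrw, hcw⟩, -⟩ := isRPt_of_phase hF hO hw0 hp₃
  change G *ᵥ a₀ = c • ra at hca
  change G *ᵥ w = c' • rw' at hcw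
  have hga : G *ᵥ a₀ ≠ 0 := SL3.Plane.mulVec_ne_zero' g ha₀0
  have hgw : G *ᵥ w ≠ 0 := SL3.Plane.mulVec_ne_zero' g hw0
  have hc0 : c ≠ 0 := fun h => hga (by rw [hca, h, zero_smul])
  have hc0' : c' ≠ 0 := fun h => hgw (by rw [hcw, h, zero_smul])
  have hπc : frobEquiv hF c / c = π := by
    have e : kap q P (G *ᵥ a₀) = π • (G *ᵥ a₀) := ha₀p
    rw [hca, kap_smul hF, hra, smul_smul] at e
    rw [div_eq_iff hc0]
    exact smul_left_injective F (fun h => hga (by rw [hca, h, smul_zero])) e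
  have hπc' : frobEquiv hF c' / c' = π' := by
    have e : kap q P (G *ᵥ w) = π' • (G *ᵥ w) := hp₃
    rw [hcw, kap_smul hF, hrw, smul_smul] at e
    rw [div_eq_iff hc0']
    exact smul_left_injective F (fun h => hgw (by rw [hcw, h, smul_zero])) e
  obtain ⟨s, hs, hs0, hsn⟩ := SUFour.exists_sq_ne hF hO (by omega) (c * frobEquiv hF c / (c' * frobEquiv hF c'))
  set v := ra + s • rw' with hv
  have hvR : IsRV q P v := hra.add hF (hrw.smul hF hs)
  set n := c⁻¹ • a₀ + (s * c'⁻¹) • w with hn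
  have hgn : G *ᵥ n = v := by
    rw [hn, Matrix.mulVec_add, Matrix.mulVec_smul, Matrix.mulVec_smul, hca, hcw, smul_smul, smul_smul,
      inv_mul_cancel₀ hc0, mul_assoc, inv_mul_cancel₀ hc0', one_smul, mul_one]
  have hσc : frobEquiv hF c ≠ 0 := (map_ne_zero _).2 hc0
  have hσc' : frobEquiv hF c' ≠ 0 := (map_ne_zero _).2 hc0'
  have hvn : hh v v = hh n n := by rw [← hgn, herm_mulVec (hMI hg)]
  have hvv : hh v v ≠ 0 := fun h => hsn (by
    rw [hvn] at h
    simp only [hn, hf.add_left, Unit.add_right hf, hf.smul_left, Unit.smul_right hf, ha0w, herm_swap0 hF ha0w,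
      ha₀n, map_mul, map_inv₀, hs] at h
    have h' : hh w w * (c * frobEquiv hF c * (s * s) - c' * frobEquiv hF c') = 0 := by
      field_simp at h
      linear_combination h
    have h3 := sub_eq_zero.1 ((mul_eq_zero.1 h').resolve_left hww)
    rw [div_mul_eq_mul_div, div_eq_one_iff_eq (mul_ne_zero hc0' hσc'), h3])
  obtain ⟨R, hR, hRv⟩ := exists_turn hF hO hvR hvv
  set m := g⁻¹ * R * g
  have hmM : m ∈ M := M.mul_mem (M.mul_mem (M.inv_mem hg) (hM hR)) hg
  have hmy : ∀ y, (m : Matrix (Fin 3) (Fin 3) F) *ᵥ y = -y + (2 * hh y n / hh v v) • n := fun y => by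
    rw [mul_mulVec, mul_mulVec, hRv, Matrix.mulVec_add, Matrix.mulVec_neg, Matrix.mulVec_smul, inv_mulVec_mulVec]
    congr 2
    · rw [show hh ((g : Matrix (Fin 3) (Fin 3) F) *ᵥ y) v = hh y n by rw [← hgn, herm_mulVec (hMI hg)]]
    · rw [← hgn]; exact inv_mulVec_mulVec g n
  -- the rational points of the new element
  have hcls : ∀ u, IsRV q P u → u ≠ 0 → IsRPt q P ((m : Matrix (Fin 3) (Fin 3) F) *ᵥ u) →
      hh u n = 0 ∨ hh u a₁ = 0 := by
    intro u hu hu0 hmu
    by_contra hcon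
    push Not at hcon
    obtain ⟨hun, hua⟩ := hcon
    obtain ⟨μ, r, hr, hμ⟩ := hmu
    rw [hmy] at hμ
    set k := 2 * hh u n / hh v v
    have hk0 : k ≠ 0 := div_ne_zero (mul_ne_zero hO.two hun) hvv
    have hna : hh n a₁ = 0 := by
      simp only [hn, hf.add_left, hf.smul_left, herm_swap0 hF ha10, herm_swap0 hF ha1w, mul_zero, add_zero]
    have e1 : -hh u a₁ = μ * hh r a₁ := by
      have h := congrArg (fun z => hh z a₁) hμ
      simp only [← neg_one_smul F u, hf.add_left, hf.smul_left, hna, mul_zero, add_zero] at h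
      linear_combination h
    have hμF : frobEquiv hF μ = μ := by
      have h1 := congrArg (frobEquiv hF) e1
      rw [map_neg, map_mul, fixed_herm hF hO hu ha₁R, fixed_herm hF hO hr ha₁R, e1] at h1
      have hr1 : hh r a₁ ≠ 0 := fun h => hua (by rw [h, mul_zero, neg_eq_zero] at e1; exact e1)
      exact (mul_right_cancel₀ hr1 h1).symm
    have hkn : IsRV q P (k • n) := by
      rw [show k • n = μ • r + u by rw [← hμ]; abel]
      exact (hr.smul hF hμF).add hF hu
    have e2 := fixed_herm hF hO hkn ha₀R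
    have e3 := fixed_herm hF hO hkn hw
    simp only [hn, smul_add, smul_smul, hf.add_left, hf.smul_left, ha0w, herm_swap0 hF ha0w, mul_zero, add_zero,
      zero_add, map_mul, map_inv₀, hs, fixed_herm hF hO ha₀R ha₀R, fixed_herm hF hO hw hw] at e2 e3
    have f2 := mul_right_cancel₀ ha₀a e2
    have f3 := mul_right_cancel₀ hww e3
    field_simp at f2 f3
    apply hne
    rw [← hπc, ← hπc', div_eq_div_iff hc0' hc0]
    refine mul_left_cancel₀ (mul_ne_zero hk0 hs0) ?_
    linear_combination s * c' * f2 - s * c * f3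
  -- compare with the good plane of the new element
  by_cases hmX : m ∈ subfieldSubgroup F₀ P
  · have hx : IsRV q P (a₀ + a₁) := ha₀R.add hF ha₁R
    have hx0 : a₀ + a₁ ≠ 0 := fun h => ha₀a (by
      have h1 := congrArg (fun z => hh z a₀) h
      simp only [hf.add_left, ha10, zero_left hF, add_zero] at h1
      exact h1)
    obtain ⟨d, hd0, hd⟩ := exists_scaled_of_mem_subfield hO hmX
    rcases hcls _ hx hx0 ⟨d⁻¹, _, hd _ hx, by rw [smul_smul, inv_mul_cancel₀ hd0, one_smul]⟩ with h | h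
    · simp only [hn, hf.add_left, Unit.add_right hf, Unit.smul_right hf, ha10, ha0w, ha1w, mul_zero, add_zero,
        map_inv₀] at h
      exact mul_ne_zero (inv_ne_zero hσc) ha₀a h
    · simp only [hf.add_left, herm_swap0 hF ha10, zero_add] at h
      exact ha11 h
  obtain ⟨v₁, v₂, π'', hv₁, hv₂, k11, k22, k21, q₁, q₂, hnoiso⟩ := exists_good_plane hF hO hM hMI hq hno hmM hmX
  have hclass : ∀ {y}, IsRV q P y → y ≠ 0 → HasPhase q P m y π'' → hh y n = 0 ∨ hh y a₁ = 0 := fun {y} hy hy0 hp =>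
    hcls y hy hy0 (isRPt_of_phase hF hO hy0 hp).1
  have hv₁0 : v₁ ≠ 0 := fun h => k11 (by rw [h, zero_left hF])
  have hv₂0 : v₂ ≠ 0 := fun h => k22 (by rw [h, zero_left hF])
  have c1 := hclass hv₁ hv₁0 q₁
  have c2 := hclass hv₂ hv₂0 q₂
  have c3 := hclass (((hv₁.smul hF (map_one _))).add hF (hv₂.smul hF (map_one _))) (fun h => k11 (by
    have h1 := congrArg (fun z => hh z v₁) h
    simp only [hf.add_left, hf.smul_left, k21, zero_left hF, one_mul, add_zero] at h1
    exact h1)) (phase_lin hF q₁ q₂ (map_one _) (map_one _))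
  have hboth : (hh v₁ n = 0 ∧ hh v₂ n = 0) ∨ (hh v₁ a₁ = 0 ∧ hh v₂ a₁ = 0) := by
    simp only [one_smul, hf.add_left] at c3
    rcases c1 with h1 | h1 <;> rcases c2 with h2 | h2 <;> rcases c3 with h3 | h3
    · exact Or.inl ⟨h1, h2⟩
    · exact Or.inl ⟨h1, h2⟩
    · exact Or.inl ⟨h1, by linear_combination h3 - h1⟩
    · exact Or.inr ⟨by linear_combination h3 - h2, h2⟩
    · exact Or.inl ⟨by linear_combination h3 - h2, h2⟩
    · exact Or.inr ⟨h1, by linear_combination h3 - h1⟩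
    · exact Or.inr ⟨h1, h2⟩
    · exact Or.inr ⟨h1, h2⟩
  rcases hboth with ⟨h1, h2⟩ | ⟨h1, h2⟩
  · -- the rational vectors orthogonal to the centre form one point
    have hperp : ∀ y, IsRV q P y → hh y n = 0 → hh y a₀ = 0 ∧ hh y w = 0 := by
      intro y hy h
      simp only [hn, Unit.add_right hf, Unit.smul_right hf, map_mul, map_inv₀, hs] at h
      have ra' := fixed_herm hF hO hy ha₀R
      have rb' := fixed_herm hF hO hy hw
      have hσ := congrArg (frobEquiv hF) h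
      simp only [map_add, map_mul, map_inv₀, hs, hf.involutive, ra', rb', map_zero] at hσ
      field_simp at h hσ
      have hD : frobEquiv hF c' * c - c' * frobEquiv hF c ≠ 0 := fun h0 => hne (by
        rw [← hπc, ← hπc', div_eq_div_iff hc0' hc0]
        linear_combination h0)
      have e1 : hh y a₀ * (frobEquiv hF c' * c - c' * frobEquiv hF c) = 0 := by
        linear_combination c * h - frobEquiv hF c * hσ
      have hA := (mul_eq_zero.1 e1).resolve_right hD
      refine ⟨hA, ?_⟩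
      rw [hA] at h
      have : frobEquiv hF c * s * hh y w = 0 := by linear_combination h
      exact (mul_eq_zero.1 this).resolve_left (mul_ne_zero hσc hs0)
    obtain ⟨hA1, hW1⟩ := hperp v₁ hv₁ h1
    obtain ⟨hA2, hW2⟩ := hperp v₂ hv₂ h2
    obtain ⟨l, hl⟩ := Submodule.mem_span_singleton.1
      (prop_of_perp hF ha₀a (herm_swap0 hF ha0w) hw0 hv₁0 hA1 hW1 hA2 hW2)
    have : l * hh v₁ v₁ = 0 := by rw [← hf.smul_left, hl, k21]
    rw [(mul_eq_zero.1 this).resolve_right k11, zero_smul] at hl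
    exact hv₂0 hl.symm
  · -- the plane contains an isotropic rational point
    set b := a₀ + w with hb
    have hbR : IsRV q P b := ha₀R.add hF hw
    have hba : hh b a₁ = 0 := by rw [hb, hf.add_left, herm_swap0 hF ha10, herm_swap0 hF ha1w, add_zero]
    set x₁ := hh b v₁ / hh v₁ v₁
    set x₂ := hh b v₂ / hh v₂ v₂
    have hbexp := expand3 hF hO k11 k22 ha11 k21 (herm_swap0 hF h1) (herm_swap0 hF h2) b
    rw [hba, zero_div, zero_smul, add_zero] at hbexp
    have hbb : hh b b = 0 := by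
      simp only [hb, hf.add_left, Unit.add_right hf, ha0w, herm_swap0 hF ha0w, ha₀n]
      ring
    have hb0 : b ≠ 0 := fun h => ha₀a (by
      have h3 := congrArg (fun z => hh z a₀) h
      simp only [hb, hf.add_left, herm_swap0 hF ha0w, zero_left hF, add_zero] at h3
      exact h3)
    refine hnoiso x₁ x₂ ?_ ?_ (by rw [← hbexp]; exact hb0) (by rw [← hbexp]; exact hbb)
    · simp only [x₁, map_div₀, fixed_herm hF hO hbR hv₁, fixed_herm hF hO hv₁ hv₁]
    · simp only [x₂, map_div₀, fixed_herm hF hO hbR hv₂, fixed_herm hF hO hv₂ hv₂]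

/-- A point fixed by the overgroup lies on every rational isotropic point. -/
lemma fixed_line {e f w : Fin 3 → F} (hB : RVFrame q P e f w) {x : Fin 3 → F} (hx0 : x ≠ 0)
    (hx : ∀ g ∈ M, (g : Matrix (Fin 3) (Fin 3) F) *ᵥ x ∈ F ∙ x) : hh x e = 0 ∧ hh x w = 0 := by
  have hf := isUnitaryForm hF (n := 3)
  obtain ⟨A, hA, hE⟩ := exists_rat_eich hF hO hB.e_rv hB.w_rv hB.ee hB.we
  obtain ⟨l, hl⟩ := Submodule.mem_span_singleton.1 (hx A (hM hA))
  have hAe : (A : Matrix (Fin 3) (Fin 3) F) *ᵥ e = e := by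
    rw [hE e, hB.ee, hB.toFrame.ew hF]
    simp
  have h1 : (l - 1) * hh x e = 0 := by
    have e1 := herm_mulVec (hMI (hM hA)) x e
    rw [hAe, ← hl, hf.smul_left] at e1
    linear_combination e1
  have h2 := congrArg (fun z => hh z w) hl
  simp only [hE x, hf.add_left, hf.smul_left, hB.toFrame.ew hF, mul_zero, add_zero] at h2
  have h3 := congrArg (fun z => hh z f) hl
  simp only [hE x, hf.add_left, hf.smul_left, hB.wf, hB.ef, mul_zero, add_zero, mul_one] at h3
  by_cases hl1 : l = 1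
  · subst hl1
    have hb : hh x e = 0 := (mul_eq_zero.1 (show hh x e * hh w w = 0 by linear_combination -h2)).resolve_right hB.ww
    refine ⟨hb, ?_⟩
    rw [hb] at h3
    linear_combination h3
  · exfalso
    have hb : hh x e = 0 := (mul_eq_zero.1 h1).resolve_left (sub_ne_zero.2 hl1)
    rw [hb] at h2 h3
    have hw : hh x w = 0 := (mul_eq_zero.1 (show (l - 1) * hh x w = 0 by linear_combination h2)).resolve_left
      (sub_ne_zero.2 hl1)
    rw [hw] at h3
    have hfv : hh x f = 0 := (mul_eq_zero.1 (show (l - 1) * hh x f = 0 by linear_combination h3)).resolve_left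
      (sub_ne_zero.2 hl1)
    apply hx0
    rw [hB.toFrame.decomp hF x, hb, hw, hfv]
    simp

/-- No point is fixed. -/
lemma irred_of_orth : ∀ x : Fin 3 → F, x ≠ 0 → ∃ g ∈ M, (g : Matrix (Fin 3) (Fin 3) F) *ᵥ x ∉ F ∙ x := by
  obtain ⟨e, f, w, hB⟩ := exists_rv_frame hF hO
  intro x hx0
  by_contra hcon
  push Not at hcon
  obtain ⟨he, hw⟩ := fixed_line hF hO hM hMI hB hx0 hcon
  obtain ⟨hf', -⟩ := fixed_line hF hO hM hMI (⟨hB.toFrame.symm hF, hB.f_rv, hB.e_rv, hB.w_rv⟩ : RVFrame q P f e w)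
    hx0 hcon
  apply hx0
  rw [hB.toFrame.decomp hF x, he, hf', hw]
  simp

omit hM hMI in
/-- Rational elements scale a rational isotropic vector by any real number. -/
lemma exists_rat_scale {e f w : Fin 3 → F} (hB : RVFrame q P e f w) {a : F} (ha : frobEquiv hF a = a)
    (ha0 : a ≠ 0) : ∃ R ∈ subfieldSubgroup F₀ P ⊓ suGL 3 F q, (R : Matrix (Fin 3) (Fin 3) F) *ᵥ e = a • e := by
  have hf := isUnitaryForm hF (n := 3)
  have h2 := hO.two
  have hv1 : hh (e + f) (e + f) = 2 := by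
    simp only [hf.add_left, Unit.add_right hf, hB.ee, hB.ff, hB.ef, hB.toFrame.fe hF]; ring
  have hv2 : hh (e + a • f) (e + a • f) = 2 * a := by
    simp only [hf.add_left, Unit.add_right hf, hf.smul_left, Unit.smul_right hf, hB.ee, hB.ff, hB.ef,
      hB.toFrame.fe hF, ha]
    ring
  obtain ⟨R1, hR1, hR1v⟩ := exists_turn hF hO (hB.e_rv.add hF hB.f_rv) (by rw [hv1]; exact h2)
  obtain ⟨R2, hR2, hR2v⟩ := exists_turn hF hO (hB.e_rv.add hF (hB.f_rv.smul hF ha))
    (by rw [hv2]; exact mul_ne_zero h2 ha0)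
  refine ⟨R1 * R2, Subgroup.mul_mem _ hR1 hR2, ?_⟩
  rw [mul_mulVec, hR2v e, hv2, Matrix.mulVec_add, Matrix.mulVec_smul, Matrix.mulVec_neg, Matrix.mulVec_add,
    Matrix.mulVec_smul, hR1v e, hR1v f, hv1]
  simp only [Unit.add_right hf, Unit.smul_right hf, hB.ee, hB.ef, hB.ff, hB.toFrame.fe hF, ha]
  match_scalars <;> field_simp <;> ring

omit hM hMI in
/-- The powers of an Eichler element. -/
lemma eich_pow {A : GL (Fin 3) F} {e x : Fin 3 → F} (hee : hh e e = 0) (hxe : hh x e = 0)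
    (hE : IsEich q A e x (-hh x x / 2)) (i : ℕ) (y : Fin 3 → F) :
    ((A ^ i : GL (Fin 3) F) : Matrix (Fin 3) (Fin 3) F) *ᵥ y = y + ((i : F) * hh y e) • x +
      (-(i : F) ^ 2 * (hh x x / 2) * hh y e - (i : F) * hh y x) • e := by
  have hf := isUnitaryForm hF (n := 3)
  induction i generalizing y with
  | zero => simp
  | succ i ih =>
    have h2 := hO.two
    rw [pow_succ', mul_mulVec, ih, Matrix.mulVec_add, Matrix.mulVec_add, Matrix.mulVec_smul, Matrix.mulVec_smul,
      hE y, hE x, hE e, hee, hxe, herm_swap0 hF hxe]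
    push_cast
    match_scalars <;> field_simp <;> ring

/-- A centre of a transvection yields one at a rational point. -/
lemma centre_rat {v : Fin 3 → F} (hv : IsCentre hF M v) {e f w : Fin 3 → F} (hB : RVFrame q P e f w) :
    IsCentre hF M e := by
  have hf := isUnitaryForm hF (n := 3)
  obtain ⟨p, a, hpc, hp, hqa⟩ := CfsgLib.Forms.exists_charP_pow hF
  haveI := hpc
  haveI := Fact.mk hp
  obtain ⟨A, hA, hE⟩ := exists_rat_eich hF hO hB.e_rv hB.w_rv hB.ee hB.we
  obtain ⟨c, hc, hc0⟩ := exists_tv_of_centre hF hv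
  obtain ⟨hd, ht⟩ := hc.2
  set t := tvec v (uax q v c) hd with htdef
  have htx : ∀ x, (t : Matrix (Fin 3) (Fin 3) F) *ᵥ x = x + (c * hh x v) • v := fun x => by
    exact utv_mulVec hF hv.2.1 c x
  have htv : (t : Matrix (Fin 3) (Fin 3) F) *ᵥ v = v := by rw [htx, hv.2.1, mul_zero, zero_smul, add_zero]
  have htp : ∀ (i : ℕ) x, ((t ^ i : GL (Fin 3) F) : Matrix (Fin 3) (Fin 3) F) *ᵥ x =
      x + ((i : F) * (c * hh x v)) • v := by
    intro i
    induction i with
    | zero => simp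
    | succ i ih =>
      intro x
      rw [pow_succ', mul_mulVec, ih, Matrix.mulVec_add, Matrix.mulVec_smul, htv, htx]
      push_cast
      module
  have hzp : ∀ y : M, (y : GL (Fin 3) F) ^ p = 1 → ∃ Q : Sylow p M, y ∈ Q := fun y hy => by
    have hz' : IsPGroup p (Subgroup.zpowers y) := fun x => ⟨1, Subtype.ext (by
      obtain ⟨i, hi⟩ := Subgroup.mem_zpowers_iff.1 x.2
      have hy' : y ^ p = 1 := Subtype.ext hy
      simp only [pow_one, Subgroup.coe_pow, ← hi, Subgroup.coe_one]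
      rw [← zpow_natCast, ← _root_.zpow_mul, mul_comm, _root_.zpow_mul, zpow_natCast, hy', _root_.one_zpow])⟩
    obtain ⟨Q, hQ⟩ := hz'.exists_le_sylow
    exact ⟨Q, hQ (Subgroup.mem_zpowers y)⟩
  obtain ⟨P1, hP1⟩ := hzp ⟨t, ht⟩ (gl_ext_mulVec fun x => by
    rw [htp, CharP.cast_eq_zero, zero_mul, zero_smul, add_zero, Units.val_one, Matrix.one_mulVec])
  obtain ⟨P2, hP2⟩ := hzp ⟨A, hM hA⟩ (gl_ext_mulVec fun x => by
    rw [eich_pow hF hO hB.ee hB.we hE, CharP.cast_eq_zero, Units.val_one, Matrix.one_mulVec]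
    simp)
  obtain ⟨h, hh'⟩ := MulAction.exists_smul_eq M P1 P2
  have hmem : h * ⟨t, ht⟩ * h⁻¹ ∈ P2 := by
    rw [← hh']
    exact Subgroup.smul_mem_pointwise_smul _ (MulAut.conj h) _ hP1
  letI : MulAction P2 (Fin 3 → F) :=
    { smul := fun y x => (((y : M) : GL (Fin 3) F) : Matrix (Fin 3) (Fin 3) F) *ᵥ x
      one_smul := fun x => Matrix.one_mulVec x
      mul_smul := fun y y' x => mul_mulVec _ _ x }
  have hdvd : p ∣ Nat.card (Fin 3 → F) := by
    rw [Nat.card_fun, Nat.card_fin, hF, hqa, ← pow_mul, ← pow_mul]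
    have ha0 : a ≠ 0 := fun h0 => by
      have := CfsgLib.Forms.two_le_q hF
      rw [hqa, h0, pow_zero] at this
      omega
    exact dvd_pow_self p (by omega)
  obtain ⟨x, hx, hx0⟩ := P2.2.exists_fixed_point_of_prime_dvd_card_of_fixed_point (Fin 3 → F) hdvd (a := 0)
    (fun y => Matrix.mulVec_zero (((y : M) : GL (Fin 3) F) : Matrix (Fin 3) (Fin 3) F))
  have hAx : (A : Matrix (Fin 3) (Fin 3) F) *ᵥ x = x := hx ⟨⟨A, hM hA⟩, hP2⟩
  have htx' : (((h : GL (Fin 3) F) * t * (h : GL (Fin 3) F)⁻¹ : GL (Fin 3) F) : Matrix (Fin 3) (Fin 3) F) *ᵥ x = x :=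
    hx ⟨_, hmem⟩
  have hxe : x = hh x f • e := by
    have e1 := hAx
    rw [hE x] at e1
    have h1 := congrArg (fun z => hh z w) e1
    simp only [hf.add_left, hf.smul_left, hB.toFrame.ew hF, mul_zero, add_zero] at h1
    have hb : hh x e = 0 := (mul_eq_zero.1 (show hh x e * hh w w = 0 by linear_combination h1)).resolve_right hB.ww
    have h3 := congrArg (fun z => hh z f) e1
    simp only [hf.add_left, hf.smul_left, hb, hB.ef, zero_mul, mul_zero, zero_sub, add_zero, mul_one] at h3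
    have hw : hh x w = 0 := by linear_combination -h3
    conv_lhs => rw [hB.toFrame.decomp hF x, hb, hw]
    simp
  have hk : hh x f ≠ 0 := fun h0 => hx0 (by rw [hxe, h0, zero_smul])
  set u := (((h : GL (Fin 3) F)⁻¹ : GL (Fin 3) F) : Matrix (Fin 3) (Fin 3) F) *ᵥ e with hu
  have htu : (t : Matrix (Fin 3) (Fin 3) F) *ᵥ u = u := by
    rw [hxe, Matrix.mulVec_smul] at htx'
    have h1 := congrArg (((h : GL (Fin 3) F)⁻¹ : GL (Fin 3) F) : Matrix (Fin 3) (Fin 3) F).mulVec
      (smul_right_injective _ hk htx')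
    rw [mul_mulVec, mul_mulVec, inv_mulVec_mulVec, ← hu] at h1
    exact h1
  have hu0 : u ≠ 0 := SL3.Plane.mulVec_ne_zero' _ (hB.toFrame.e_ne hF)
  have huu : hh u u = 0 := by rw [hu, herm_mulVec (inv_mem (hMI h.2))]; exact hB.ee
  obtain ⟨l, hl⟩ := Submodule.mem_span_singleton.1 (tv_fix hF hv.2.1 hc0 hu0 huu htx
    (by rw [htu]; exact Submodule.mem_span_singleton_self u) hv.1)
  have hl0 : l ≠ 0 := fun h0 => hu0 (by rw [← hl, h0, zero_smul])
  have hcu := centre_conj hF hMI h.2 (centre_smul hF hl0 hv)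
  rwa [hl, hu, mulVec_inv_mulVec] at hcu

/-- A transvection in the overgroup gives the whole group. -/
theorem suGL_le_of_centre (hq : 3 ≤ q) {v : Fin 3 → F} (hv : IsCentre hF M v) : suGL 3 F q ≤ M := by
  have hf := isUnitaryForm hF (n := 3)
  obtain ⟨e, f, w, hB⟩ := exists_rv_frame hF hO
  obtain ⟨c, hc, hc0⟩ := exists_tv_of_centre hF (centre_rat hF hO hM hMI hv hB)
  have hcs : frobEquiv hF c = -c := by
    rw [frobEquiv_apply hF]
    linear_combination hc.1
  have hfull : Full q M e := SUFour.full_of_sq hF hO hB.ee hc0 hcs fun r hr => by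
    rcases eq_or_ne r 0 with h0 | h0
    · rw [h0, mul_zero, mul_zero]
      exact (tvParam hF M e).zero_mem.2
    · obtain ⟨R, hR, hRe⟩ := exists_rat_scale hF hO hB hr h0
      have h1 : c ∈ tvParam hF M (r • e) := by rw [← hRe, param_conj hF hMI (hM hR)]; exact hc
      rw [mem_param_smul hF h0, hr] at h1
      rw [mul_comm]
      exact h1.2
  exact suGL_le_of_full_of_irred hF hq hMI hfull (hB.toFrame.e_ne hF) (irred_of_orth hF hO hM hMI)

omit hM hMI in
/-- The orthogonal subfield group is proper. -/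
theorem orth_proper : ¬ suGL 3 F q ≤ subfieldSubgroup F₀ P := by
  have hf := isUnitaryForm hF (n := 3)
  have h2 := hO.two
  intro hle
  obtain ⟨δ, hδ0, hδ⟩ := exists_delta hF
  obtain ⟨e, f, w, hB⟩ := exists_rv_frame hF hO
  set s := δ * δ * hh w w / 2 with hs
  have hsf : frobEquiv hF s = s := by
    rw [hs, map_div₀, map_mul, map_mul, map_ofNat, hδ, fixed_herm hF hO hB.w_rv hB.w_rv]; ring
  obtain ⟨A, hA, hE⟩ := exists_eich hF hB.ee (x := δ • w) (by rw [hf.smul_left, hB.we, mul_zero]) (s := s) (by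
    rw [← frobEquiv_apply hF, hsf, hf.smul_left, Unit.smul_right hf, hδ, hs]; field_simp; ring)
  have hAe : (A : Matrix (Fin 3) (Fin 3) F) *ᵥ e = e := by
    rw [hE e, hB.ee, Unit.smul_right hf, hB.toFrame.ew hF]
    module
  have h1 := rv_mulVec_of_fix hF hO (hle hA) (map_one _) hB.e_rv (hB.toFrame.e_ne hF) (by rw [one_smul]; exact hAe)
    hB.f_rv
  have e1 := fixed_herm hF hO h1 hB.w_rv
  rw [hE f, hB.toFrame.fe hF, one_smul] at e1
  simp only [hf.add_left, hf.smul_left, hB.toFrame.fw hF, hB.toFrame.ew hF, zero_add, mul_zero, add_zero, map_mul,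
    hδ, fixed_herm hF hO hB.w_rv hB.w_rv] at e1
  exact mul_ne_zero (mul_ne_zero h2 hδ0) hB.ww (by linear_combination -e1)

omit hO hM hMI in
/-- A subfield group of index two is maximal for odd `q ≥ 7`. -/
theorem orth_maximal (hqo : Odd q) (hq : 7 ≤ q) {F₀ : Subfield F} {P : GL (Fin 3) F}
    (hcard : Nat.card F = Nat.card F₀ ^ 2)
    (hP : IsFormRationalStructure (Cfsg.hermForm 3 F q) F₀ 1 P) :
    IsMaximalIn (suGL 3 F q) (subfieldSubgroup F₀ P ⊓ suGL 3 F q) := by
  have hF0 : Nat.card F₀ = q := by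
    rw [hF] at hcard
    exact (Nat.pow_left_injective two_ne_zero hcard).symm
  have hfix : ∀ x ∈ F₀, x ^ q = x := fun x hx => by
    haveI := Fintype.ofFinite F₀
    have h := congrArg F₀.subtype (FiniteField.pow_card (⟨x, hx⟩ : F₀))
    rwa [map_pow, ← Nat.card_eq_fintype_card, hF0] at h
  have h2 : (2 : F) ≠ 0 := by
    obtain ⟨p, a, hpc, hp, hqa⟩ := CfsgLib.Forms.exists_charP_pow hF
    haveI := hpc
    intro h
    have hd : p ∣ 2 := (CharP.cast_eq_zero_iff F p 2).1 (by exact_mod_cast h)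
    obtain rfl : p = 2 := (Nat.prime_dvd_prime_iff_eq hp Nat.prime_two).1 hd
    rcases Nat.eq_zero_or_pos a with rfl | ha
    · simp at hqa; omega
    · exact (Nat.not_odd_iff_even.2 (by rw [hqa]; exact even_two.pow_of_ne_zero (by omega))) hqo
  have hO : OrthSub 3 q F F₀ P := ⟨hfix, mem_of_fixed hF hfix hF0 h2, h2, hP⟩
  refine isMaximalIn_of_key (orth_proper hF hO) fun M hM hMI hMX => ?_
  by_contra hno
  refine hMX (le_of_no_centre hF hO hM hMI hq fun v hv => hno ?_)
  exact suGL_le_of_centre hF hO hM hMI (by omega) hv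

end CfsgLib.Geo.SU3
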