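/-
Stabilisers of an isotropic point and of an anisotropic point are maximal in SU of dimension three.
-/
import Cfsg.Agent.Geo.SUThree.Basic
import Cfsg.Agent.Geo.SLThree.Unitary

set_option autoImplicit false

namespace CfsgLib.Geo.SU3

open Matrix Cfsg Cfsg.Geo CfsgLib.Geo CfsgLib.Geo.UTv

variable {q : ℕ} {F : Type*} [Field F] [Finite F] (hF : Nat.card F = q ^ 2)

local notation "hh" => Cfsg.hermForm 3 F q

include hF

lemma span_eq_of_singular {W : Submodule F (Fin 3 → F)} (hW : IsTotallySingularFor (Cfsg.hermForm 3 F q) W)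
    {v : Fin 3 → F} (hv : v ∈ W) (hv0 : v ≠ 0) : F ∙ v = W :=
  le_antisymm ((Submodule.span_singleton_le_iff_mem _ _).2 hv)
    fun x hx => mem_span_of_orth hF hv0 (hW v hv v hv) (hW x hx x hx) (hW x hx v hv)

/-- The stabiliser of an isotropic point is maximal. -/
theorem isotropic_maximal (hq : 3 ≤ q) {W : Submodule F (Fin 3 → F)} (hW0 : W ≠ ⊥)
    (hW : IsTotallySingularFor (Cfsg.hermForm 3 F q) W) :
    IsMaximalIn (suGL 3 F q) (subspaceStabilizer W ⊓ suGL 3 F q) := by
  have hf := isUnitaryForm hF (n := 3)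
  obtain ⟨e, he, he0⟩ := (Submodule.ne_bot_iff W).1 hW0
  have hee := hW e he e he
  have hWe := span_eq_of_singular hF hW he he0
  obtain ⟨f, w, hB⟩ := exists_frame hF he0 hee
  refine isMaximalIn_of_key (fun hle => ?_) fun M hM hMI hMX => ?_
  · obtain ⟨c, hc0, hc⟩ := Unit.exists_skew hf.ne_refl hf.involutive
    have hc' : c + c ^ q = 0 := by rw [← frobEquiv_apply hF, hc, add_neg_cancel]
    have h1 := mem_subspaceStabilizer.1 (hle (utv_mem hF hB.ff hc')) e he
    rw [utv_mulVec hF hB.ff, hB.ef, mul_one] at h1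
    have h2 : c • f ∈ F ∙ e := by
      rw [hWe]
      simpa using W.sub_mem h1 he
    obtain ⟨a, ha⟩ := Submodule.mem_span_singleton.1 h2
    have h3 := congrArg (fun y => hh y e) ha
    simp [hf.smul_left, hB.ee, hB.fe hF, hc0] at h3
    exact hc0 h3.symm
  obtain ⟨g, hgM, hgW⟩ := SetLike.not_le_iff_exists.1 hMX
  have hfe : Full q M e := full_of_mem hF hee fun c hc =>
    hM ⟨utv_mem_stabilizer hF hee c (Or.inl he), utv_mem hF hee hc⟩
  have hge : (g : Matrix (Fin 3) (Fin 3) F) *ᵥ e ∉ F ∙ e := fun h => hgW (mem_subspaceStabilizer.2 fun x hx => by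
    rw [← hWe] at hx ⊢
    obtain ⟨a, rfl⟩ := Submodule.mem_span_singleton.1 hx
    rw [Matrix.mulVec_smul]
    exact Submodule.smul_mem _ _ h)
  have hy := full_conj hF hMI hfe hgM
  obtain ⟨hy0, x₁, z₁, hyeq, -⟩ := hB.normal_form hF hy.1 hge
  have h₁ : Full q M (x₁ • e + f + z₁ • w) := by
    have := full_smul hF hy (hh ((g : Matrix (Fin 3) (Fin 3) F) *ᵥ e) e)⁻¹
    nth_rewrite 2 [hyeq] at this
    rwa [smul_smul, inv_mul_cancel₀ hy0, one_smul] at this
  refine suGL_le_of_full' hF (by norm_num) (by omega) fun t ht => ?_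
  by_cases hte : t ∈ F ∙ e
  · obtain ⟨a, rfl⟩ := Submodule.mem_span_singleton.1 hte
    exact full_smul hF hfe a
  obtain ⟨-, x, z, hteq, hx⟩ := hB.normal_form hF ht hte
  rw [hteq]
  refine full_smul hF ?_ _
  set X := (z - z₁) • w with hXdef
  have hXe : hh X e = 0 := by rw [hXdef, hf.smul_left, hB.we, mul_zero]
  obtain ⟨s, hs⟩ := Unit.exists_trace_eq hf.ne_refl hf.involutive (t := -(hh X X))
    (by rw [map_neg, Unit.sigma_self hf])
  obtain ⟨A, hA, hAdet, hAy⟩ := SL3.Unitary.exists_eichler hf hee hXe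
    (s := s) (by linear_combination hs)
  have hAe : (A : Matrix (Fin 3) (Fin 3) F) *ᵥ e = e := by
    rw [hAy, hee, herm_swap0 hF hXe]
    simp
  have hAM : A ∈ M := hM ⟨mem_subspaceStabilizer.2 fun v hv => by
    rw [← hWe] at hv ⊢
    obtain ⟨a, rfl⟩ := Submodule.mem_span_singleton.1 hv
    rw [Matrix.mulVec_smul, hAe]
    exact Submodule.smul_mem _ _ (Submodule.mem_span_singleton_self e), hA, mem_specialLinear.2 hAdet⟩
  have h2 := full_conj hF hMI h₁ hAM
  have hc1 : hh (x₁ • e + f + z₁ • w) e = 1 := by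
    have := hB.coord_e hF x₁ 1 z₁
    rwa [one_smul] at this
  have e2 : (A : Matrix (Fin 3) (Fin 3) F) *ᵥ (x₁ • e + f + z₁ • w) =
      (x₁ + (s - hh (x₁ • e + f + z₁ • w) X)) • e + f + z • w := by
    rw [hAy, hc1, hXdef, one_smul, mul_one]
    module
  rw [e2] at h2
  exact hB.full_unit_add hF hMI hfe h2 hx

/-- The stabiliser of an anisotropic point is maximal. -/
theorem nondeg_maximal (hq : 3 ≤ q) {W : Submodule F (Fin 3 → F)}
    (hW : IsNondegenerateOn (Cfsg.hermForm 3 F q) W) (hW1 : Module.finrank F W = 1) :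
    IsMaximalIn (suGL 3 F q) (subspaceStabilizer W ⊓ suGL 3 F q) := by
  have hf := isUnitaryForm hF (n := 3)
  obtain ⟨w, hwW, hw0⟩ := (Submodule.ne_bot_iff W).1 fun e => by rw [e, finrank_bot] at hW1; omega
  have hWe : F ∙ w = W :=
    Submodule.eq_of_le_of_finrank_le ((Submodule.span_singleton_le_iff_mem _ _).2 hwW)
      (by rw [hW1, finrank_span_singleton hw0])
  have hμ : hh w w ≠ 0 := fun h0 => by
    obtain ⟨-, x, hx, hne⟩ := hW w hwW hw0
    obtain ⟨a, rfl⟩ := Submodule.mem_span_singleton.1 (hWe.symm ▸ hx)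
    exact hne (by rw [Unit.smul_right hf, h0, mul_zero])
  obtain ⟨e, x, hee, hex, hew, hxw⟩ := SL3.Unitary.exists_pair_perp hf hμ (by simp)
  obtain ⟨c, hc⟩ := Unit.exists_isotropic_add hf (v := x) hee hex
  obtain ⟨d, hd, hd1⟩ := exists_unit_pair hF (u := e) (v := x + c • e) (by
    rw [Unit.add_right hf, Unit.smul_right hf, hee, mul_zero, add_zero]; exact hex)
  set f := d • (x + c • e) with hfdef
  have hB : Frame q e f w := ⟨hee, by rw [hfdef, hf.smul_left, Unit.smul_right hf, hc, mul_zero, mul_zero], hd1,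
    herm_swap0 hF hew, herm_swap0 hF (by rw [hfdef, hf.smul_left, hf.add_left, hf.smul_left, hxw, hew]; ring), hμ⟩
  refine isMaximalIn_of_key (fun hle => ?_) fun M hM hMI hMX => ?_
  · -- an isotropic vector not orthogonal to `w`
    obtain ⟨c', hc0, hcs⟩ := Unit.exists_skew hf.ne_refl hf.involutive
    have hcq : c' + c' ^ q = 0 := by rw [← frobEquiv_apply hF, hcs, add_neg_cancel]
    obtain ⟨a, ha⟩ := Unit.exists_trace_eq hf.ne_refl hf.involutive (t := -(hh w w))
      (by rw [map_neg, Unit.sigma_self hf])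
    set v := a • e + f + (1 : F) • w with hvdef
    have hvv : hh v v = 0 := by
      rw [hvdef, hB.unit_iso hF, map_one, one_mul, one_mul]
      linear_combination ha
    have h1 := mem_subspaceStabilizer.1 (hle (utv_mem hF hvv hcq)) w hwW
    rw [utv_mulVec hF hvv] at h1
    have h2 : (c' * hh w v) • v ∈ F ∙ w := by
      rw [hWe]
      simpa using W.sub_mem h1 hwW
    obtain ⟨b, hb⟩ := Submodule.mem_span_singleton.1 h2
    have hwv : hh w v = hh w w := by
      rw [hvdef, one_smul, Unit.add_right hf, Unit.add_right hf, hB.wf, Unit.smul_right hf, hB.we]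
      ring
    have hve : hh v e = 1 := by
      have := hB.coord_e hF a 1 1
      rwa [one_smul, ← hvdef] at this
    have h3 := congrArg (fun y => hh y e) hb
    simp only [hf.smul_left, hB.we, mul_zero, hve, mul_one, hwv] at h3
    exact mul_ne_zero hc0 hμ h3.symm
  obtain ⟨g, hgM, hgW⟩ := SetLike.not_le_iff_exists.1 hMX
  have hgi : hh w ((g : Matrix (Fin 3) (Fin 3) F) *ᵥ e) ≠ 0 ∨ hh w ((g : Matrix (Fin 3) (Fin 3) F) *ᵥ f) ≠ 0 := by
    by_contra hcon
    push Not at hcon
    have key : ∀ y, hh w ((g : Matrix (Fin 3) (Fin 3) F) *ᵥ y) = 0 →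
        hh (((g⁻¹ : GL (Fin 3) F) : Matrix (Fin 3) (Fin 3) F) *ᵥ w) y = 0 := fun y hy => by
      rw [← herm_mulVec (hMI hgM), mulVec_inv_mulVec]
      exact hy
    have h1 := hB.decomp hF (((g⁻¹ : GL (Fin 3) F) : Matrix (Fin 3) (Fin 3) F) *ᵥ w)
    rw [key e hcon.1, key f hcon.2, zero_smul, zero_smul, zero_add, zero_add] at h1
    refine hgW ?_
    rw [← inv_inv g]
    refine (subspaceStabilizer W).inv_mem (mem_subspaceStabilizer.2 fun v hv => ?_)
    rw [← hWe] at hv ⊢
    obtain ⟨b, rfl⟩ := Submodule.mem_span_singleton.1 hv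
    rw [Matrix.mulVec_smul, h1]
    exact Submodule.smul_mem _ _ (Submodule.smul_mem _ _ (Submodule.mem_span_singleton_self w))
  have hperp : ∀ v, hh v w = 0 → v ∈ perp q W := fun v hv y hy => by
    rw [← hWe] at hy
    obtain ⟨b, rfl⟩ := Submodule.mem_span_singleton.1 hy
    rw [Unit.smul_right hf, hv, mul_zero]
  have hfull : ∀ v, hh v v = 0 → hh v w = 0 → Full q M v := fun v hv hvw => full_of_mem hF hv fun c hc =>
    hM ⟨utv_mem_stabilizer hF hv c (Or.inr (hperp v hvw)), utv_mem hF hv hc⟩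
  have hfe := hfull e hee (hB.ew hF)
  have hff := hfull f hB.ff (hB.fw hF)
  have hne : f ∉ F ∙ e := fun h => by
    obtain ⟨b, hb⟩ := Submodule.mem_span_singleton.1 h
    have h3 := congrArg (fun y => hh y e) hb
    simp [hf.smul_left, hB.ee, hB.fe hF] at h3
  have hoff : ∀ v, v ∈ (F ∙ e) ⊔ (F ∙ f) → hh w v = 0 := fun v hv => by
    obtain ⟨a, ha, b, hb, rfl⟩ := Submodule.mem_sup.1 hv
    obtain ⟨a, rfl⟩ := Submodule.mem_span_singleton.1 ha
    obtain ⟨b, rfl⟩ := Submodule.mem_span_singleton.1 hb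
    rw [Unit.add_right hf, Unit.smul_right hf, Unit.smul_right hf, hB.we, hB.wf]
    ring
  rcases hgi with h | h
  · exact suGL_le_of_three hF hq hMI hfe hff (full_conj hF hMI hfe hgM) (hB.e_ne hF) hne fun h' => h (hoff _ h')
  · exact suGL_le_of_three hF hq hMI hfe hff (full_conj hF hMI hff hgM) (hB.e_ne hF) hne fun h' => h (hoff _ h')

end CfsgLib.Geo.SU3
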