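/-
Arithmetic for the normaliser of a field of degree three in SU of dimension three.
-/
import Mathlib.Data.ZMod.Basic
import Mathlib.GroupTheory.OrderOfElement
import Mathlib.Tactic

set_option autoImplicit false

namespace CfsgLib.Geo.SU3.Singer

/-- The order `q² - q + 1` is `d` times `m`. -/
structure Num (q d m : ℕ) : Prop where
  eq : d * m + q = q ^ 2 + 1
  cases : d = 1 ∧ q % 3 ≠ 2 ∨ d = 3 ∧ q % 3 = 2
  coprime : Nat.Coprime 3 m

variable {q d m : ℕ}

lemma Num.le (h : Num q d m) (hq : 4 ≤ q) (hq5 : q ≠ 5) : q + 2 ≤ m := by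
  rcases h.cases with ⟨rfl, -⟩ | ⟨rfl, h3⟩
  · nlinarith [h.eq]
  · have : 8 ≤ q := by omega
    nlinarith [h.eq]

/-- No index for the orders without a large unipotent part. -/
theorem noIndex (h : Num q d m) (hq : 7 ≤ q) {k : ℕ} (hk : m ∣ k - 1) (hk2 : 2 ≤ k)
    (hdiv : 3 * k ∣ q * (q + 1) ^ 2 * (q - 1)) : False := by
  obtain ⟨e, he⟩ := hdiv
  obtain ⟨a, ha⟩ := hk
  have hk' : (k : ℤ) = 1 + m * a := by exact_mod_cast (show k = 1 + m * a by omega)
  have ha1 : 1 ≤ a := by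
    rcases Nat.eq_zero_or_pos a with rfl | h0
    · omega
    · exact h0
  have hm0 : (0 : ℤ) < m := by
    have := h.le (by omega) (by omega)
    exact_mod_cast (show 0 < m by omega)
  have hE : (q : ℤ) * ((q : ℤ) + 1) ^ 2 * ((q : ℤ) - 1) = 3 * k * e := by
    have := congrArg (fun x : ℕ => (x : ℤ)) he
    push_cast [Nat.cast_sub (show 1 ≤ q by omega)] at this
    linarith
  have hm : (d : ℤ) * m + q = (q : ℤ) ^ 2 + 1 := by exact_mod_cast h.eq
  rw [hk'] at hE
  obtain ⟨l, hl⟩ : (m : ℤ) ∣ (e : ℤ) + q := by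
    refine (Int.isCoprime_iff_nat_coprime.2 (by simpa using h.coprime.symm) : IsCoprime (m : ℤ) 3).dvd_of_dvd_mul_left
      ⟨(d : ℤ) * ((d : ℤ) * m + 3 * q - 1) - 3 * a * e, ?_⟩
    linear_combination (-1) * hE - ((d : ℤ) * m + (q : ℤ) ^ 2 + 2 * q) * hm
  have hl1 : 1 ≤ l := by
    by_contra h0
    have : (m : ℤ) * l ≤ 0 := mul_nonpos_of_nonneg_of_nonpos hm0.le (by omega)
    omega
  have key : 3 * l + 3 * (m : ℤ) * a * l - 3 * q * a = (d : ℤ) * ((d : ℤ) * m + 3 * q - 1) := by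
    refine mul_left_cancel₀ hm0.ne' ?_
    linear_combination (-1) * hE - 3 * (1 + (m : ℤ) * a) * hl - ((d : ℤ) * m + (q : ℤ) ^ 2 + 2 * q) * hm
  have ha' : (1 : ℤ) ≤ a := by exact_mod_cast ha1
  have hq' : (7 : ℤ) ≤ q := by exact_mod_cast hq
  have hal : (a : ℤ) ≤ a * l := le_mul_of_one_le_right (by omega) hl1
  rcases h.cases with ⟨rfl, -⟩ | ⟨rfl, h3⟩
  · push_cast at hm key
    have h1 : (m : ℤ) * (3 * (a * l) - 1) < 3 * q * (3 * (a * l) - 1) := by
      nlinarith [mul_le_mul_of_nonneg_left (show (a : ℤ) + 1 ≤ 3 * (a * l) - 1 by omega) (show (0 : ℤ) ≤ 3 * q by omega)]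
    have h2 : (m : ℤ) < 3 * q := lt_of_mul_lt_mul_of_nonneg_right h1 (by omega)
    nlinarith
  · push_cast at hm key
    have key' : (m : ℤ) * (a * l - 3) = q * (a + 3) - l - 1 := by linarith
    have h4 : 4 ≤ (a : ℤ) * l := by
      by_contra h0
      have : (l : ℤ) ≤ a * l := le_mul_of_one_le_left (by omega) ha'
      have : (m : ℤ) * (a * l - 3) ≤ 0 := mul_nonpos_of_nonneg_of_nonpos hm0.le (by omega)
      have : (q : ℤ) * 4 ≤ q * (a + 3) := mul_le_mul_of_nonneg_left (by omega) (by omega)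
      omega
    have h1 : (m : ℤ) * (a * l - 3) < 7 * q * (a * l - 3) := by
      nlinarith [mul_le_mul_of_nonneg_left (show (a : ℤ) + 3 ≤ 7 * (a * l - 3) by omega) (show (0 : ℤ) ≤ q by omega)]
    have h2 : (m : ℤ) < 7 * q := lt_of_mul_lt_mul_of_nonneg_right h1 (by omega)
    have h21 : q ≤ 21 := by
      by_contra h0
      have : (22 : ℤ) ≤ q := by exact_mod_cast (show 22 ≤ q by omega)
      nlinarith
    have h19 : (19 : ℤ) ≤ m := by nlinarith [show (8 : ℤ) ≤ q from by exact_mod_cast (show 8 ≤ q by omega)]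
    have ha7 : (a : ℤ) * (m - q) ≤ 3 * m + 3 * q := by
      nlinarith [mul_le_mul_of_nonneg_left hal hm0.le]
    have hm' : (m : ℤ) = ((q : ℤ) ^ 2 + 1 - q) / 3 := by omega
    rw [hm'] at key ha7
    interval_cases q <;> try omega
    all_goals
      norm_num at key ha7
      have : a ≤ 7 := by omega
      interval_cases a <;> push_cast at key <;> omega

/-- No index for orders with a unipotent part of size at most `3q`, in characteristic three. -/
theorem noIndex_three (h : Num q d m) (hq : 9 ≤ q) (hq3 : q % 3 = 0) {k : ℕ} (hk : m ∣ k - 1) (hk2 : 2 ≤ k)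
    (hdiv : 3 * k ∣ 3 * (q * (q + 1) ^ 2 * (q - 1))) : False := by
  obtain ⟨e, he⟩ := hdiv
  obtain ⟨a, ha⟩ := hk
  have hk' : (k : ℤ) = 1 + m * a := by exact_mod_cast (show k = 1 + m * a by omega)
  have ha1 : 1 ≤ a := by
    rcases Nat.eq_zero_or_pos a with rfl | h0
    · omega
    · exact h0
  have hd : d = 1 := by rcases h.cases with ⟨h1, -⟩ | ⟨-, h1⟩ <;> omega
  subst hd
  have hm0 : (0 : ℤ) < m := by
    have := h.le (by omega) (by omega)
    exact_mod_cast (show 0 < m by omega)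
  have hE : (q : ℤ) * ((q : ℤ) + 1) ^ 2 * ((q : ℤ) - 1) = k * e := by
    have := congrArg (fun x : ℕ => (x : ℤ)) he
    push_cast [Nat.cast_sub (show 1 ≤ q by omega)] at this
    linarith
  have hm : (m : ℤ) + q = (q : ℤ) ^ 2 + 1 := by
    have := h.eq
    rw [one_mul] at this
    exact_mod_cast this
  rw [hk'] at hE
  set l := (m : ℤ) + 3 * q - 1 - a * e with hldef
  have hl : (e : ℤ) + 3 * q = m * l := by
    rw [hldef]
    linear_combination (-1) * hE - ((m : ℤ) + (q : ℤ) ^ 2 + 2 * q) * hm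
  have hl1 : 1 ≤ l := by
    by_contra h0
    have : (m : ℤ) * l ≤ 0 := mul_nonpos_of_nonneg_of_nonpos hm0.le (by omega)
    omega
  have key : l + (m : ℤ) * a * l - 3 * q * a = (m : ℤ) + 3 * q - 1 := by
    rw [hldef] at hl ⊢
    linear_combination (-(a : ℤ)) * hl
  have ha' : (1 : ℤ) ≤ a := by exact_mod_cast ha1
  have hq' : (9 : ℤ) ≤ q := by exact_mod_cast hq
  have hal : (a : ℤ) ≤ a * l := le_mul_of_one_le_right (by omega) hl1
  have h4 : 2 ≤ (a : ℤ) * l := by
    by_contra h0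
    have e1 : (a : ℤ) * l = 1 := by omega
    have e2 : (a : ℤ) = 1 := by omega
    rw [e2] at key e1
    rw [show l = 1 by omega] at key
    omega
  have key' : (m : ℤ) * (a * l - 1) = 3 * q * (a + 1) - l - 1 := by linarith
  have h1 : (m : ℤ) * (a * l - 1) < 9 * q * (a * l - 1) := by
    nlinarith [mul_le_mul_of_nonneg_left (show (a : ℤ) + 1 ≤ 3 * (a * l - 1) by omega) (show (0 : ℤ) ≤ 3 * q by omega)]
  have h2 : (m : ℤ) < 9 * q := lt_of_mul_lt_mul_of_nonneg_right h1 (by omega)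
  have h9 : q ≤ 11 := by
    by_contra h0
    have : (12 : ℤ) ≤ q := by exact_mod_cast (show 12 ≤ q by omega)
    nlinarith
  obtain rfl : q = 9 := by omega
  have hm73 : (m : ℤ) = 73 := by push_cast at hm; linarith
  rw [hm73] at key
  have : a ≤ 2 := by exact_mod_cast (show (a : ℤ) ≤ 2 by push_cast at key; nlinarith)
  interval_cases a <;> push_cast at key <;> omega

/-- The only index for `q = 4`. -/
theorem index_four {k : ℕ} (hk : 13 ∣ k - 1) (hk2 : 2 ≤ k) (hdiv : 3 * k ∣ 600) : k = 40 := by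
  have : k ≤ 200 := by have := Nat.le_of_dvd (by norm_num) hdiv; omega
  obtain ⟨a, ha⟩ := hk
  have : a ≤ 15 := by omega
  obtain rfl : k = 13 * a + 1 := by omega
  interval_cases a <;> first | omega | (exfalso; revert hdiv; norm_num)

/-- The unipotent orbit size is `q³`. -/
theorem exp_eq {p a x : ℕ} (hp : p.Prime) (hqa : q = p ^ a) (h : Num q d m) (hq : 4 ≤ q) (hq5 : q ≠ 5)
    (hx : x ≤ 3 * a) (hdvd : m ∣ p ^ x + 1) : x = 3 * a := by
  have hle := h.le hq hq5
  have hx0 : x ≠ 0 := by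
    rintro rfl
    have := Nat.le_of_dvd (by norm_num) hdvd
    rw [pow_zero] at this
    omega
  set P : ZMod m := (p : ZMod m)
  have hPx : P ^ x = -1 := by
    have h1 : ((p ^ x + 1 : ℕ) : ZMod m) = 0 := (ZMod.natCast_eq_zero_iff _ _).2 hdvd
    push_cast at h1
    linear_combination h1
  have hPa : P ^ (3 * a) = -1 := by
    have h1 : ((q ^ 3 + 1 : ℕ) : ZMod m) = 0 := (ZMod.natCast_eq_zero_iff _ _).2
      ⟨d * (q + 1), by nlinarith [h.eq]⟩
    rw [hqa] at h1
    push_cast at h1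
    rw [mul_comm 3 a, pow_mul]
    linear_combination h1
  have hne : (-1 : ZMod m) ≠ 1 := fun e => by
    have h1 : ((2 : ℕ) : ZMod m) = 0 := by push_cast; linear_combination -e
    have := Nat.le_of_dvd (by norm_num) ((ZMod.natCast_eq_zero_iff _ _).1 h1)
    omega
  set g := Nat.gcd x (3 * a)
  have hg2 : P ^ (2 * g) = 1 := by
    rw [show 2 * g = Nat.gcd (2 * x) (2 * (3 * a)) from (Nat.gcd_mul_left 2 x (3 * a)).symm]
    exact pow_gcd_eq_one.2 ⟨by rw [mul_comm, pow_mul, hPx]; ring, by rw [mul_comm, pow_mul, hPa]; ring⟩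
  obtain ⟨i, hi⟩ : g ∣ x := Nat.gcd_dvd_left _ _
  obtain ⟨j, hj⟩ : g ∣ 3 * a := Nat.gcd_dvd_right _ _
  have hpar : ∀ {i y : ℕ}, y = g * i → P ^ y = -1 → Odd i := fun {i y} hy hP => by
    by_contra he
    obtain ⟨s, hs⟩ := Nat.not_odd_iff_even.1 he
    rw [hy, hs, show g * (s + s) = (2 * g) * s by ring, pow_mul, hg2, one_pow] at hP
    exact hne hP.symm
  obtain ⟨s, hs⟩ := hpar hi hPx
  obtain ⟨t, ht⟩ := hpar hj hPa
  have hg0 : 0 < g := Nat.pos_of_ne_zero fun e => hx0 (by rw [hi, e, zero_mul])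
  have hgdvd : m ∣ p ^ g + 1 := by
    rw [← ZMod.natCast_eq_zero_iff]
    push_cast
    have : P ^ g = -1 := by
      rw [hi, hs, show g * (2 * s + 1) = (2 * g) * s + g by ring, pow_add, pow_mul, hg2, one_pow, one_mul] at hPx
      exact hPx
    linear_combination this
  have hgm := Nat.le_of_dvd (Nat.succ_pos _) hgdvd
  have ht2 : t = 0 ∨ t = 1 ∨ 2 ≤ t := by omega
  rcases ht2 with rfl | rfl | ht2
  · have : g ≤ x := Nat.le_of_dvd (Nat.pos_of_ne_zero hx0) ⟨i, hi⟩
    simp at ht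
    subst ht
    omega
  · exfalso
    have : g = a := by subst ht; omega
    rw [this, ← hqa] at hgm
    omega
  · exfalso
    have h5 : g * 5 ≤ 3 * a := by rw [hj]; exact Nat.mul_le_mul_left _ (by omega)
    have h6 : q + 1 ≤ p ^ g := by omega
    have h7 : (q + 1) ^ 5 ≤ q ^ 3 := (Nat.pow_le_pow_left h6 5).trans (by
      rw [hqa, ← pow_mul, ← pow_mul]
      exact Nat.pow_le_pow_right hp.pos (by omega))
    have h8 : q ^ 3 < (q + 1) ^ 5 := calc
      q ^ 3 ≤ q ^ 5 := Nat.pow_le_pow_right (by omega) (by norm_num)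
      _ < (q + 1) ^ 5 := Nat.pow_lt_pow_left (Nat.lt_succ_self q) (by norm_num)
    omega

end CfsgLib.Geo.SU3.Singer
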