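/-
An adjoint closed field of degree three in a unitary space: its isometries of determinant one and their normaliser.
-/
import Cfsg.Agent.Geo.SUThree.SingerArith
import Cfsg.Agent.Geo.SUThree.Basic
import Cfsg.Agent.Geo.SLThree.SingerOrbit
import Cfsg.Agent.Forms.FiniteQ
import Mathlib.FieldTheory.Finite.Trace

set_option autoImplicit false
set_option linter.unusedSectionVars false

namespace CfsgLib.Geo.SU3.Singer

open Matrix Cfsg Cfsg.Geo CfsgLib.Geo CfsgLib.Geo.UTv

variable {q : ℕ} {F : Type*} [Field F] {K : Subalgebra F (Matrix (Fin 3) (Fin 3) F)}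

local notation "hh" => Cfsg.hermForm 3 F q

/-- The field elements in the special unitary group. -/
def uC (q : ℕ) (K : Subalgebra F (Matrix (Fin 3) (Fin 3) F)) : Subgroup (GL (Fin 3) F) :=
  SL3.Singer.cyc K ⊓ suGL 3 F q

/-- Conjugation of the field by an element of its normaliser. -/
def conjAut (g : subalgebraNormalizer K) : K ≃ₐ[F] K where
  toFun k := ⟨_, (g.2 k).1 k.2⟩
  invFun k := ⟨_, ((g⁻¹).2 k).1 k.2⟩
  left_inv k := Subtype.ext (by simp [mul_assoc])
  right_inv k := Subtype.ext (by simp [mul_assoc])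
  map_mul' a b := Subtype.ext (by simp [mul_assoc])
  map_add' a b := Subtype.ext (by simp [mul_add, add_mul])
  commutes' r := Subtype.ext (by simp [Algebra.algebraMap_eq_smul_one])

/-- Conjugation as a homomorphism. -/
def conjHom (K : Subalgebra F (Matrix (Fin 3) (Fin 3) F)) : subalgebraNormalizer K →* (K ≃ₐ[F] K) :=
  MonoidHom.mk' conjAut fun a b => AlgEquiv.ext fun k => Subtype.ext (by
    simp [conjAut, mul_assoc, _root_.mul_inv_rev])

lemma conjHom_apply (g : subalgebraNormalizer K) (k : K) : ((conjHom K g k : K) : Matrix (Fin 3) (Fin 3) F) =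
    ((g : GL (Fin 3) F) : Matrix (Fin 3) (Fin 3) F) * k * (((g : GL (Fin 3) F)⁻¹ : GL (Fin 3) F) : Matrix (Fin 3) (Fin 3) F) :=
  rfl

variable [Finite F] (hF : Nat.card F = q ^ 2) (hK : IsFieldSubalgebra 3 K)
  (hac : IsAdjointClosedFor (Cfsg.hermForm 3 F q) K)
include hF hK

lemma card_field : Nat.card K = (q ^ 3) ^ 2 := by
  haveI : FiniteDimensional F K := Module.finite_of_finrank_eq_succ hK.finrank_eq
  rw [Module.natCard_eq_pow_finrank (K := F) (V := K), hK.finrank_eq, hF, ← pow_mul, ← pow_mul]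

lemma card_aut : Nat.card (K ≃ₐ[F] K) = 3 := by
  letI := SL3.Singer.field hK
  haveI : FiniteDimensional F K := Module.finite_of_finrank_eq_succ hK.finrank_eq
  haveI : Finite K := Module.finite_of_finite F
  exact (IsGalois.card_aut_eq_finrank F K).trans hK.finrank_eq

include hac

/-- The adjoint is the involution of the field. -/
lemma herm_field (k : K) (u v : Fin 3 → F) : hh ((k : Matrix (Fin 3) (Fin 3) F) *ᵥ u) v =
    hh u (((k ^ (q ^ 3) : K) : Matrix (Fin 3) (Fin 3) F) *ᵥ v) := by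
  letI := SL3.Singer.field hK
  haveI : FiniteDimensional F K := Module.finite_of_finrank_eq_succ hK.finrank_eq
  haveI : Finite K := Module.finite_of_finite F
  have hf := isUnitaryForm hF (n := 3)
  choose t ht htadj using fun k : K => hac k k.2
  let τ : K → K := fun k => ⟨t k, ht k⟩
  have huniq : ∀ {a b : K}, (∀ u v, hh u ((a : Matrix (Fin 3) (Fin 3) F) *ᵥ v) =
      hh u ((b : Matrix (Fin 3) (Fin 3) F) *ᵥ v)) → a = b := fun {a b} h =>
    Subtype.ext (Matrix.ext_iff_mulVec.2 fun v => by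
      by_contra hne
      obtain ⟨y, hy⟩ := (hf.nondegenerate _ (sub_ne_zero.2 hne)).1
      rw [sub_eq_add_neg, ← neg_one_smul F ((b : Matrix (Fin 3) (Fin 3) F) *ᵥ v), Unit.add_right hf,
        Unit.smul_right hf, h y v, map_neg, map_one] at hy
      exact hy (by ring))
  have hadd : ∀ a b, τ (a + b) = τ a + τ b := fun a b => huniq fun u v => by
    show hh u (t (a + b) *ᵥ v) = hh u ((t a + t b) *ᵥ v)
    rw [← htadj, Subalgebra.coe_add, Matrix.add_mulVec, hf.add_left, htadj, htadj, Matrix.add_mulVec,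
      Unit.add_right hf]
  have hmul : ∀ a b, τ (a * b) = τ a * τ b := fun a b => huniq fun u v => by
    show hh u (t (a * b) *ᵥ v) = hh u ((t a * t b) *ᵥ v)
    rw [hK.comm _ (ht a) _ (ht b), ← Matrix.mulVec_mulVec, ← htadj, ← htadj, ← htadj, Subalgebra.coe_mul,
      Matrix.mulVec_mulVec]
  have halg : ∀ r : F, τ (algebraMap F K r) = algebraMap F K (frobEquiv hF r) := fun r => huniq fun u v => by
    show hh u (t (algebraMap F K r) *ᵥ v) = _
    rw [← htadj]
    simp [Algebra.algebraMap_eq_smul_one, Matrix.smul_mulVec, hf.smul_left, Unit.smul_right hf, hf.involutive]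
  have hτ1 : τ 1 = 1 := by have := halg 1; rwa [map_one, map_one, map_one] at this
  have hττ : ∀ a, τ (τ a) = a := fun a => huniq fun u v => by
    show hh u (t (τ a) *ᵥ v) = _
    rw [← htadj, hf.herm]
    show frobEquiv hF (hh v (t a *ᵥ u)) = _
    rw [← htadj, ← hf.herm]
  let τ' : K →+* K :=
    { toFun := τ
      map_one' := hτ1
      map_mul' := hmul
      map_zero' := by have := halg 0; rwa [map_zero, map_zero, map_zero] at this
      map_add' := hadd }
  set Q := q ^ 3 with hQ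
  have hK2 : ∀ x : K, x ^ (Q * Q) = x := fun x => by
    haveI := Fintype.ofFinite K
    rw [← pow_two, ← card_field hF hK, Nat.card_eq_fintype_card, FiniteField.pow_card]
  let ψ : K →+* K := (CfsgLib.Forms.frobQ (card_field hF hK)).comp τ'
  have hψ : ∀ x, ψ x = τ x ^ Q := fun x => CfsgLib.Forms.frobQ_apply (card_field hF hK) _
  have hψF : ∀ r : F, ψ (algebraMap F K r) = algebraMap F K r := fun r => by
    rw [hψ, halg, ← map_pow, frobEquiv_apply hF, ← pow_mul]
    congr 1
    rw [show q * Q = q ^ 2 * q ^ 2 by rw [hQ]; ring, pow_mul, ← hF]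
    haveI := Fintype.ofFinite F
    rw [Nat.card_eq_fintype_card, FiniteField.pow_card, FiniteField.pow_card]
  have hψψ : ∀ x, ψ (ψ x) = x := fun x => by
    rw [hψ, hψ, show τ (τ x ^ Q) = τ (τ x) ^ Q from map_pow τ' _ _, hττ, ← pow_mul, hK2]
  let Ψ : K ≃ₐ[F] K := AlgEquiv.ofRingEquiv (f := RingEquiv.ofRingHom ψ ψ (RingHom.ext hψψ) (RingHom.ext hψψ)) hψF
  have hΨ : Ψ = 1 := by
    have h2 : Ψ ^ 2 = 1 := AlgEquiv.ext hψψ
    have h3 : Ψ ^ 3 = 1 := by
      have hc := pow_card_eq_one' (x := Ψ)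
      rwa [show Nat.card (K ≃ₐ[F] K) = 3 from card_aut hF hK] at hc
    have : Ψ ^ 3 = Ψ ^ 2 * Ψ := pow_succ Ψ 2
    rw [h3, h2, one_mul] at this
    exact this.symm
  have hfin : τ k = k ^ Q := by
    have h1 : τ k ^ Q = k := (hψ k).symm.trans (AlgEquiv.congr_fun hΨ k)
    conv_rhs => rw [← h1]
    rw [← pow_mul, hK2]
  rw [htadj k u v]
  show hh u (((τ k : K) : Matrix (Fin 3) (Fin 3) F) *ᵥ v) = _
  rw [hfin]

/-- The isometries inside the field. -/
lemma mem_GU_iff {g : GL (Fin 3) F} (hg : (g : Matrix (Fin 3) (Fin 3) F) ∈ K) :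
    g ∈ Cfsg.GU 3 F q ↔ (⟨_, hg⟩ : K) ^ (q ^ 3 + 1) = 1 := by
  have hf := isUnitaryForm hF (n := 3)
  set x : K := ⟨_, hg⟩
  rw [mem_GU]
  refine ⟨fun h => ?_, fun h u v => ?_⟩
  · refine sub_eq_zero.1 (Subtype.ext (SL3.Singer.eq_zero_of_mulVec hK (SetLike.coe_mem _) SL3.Singer.single_ne ?_))
    by_contra hne
    obtain ⟨y, hy⟩ := (hf.nondegenerate _ hne).1
    apply hy
    rw [Subalgebra.coe_sub, Matrix.sub_mulVec, sub_eq_add_neg, ← neg_one_smul F (((1 : K) : Matrix (Fin 3) (Fin 3) F) *ᵥ _),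
      Unit.add_right hf, Unit.smul_right hf, pow_succ, Subalgebra.coe_mul, ← Matrix.mulVec_mulVec,
      ← herm_field hF hK hac x, h]
    rw [Subalgebra.coe_one, Matrix.one_mulVec, map_neg, map_one]
    ring
  · rw [show (g : Matrix (Fin 3) (Fin 3) F) = (x : Matrix (Fin 3) (Fin 3) F) from rfl, herm_field hF hK hac x,
      Matrix.mulVec_mulVec, ← Subalgebra.coe_mul, ← pow_succ, h, Subalgebra.coe_one, Matrix.one_mulVec]

/-- The order of `uC`, and every determinant of an isometry is one of the field. -/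
lemma uC_data : Nat.card (uC q K) + q = q ^ 2 + 1 ∧
    ∀ δ : F, δ ^ (q + 1) = 1 → ∃ g : GL (Fin 3) F, (g : Matrix (Fin 3) (Fin 3) F) ∈ K ∧ g ∈ Cfsg.GU 3 F q ∧
      (g : Matrix (Fin 3) (Fin 3) F).det = δ := by
  letI := SL3.Singer.field hK
  haveI : FiniteDimensional F K := Module.finite_of_finrank_eq_succ hK.finrank_eq
  haveI : Finite K := Module.finite_of_finite F
  have hq := CfsgLib.Forms.two_le_q hF
  let ι : Kˣ →* GL (Fin 3) F := Units.map K.val.toRingHom.toMonoidHom
  have hι : Function.Injective ι := Units.map_injective Subtype.val_injective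
  let N : Kˣ →* Fˣ := Units.map (Algebra.norm F)
  have hdet : ∀ k : Kˣ, (ι k : Matrix (Fin 3) (Fin 3) F).det = (N k : F) := by
    intro k
    let ψ := SL3.Singer.eval hK SL3.Singer.single_ne
    have h1 : Matrix.toLin' ((k : K) : Matrix (Fin 3) (Fin 3) F) =
        (ψ : K →ₗ[F] (Fin 3 → F)) ∘ₗ (Algebra.lmul F K (k : K)) ∘ₗ (ψ.symm : (Fin 3 → F) →ₗ[F] K) := by
      refine LinearMap.ext fun x => ?_
      obtain ⟨y, rfl⟩ := ψ.surjective x
      rw [LinearMap.comp_apply, LinearMap.comp_apply, LinearEquiv.coe_coe, LinearEquiv.coe_coe,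
        LinearEquiv.symm_apply_apply, Matrix.toLin'_apply, SL3.Singer.eval_apply, SL3.Singer.eval_apply,
        Matrix.mulVec_mulVec]
      rfl
    change ((k : K) : Matrix (Fin 3) (Fin 3) F).det = Algebra.norm F (k : K)
    rw [← LinearMap.det_toLin', h1, LinearMap.det_conj, Algebra.norm_apply]
  let K1 : Subgroup Kˣ := (powMonoidHom (q ^ 3 + 1) : Kˣ →* Kˣ).ker
  have hK1 : Nat.card K1 = q ^ 3 + 1 := by
    rw [IsCyclic.card_powMonoidHom_ker, Nat.card_units, card_field hF hK]
    refine Nat.gcd_eq_right ⟨q ^ 3 - 1, ?_⟩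
    rw [← Nat.sq_sub_sq, one_pow]
  have hGU : ∀ x : Kˣ, ι x ∈ Cfsg.GU 3 F q ↔ x ∈ K1 := fun x => by
    rw [mem_GU_iff hF hK hac (g := ι x) (x : K).2, MonoidHom.mem_ker, powMonoidHom_apply, ← Units.val_inj,
      Units.val_pow_eq_pow_val, Units.val_one]
    exact Iff.rfl
  let f : K1 →* Fˣ := N.comp K1.subtype
  let F1 : Subgroup Fˣ := (powMonoidHom (q + 1) : Fˣ →* Fˣ).ker
  have hF1 : Nat.card F1 = q + 1 := by
    rw [IsCyclic.card_powMonoidHom_ker, Nat.card_units, hF]
    refine Nat.gcd_eq_right ⟨q - 1, ?_⟩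
    rw [← Nat.sq_sub_sq, one_pow]
  have hrange : f.range ≤ F1 := by
    rintro _ ⟨⟨x, hx⟩, rfl⟩
    rw [MonoidHom.mem_ker, powMonoidHom_apply]
    show N x ^ (q + 1) = 1
    have h1 : N x ^ (q ^ 3 + 1) = 1 := by
      rw [← map_pow]
      rw [MonoidHom.mem_ker, powMonoidHom_apply] at hx
      rw [hx, map_one]
    rw [← h1]
    apply Units.ext
    rw [Units.val_pow_eq_pow_val, Units.val_pow_eq_pow_val, pow_succ, pow_succ]
    congr 1
    haveI := Fintype.ofFinite F
    have h2 := FiniteField.pow_card ((N x : F) ^ q)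
    rw [← Nat.card_eq_fintype_card, hF, ← pow_mul, show q * q ^ 2 = q ^ 3 by ring] at h2
    exact h2.symm
  have hker : Nat.card f.ker * q ≤ (q ^ 3 + 1) * q / (q + 1) := by
    rw [Nat.le_div_iff_mul_le (by omega), mul_right_comm]
    refine Nat.mul_le_mul_right q ?_
    have hle : Nat.card f.ker ≤ q ^ 2 - q + 1 := by
      refine le_trans (Nat.card_le_card_of_injective
        (fun x : f.ker => (⟨(x : K1).1, ?_⟩ : (powMonoidHom (q ^ 2 - q + 1) : Kˣ →* Kˣ).ker))
        fun a b h => Subtype.ext (Subtype.ext (congrArg Subtype.val h :))) ?_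
      · obtain ⟨⟨x, hx⟩, hn⟩ := x
        rw [MonoidHom.mem_ker, powMonoidHom_apply] at hx ⊢
        have hn' : N x = 1 := hn
        have h1 : x ^ (1 + q ^ 2 + (q ^ 2) ^ 2) = 1 := by
          apply Units.ext
          have h2 := FiniteField.algebraMap_norm_eq_pow_sum (K := F) (L := K) (x := (x : K))
          rw [show Algebra.norm F (x : K) = 1 from congrArg Units.val hn', map_one, hK.finrank_eq, hF,
            Finset.sum_range_succ, Finset.sum_range_succ, Finset.sum_range_one, pow_zero, pow_one] at h2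
          rw [Units.val_pow_eq_pow_val, Units.val_one]
          exact h2.symm
        obtain ⟨m, hm⟩ : ∃ m, q ^ 2 = m + q := ⟨q ^ 2 - q, (Nat.sub_add_cancel (Nat.le_self_pow two_ne_zero q)).symm⟩
        rw [show q ^ 2 - q + 1 = m + 1 by omega]
        have h3 : x ^ ((m + 1) * (q ^ 2 + q + 1)) = 1 := by
          rw [← h1]
          congr 1
          zify at hm ⊢
          linear_combination (-(q : ℤ) ^ 2 - q - 1) * hm
        have h4 : x ^ ((m + 1) * (q + 1)) = 1 := by
          rw [← hx]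
          congr 1
          zify at hm ⊢
          linear_combination (-(q : ℤ) - 1) * hm
        rw [show (m + 1) * (q ^ 2 + q + 1) = (m + 1) * (q + 1) * q + (m + 1) by ring, pow_add, pow_mul, h4,
          one_pow, one_mul] at h3
        exact h3
      · rw [IsCyclic.card_powMonoidHom_ker]
        exact Nat.gcd_le_right _ (Nat.succ_pos _)
    refine le_trans (Nat.mul_le_mul_right _ hle) (le_of_eq ?_)
    obtain ⟨m, hm⟩ : ∃ m, q ^ 2 = m + q := ⟨q ^ 2 - q, (Nat.sub_add_cancel (Nat.le_self_pow two_ne_zero q)).symm⟩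
    rw [show q ^ 2 - q + 1 = m + 1 by omega]
    zify at hm ⊢
    linear_combination (-(q : ℤ) - 1) * hm
  have hdiv : q ^ 3 + 1 = (q ^ 2 - q + 1) * (q + 1) := by
    obtain ⟨m, hm⟩ : ∃ m, q ^ 2 = m + q := ⟨q ^ 2 - q, (Nat.sub_add_cancel (Nat.le_self_pow two_ne_zero q)).symm⟩
    rw [show q ^ 2 - q + 1 = m + 1 by omega]
    zify at hm ⊢
    linear_combination ((q : ℤ) + 1) * hm
  rw [hdiv, mul_right_comm, Nat.mul_div_cancel _ (by omega)] at hker
  have hker' := Nat.le_of_mul_le_mul_right hker (by omega)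
  have hprod : Nat.card f.ker * Nat.card f.range = q ^ 3 + 1 := by
    rw [← hK1, ← Subgroup.index_ker, Subgroup.card_mul_index]
  have hrle : Nat.card f.range ≤ q + 1 := hF1 ▸ Subgroup.card_le_of_le hrange
  have hkc : Nat.card f.ker = q ^ 2 - q + 1 := by
    refine le_antisymm hker' (Nat.le_of_mul_le_mul_right ?_ (show 0 < q + 1 by omega))
    rw [← hdiv, ← hprod]
    exact Nat.mul_le_mul_left _ hrle
  have hsurj : f.range = F1 := by
    refine Subgroup.eq_of_le_of_card_ge hrange ?_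
    rw [hkc, hdiv] at hprod
    rw [hF1, Nat.eq_of_mul_eq_mul_left (Nat.succ_pos _) hprod]
  have hbij : Nat.card f.ker = Nat.card (uC q K) := by
    refine Nat.card_congr (Equiv.ofBijective (fun x => ⟨ι (x : K1).1, ?_⟩) ⟨?_, ?_⟩)
    · have hd : ι (x : K1).1 ∈ specialLinear (Fin 3) F := by
        rw [mem_specialLinear, hdet]
        exact congrArg Units.val x.2
      exact ⟨SL3.Singer.mem_cyc hK (SetLike.coe_mem _) hd, (hGU _).2 (x : K1).2, hd⟩
    · exact fun a b h => Subtype.ext (Subtype.ext (hι (congrArg Subtype.val h)))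
    · rintro ⟨g, ⟨hg, hgi, hgd⟩, hgu, -⟩
      let x : Kˣ := ⟨⟨_, hg⟩, ⟨_, hgi⟩, Subtype.ext g.mul_inv, Subtype.ext g.inv_mul⟩
      have hx : ι x = g := Units.ext rfl
      refine ⟨⟨⟨x, (hGU x).1 (hx ▸ hgu)⟩, Units.ext ?_⟩, Subtype.ext hx⟩
      show (N x : F) = 1
      rw [← hdet, hx]
      exact mem_specialLinear.1 hgd
  refine ⟨by rw [← hbij, hkc]; have := Nat.le_self_pow two_ne_zero q; omega, fun δ hδ => ?_⟩
  have hδ0 : δ ≠ 0 := fun h => by rw [h, zero_pow (Nat.succ_ne_zero _)] at hδ; exact zero_ne_one hδ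
  obtain ⟨⟨x, hx⟩, hfx⟩ : Units.mk0 δ hδ0 ∈ f.range := by
    rw [hsurj, MonoidHom.mem_ker, powMonoidHom_apply]
    exact Units.ext (by simpa using hδ)
  exact ⟨ι x, SetLike.coe_mem _, (hGU x).2 hx, by rw [hdet]; exact congrArg Units.val hfx⟩

end CfsgLib.Geo.SU3.Singer
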