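/-
The normaliser of an adjoint closed field of degree three: a Frobenius element, the order, the orbits on points.
-/
import Cfsg.Agent.Geo.SUThree.SingerBase
import Cfsg.Agent.Unitary.Special

set_option autoImplicit false
set_option linter.unusedSectionVars false

namespace CfsgLib.Geo.SU3.Singer

open Matrix Cfsg Cfsg.Geo CfsgLib.Geo CfsgLib.Geo.UTv

variable {q : ℕ} {F : Type*} [Field F] [Finite F] (hF : Nat.card F = q ^ 2)
  {K : Subalgebra F (Matrix (Fin 3) (Fin 3) F)} (hK : IsFieldSubalgebra 3 K)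
  (hac : IsAdjointClosedFor (Cfsg.hermForm 3 F q) K)

local notation "hh" => Cfsg.hermForm 3 F q
local notation "v₀" => (Pi.single 0 1 : Fin 3 → F)

include hF hK hac

/-- An element of the special unitary group inducing a nontrivial automorphism of the field. -/
theorem exists_frob : ∃ g ∈ suGL 3 F q, ∃ hg : g ∈ subalgebraNormalizer K, conjHom K ⟨g, hg⟩ ≠ 1 := by
  letI := SL3.Singer.field hK
  haveI : FiniteDimensional F K := Module.finite_of_finrank_eq_succ hK.finrank_eq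
  haveI : Finite K := Module.finite_of_finite F
  haveI := Fintype.ofFinite F
  have hf := isUnitaryForm hF (n := 3)
  let E := SL3.Singer.eval hK (SL3.Singer.single_ne (F := F))
  have hE : ∀ k : K, E k = (k : Matrix (Fin 3) (Fin 3) F) *ᵥ v₀ := fun k => SL3.Singer.eval_apply hK _ k
  set Q := q ^ 3 with hQ
  have hK2 : ∀ x : K, x ^ (Q * Q) = x := fun x => by
    haveI := Fintype.ofFinite K
    rw [← pow_two, ← card_field hF hK, Nat.card_eq_fintype_card, FiniteField.pow_card]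
  let lin : K →ₗ[F] F :=
    { toFun := fun k => hh ((k : Matrix (Fin 3) (Fin 3) F) *ᵥ v₀) v₀
      map_add' := fun a b => by rw [Subalgebra.coe_add, Matrix.add_mulVec, hf.add_left]
      map_smul' := fun a b => by rw [Subalgebra.coe_smul, Matrix.smul_mulVec, hf.smul_left]; rfl }
  set B := (Algebra.traceForm F K).toDual (traceForm_nondegenerate F K)
  set c : K := B.symm lin with hcdef
  have hc : ∀ x : K, hh ((x : Matrix (Fin 3) (Fin 3) F) *ᵥ v₀) v₀ = Algebra.trace F K (c * x) := fun x => by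
    rw [← Algebra.traceForm_apply, hcdef, LinearMap.BilinForm.apply_toDual_symm_apply]
    rfl
  have hpair : ∀ k l : K, hh ((k : Matrix (Fin 3) (Fin 3) F) *ᵥ v₀) ((l : Matrix (Fin 3) (Fin 3) F) *ᵥ v₀) =
      Algebra.trace F K (c * (l ^ Q * k)) := fun k l => by
    rw [← hc, Subalgebra.coe_mul, ← Matrix.mulVec_mulVec, herm_field hF hK hac (l ^ Q), ← hQ, ← pow_mul, hK2]
  have htr : ∀ y : K, Algebra.trace F K (y ^ Q) = frobEquiv hF (Algebra.trace F K y) := fun y => by
    apply (algebraMap F K).injective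
    have hR : algebraMap F K (frobEquiv hF (Algebra.trace F K y)) = (algebraMap F K (Algebra.trace F K y)) ^ Q := by
      rw [← map_pow, frobEquiv_apply hF]
      congr 1
      have h2 := FiniteField.pow_card ((Algebra.trace F K y) ^ q)
      rw [← Nat.card_eq_fintype_card, hF, ← pow_mul, show q * q ^ 2 = q ^ 3 by ring] at h2
      exact h2.symm
    rw [hR, FiniteField.algebraMap_trace_eq_sum_pow, FiniteField.algebraMap_trace_eq_sum_pow]
    conv_rhs => rw [← CfsgLib.Forms.frobQ_apply (card_field hF hK), map_sum]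
    refine Finset.sum_congr rfl fun i _ => ?_
    rw [map_pow, CfsgLib.Forms.frobQ_apply (card_field hF hK)]
  have hcQ : c ^ Q = c := by
    apply B.injective
    refine LinearMap.ext fun x => ?_
    rw [LinearMap.BilinForm.toDual_def, LinearMap.BilinForm.toDual_def, Algebra.traceForm_apply,
      Algebra.traceForm_apply, ← hc]
    have h1 : hh ((x : Matrix (Fin 3) (Fin 3) F) *ᵥ v₀) v₀ =
        frobEquiv hF (hh (((x ^ Q : K) : Matrix (Fin 3) (Fin 3) F) *ᵥ v₀) v₀) := by
      rw [herm_field hF hK hac x, ← hf.herm]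
    rw [h1, hc, ← htr, mul_pow, ← pow_mul, hK2]
  have hc0 : c ≠ 0 := fun h => by
    obtain ⟨y, hy⟩ := (hf.nondegenerate v₀ SL3.Singer.single_ne).1
    obtain ⟨k, hk, hky⟩ := SL3.Singer.exists_mulVec hK SL3.Singer.single_ne y
    have h1 := hc ⟨k, hk⟩
    rw [h, zero_mul, map_zero, hky] at h1
    first | exact hy h1 | exact hy (herm_swap0 hF h1)
  let s : K ≃ₐ[F] K := FiniteField.frobeniusAlgEquivOfAlgebraic F K
  have hs : ∀ x : K, s x = x ^ Nat.card F := fun x => by
    rw [Nat.card_eq_fintype_card]; rfl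
  have hsQ : ∀ x : K, s (x ^ Q) = s x ^ Q := fun x => map_pow s x Q
  set t := s c / c with ht
  have ht0 : t ≠ 0 := div_ne_zero ((map_ne_zero _).2 hc0) hc0
  obtain ⟨⟨μ, hμ⟩⟩ : Nonempty {x : K // x ^ (Q + 1) = t} := by
    refine (Nat.card_pos_iff.1 ?_).1
    rw [CfsgLib.Forms.card_norm_fiber (card_field hF hK) ht0 (by rw [ht, div_pow, ← hsQ, hcQ])]
    positivity
  have hμ0 : μ ≠ 0 := fun h => ht0 (by rw [← hμ, h, zero_pow (Nat.succ_ne_zero _)])
  let T : (Fin 3 → F) →ₗ[F] (Fin 3 → F) :=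
    (E : K →ₗ[F] (Fin 3 → F)) ∘ₗ LinearMap.mulLeft F μ ∘ₗ s.toLinearMap ∘ₗ (E.symm : (Fin 3 → F) →ₗ[F] K)
  have hT : ∀ k : K, T ((k : Matrix (Fin 3) (Fin 3) F) *ᵥ v₀) = ((μ * s k : K) : Matrix (Fin 3) (Fin 3) F) *ᵥ v₀ :=
    fun k => by
      rw [← hE, ← hE]
      simp [T]
  have hinj : LinearMap.ker T = ⊥ := LinearMap.ker_eq_bot.2 fun a b h => by
    obtain ⟨x, rfl⟩ := E.surjective a
    obtain ⟨y, rfl⟩ := E.surjective b
    rw [hE, hE, hT, hT, ← hE, ← hE] at h
    rw [s.injective (mul_left_cancel₀ hμ0 (E.injective h))]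
  have hdet : (LinearMap.toMatrix' T).det ≠ 0 := by
    rw [LinearMap.det_toMatrix']
    exact fun h => absurd hinj (ne_of_gt (LinearMap.bot_lt_ker_of_det_eq_zero h))
  let g₀ : GL (Fin 3) F := Matrix.GeneralLinearGroup.mkOfDetNeZero _ hdet
  have hg₀ : ∀ k : K, (g₀ : Matrix (Fin 3) (Fin 3) F) *ᵥ ((k : Matrix (Fin 3) (Fin 3) F) *ᵥ v₀) =
      ((μ * s k : K) : Matrix (Fin 3) (Fin 3) F) *ᵥ v₀ := fun k => by
    rw [show (g₀ : Matrix (Fin 3) (Fin 3) F) = LinearMap.toMatrix' T from rfl, LinearMap.toMatrix'_mulVec, hT]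
  have hgGU : g₀ ∈ Cfsg.GU 3 F q := mem_GU.2 fun u v => by
    obtain ⟨k, rfl⟩ := E.surjective u
    obtain ⟨l, rfl⟩ := E.surjective v
    rw [hE, hE, hg₀, hg₀, hpair, hpair, ← Algebra.trace_eq_of_algEquiv s (c * (l ^ Q * k))]
    congr 1
    rw [map_mul, map_mul, hsQ, mul_pow, show s c = t * c from (div_mul_cancel₀ _ hc0).symm, ← hμ, pow_succ]
    ring
  have hconj : ∀ l : K, (g₀ : Matrix (Fin 3) (Fin 3) F) * l =
      ((s l : K) : Matrix (Fin 3) (Fin 3) F) * (g₀ : Matrix (Fin 3) (Fin 3) F) := fun l => by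
    refine Matrix.ext_iff_mulVec.2 fun u => ?_
    obtain ⟨k, rfl⟩ := E.surjective u
    have e1 := hg₀ (l * k)
    rw [Subalgebra.coe_mul, ← Matrix.mulVec_mulVec] at e1
    rw [hE, ← Matrix.mulVec_mulVec, ← Matrix.mulVec_mulVec, hg₀, e1, Matrix.mulVec_mulVec, ← Subalgebra.coe_mul,
      map_mul]
    congr 2
    ring
  obtain ⟨ν, hνK, hνU, hνd⟩ := (uC_data hF hK hac).2 ((g₀ : Matrix (Fin 3) (Fin 3) F).det)⁻¹ (by
    rw [inv_pow, inv_eq_one]
    have := congrArg Units.val (CfsgLib.Unitary.det_GU hF hgGU)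
    rwa [Units.val_pow_eq_pow_val, Units.val_one] at this)
  set g := ν * g₀
  have hgl : ∀ l : K, (g : Matrix (Fin 3) (Fin 3) F) * l * ((g⁻¹ : GL (Fin 3) F) : Matrix (Fin 3) (Fin 3) F) =
      ((s l : K) : Matrix (Fin 3) (Fin 3) F) := fun l => by
    have h1 : (g : Matrix (Fin 3) (Fin 3) F) * l = ((s l : K) : Matrix (Fin 3) (Fin 3) F) * g := by
      rw [Units.val_mul, mul_assoc, hconj, ← mul_assoc, ← mul_assoc, hK.comm _ hνK _ (SetLike.coe_mem _)]
    rw [h1, mul_assoc, Units.mul_inv, mul_one]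
  have hgN : g ∈ subalgebraNormalizer K := fun k => by
    refine ⟨fun hk => by rw [hgl ⟨k, hk⟩]; exact SetLike.coe_mem _, fun hk => ?_⟩
    obtain ⟨y, hy⟩ := s.surjective ⟨_, hk⟩
    have h1 := hgl y
    rw [hy] at h1
    have h2 := congrArg (fun z => ((g⁻¹ : GL (Fin 3) F) : Matrix (Fin 3) (Fin 3) F) * z * g) h1
    simp [mul_assoc] at h2
    rw [← h2]
    exact y.2
  refine ⟨g, ⟨(Cfsg.GU 3 F q).mul_mem hνU hgGU, mem_specialLinear.2 ?_⟩, hgN, fun h => ?_⟩
  · rw [Units.val_mul, Matrix.det_mul, hνd, inv_mul_cancel₀ (by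
      rw [show (g₀ : Matrix (Fin 3) (Fin 3) F).det = (LinearMap.toMatrix' T).det from rfl]; exact hdet)]
  · have hs1 : s = 1 := AlgEquiv.ext fun l => Subtype.ext ((hgl l).symm.trans
      (congrArg (Subtype.val : K → Matrix (Fin 3) (Fin 3) F) (AlgEquiv.congr_fun h l)))
    have h1 : orderOf s = Module.finrank F K := FiniteField.orderOf_frobeniusAlgEquivOfAlgebraic F K
    rw [hK.finrank_eq, orderOf_eq_iff (by norm_num)] at h1
    exact h1.2 1 (by norm_num) (by norm_num) (by rw [pow_one]; exact hs1)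

/-- The order of the normaliser and the cubes of its elements. -/
theorem normalizer_data : Nat.card (subalgebraNormalizer K ⊓ suGL 3 F q : Subgroup (GL (Fin 3) F)) =
      3 * Nat.card (uC q K) ∧
    uC q K ≤ subalgebraNormalizer K ⊓ suGL 3 F q ∧
    ∀ x ∈ subalgebraNormalizer K ⊓ suGL 3 F q, x ^ 3 ∈ uC q K := by
  set X := subalgebraNormalizer K ⊓ suGL 3 F q with hX
  let φ : X →* (K ≃ₐ[F] K) := (conjHom K).comp (Subgroup.inclusion inf_le_left)
  have hCX : uC q K ≤ X := by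
    rintro g ⟨hg, hgu⟩
    refine ⟨fun k => ⟨fun hk => ?_, fun hk => ?_⟩, hgu⟩
    · exact K.mul_mem (K.mul_mem hg.1 hk) hg.2.1
    · have := K.mul_mem (K.mul_mem hg.2.1 hk) hg.1
      simpa [mul_assoc] using this
  have hmem : ∀ x : X, φ x = 1 ↔ (x : GL (Fin 3) F) ∈ uC q K := fun x => by
    constructor
    · intro h
      have hK' : ((x : GL (Fin 3) F) : Matrix (Fin 3) (Fin 3) F) ∈ K := SL3.Singer.mem_of_comm hK fun k hk => by
        have h1 := congrArg (Subtype.val : K → Matrix (Fin 3) (Fin 3) F) (AlgEquiv.congr_fun h ⟨k, hk⟩)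
        have h2 := congrArg (fun z => z * ((x : GL (Fin 3) F) : Matrix (Fin 3) (Fin 3) F)) h1
        simp [φ, conjHom, conjAut, mul_assoc] at h2
        exact h2
      exact ⟨SL3.Singer.mem_cyc hK hK' x.2.2.2, x.2.2⟩
    · intro h
      refine AlgEquiv.ext fun k => Subtype.ext ?_
      show _ * (k : Matrix (Fin 3) (Fin 3) F) * _ = (k : Matrix (Fin 3) (Fin 3) F)
      simp only [Subgroup.coe_inclusion]
      rw [hK.comm _ h.1.1 _ k.2, mul_assoc, Units.mul_inv, mul_one]
  have h3 := card_aut hF hK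
  haveI : Finite (K ≃ₐ[F] K) := Nat.finite_of_card_ne_zero (by rw [h3]; norm_num)
  have hker : Nat.card φ.ker = Nat.card (uC q K) := Nat.card_congr
    { toFun := fun x => ⟨(x : X), (hmem _).1 x.2⟩
      invFun := fun g => ⟨⟨g, hCX g.2⟩, (hmem _).2 g.2⟩
      left_inv := fun x => rfl
      right_inv := fun x => rfl }
  have hrange : Nat.card φ.range = 3 := by
    haveI : Fact (Nat.card (K ≃ₐ[F] K)).Prime := ⟨by rw [h3]; exact Nat.prime_three⟩
    rcases Subgroup.eq_bot_or_eq_top_of_prime_card φ.range with h | h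
    · obtain ⟨g, hg, hgN, hne⟩ := exists_frob hF hK hac
      refine absurd ?_ hne
      exact Subgroup.mem_bot.1 (h ▸ ⟨⟨g, hgN, hg⟩, rfl⟩ : conjHom K ⟨g, hgN⟩ ∈ (⊥ : Subgroup (K ≃ₐ[F] K)))
    · rw [h, Subgroup.card_top, h3]
  refine ⟨?_, hCX, fun x hx => (hmem ⟨x ^ 3, X.pow_mem hx 3⟩).1 ?_⟩
  · rw [← Subgroup.card_mul_index φ.ker, Subgroup.index_ker, hker, hrange, mul_comm]
  · rw [show (⟨x ^ 3, X.pow_mem hx 3⟩ : X) = ⟨x, hx⟩ ^ 3 from rfl, map_pow]
    have hc := pow_card_eq_one' (x := φ ⟨x, hx⟩)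
    rwa [h3] at hc

/-- A field element of the group whose cube is scalar is scalar. -/
theorem scalar_of_cube {g : GL (Fin 3) F} (hg : g ∈ uC q K) {a : F}
    (ha : ((g ^ 3 : GL (Fin 3) F) : Matrix (Fin 3) (Fin 3) F) = a • 1) :
    ∃ b : F, (g : Matrix (Fin 3) (Fin 3) F) = b • 1 := by
  letI := SL3.Singer.field hK
  haveI : FiniteDimensional F K := Module.finite_of_finrank_eq_succ hK.finrank_eq
  haveI : Finite K := Module.finite_of_finite F
  haveI := Fintype.ofFinite F
  have hq := CfsgLib.Forms.two_le_q hF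
  have hcard := (uC_data hF hK hac).1
  have ha3 : a ^ 3 = 1 := by
    have h1 := congrArg Matrix.det ha
    rw [Matrix.det_smul, Fintype.card_fin, Matrix.det_one, mul_one, Units.val_pow_eq_pow_val, Matrix.det_pow,
      mem_specialLinear.1 hg.2.2, one_pow] at h1
    exact h1.symm
  have h9 : g ^ 9 = 1 := by
    refine Units.ext ?_
    rw [show (9 : ℕ) = 3 * 3 from rfl, pow_mul, Units.val_pow_eq_pow_val, ha, smul_pow, one_pow, ha3, one_smul,
      Units.val_one]
  have hm : g ^ Nat.card (uC q K) = 1 :=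
    congrArg Subtype.val (pow_card_eq_one' (x := (⟨g, hg⟩ : uC q K)))
  have h3 : g ^ 3 = 1 := by
    have hgcd := pow_gcd_eq_one.2 ⟨hm, h9⟩
    have hdvd : Nat.gcd (Nat.card (uC q K)) 9 ∣ 3 := by
      rcases (Nat.dvd_prime_pow Nat.prime_three).1
        (show Nat.gcd (Nat.card (uC q K)) 9 ∣ 3 ^ 2 from Nat.gcd_dvd_right _ _) with ⟨i, hi, he⟩
      interval_cases i
      · rw [he]; norm_num
      · rw [he, pow_one]
      · exfalso
        have h9 : 9 ∣ Nat.card (uC q K) := by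
          have := Nat.gcd_dvd_left (Nat.card (uC q K)) 9
          rwa [he] at this
        generalize Nat.card (uC q K) = C at hcard h9
        obtain ⟨j, hj⟩ : ∃ j, q = 3 * j ∨ q = 3 * j + 1 ∨ q = 3 * j + 2 := ⟨q / 3, by omega⟩
        rcases hj with rfl | rfl | rfl <;> (ring_nf at hcard; omega)
    obtain ⟨k, hk⟩ := hdvd
    have : g ^ (Nat.gcd (Nat.card (uC q K)) 9 * k) = 1 := by rw [pow_mul, hgcd, one_pow]
    rwa [← hk] at this
  set x : K := ⟨_, hg.1.1⟩
  have hx3 : x ^ 3 = 1 := Subtype.ext (by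
    have := congrArg Units.val h3
    rwa [Units.val_pow_eq_pow_val, Units.val_one] at this)
  have hxF : x ^ Nat.card F = x := by
    rw [hF]
    by_cases h : q % 3 = 0
    · have hc3 : (3 : K) = 0 := by
        obtain ⟨p, b, hpc, hp, hqb⟩ := CfsgLib.Forms.exists_charP_pow hF
        haveI := hpc
        have hdvd : 3 ∣ p ^ b := hqb ▸ Nat.dvd_of_mod_eq_zero h
        have := (Nat.prime_dvd_prime_iff_eq Nat.prime_three hp).1 (Nat.prime_three.dvd_of_dvd_pow hdvd)
        have h30 : (3 : F) = 0 := by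
          have e := (CharP.cast_eq_zero_iff F p 3).2 (this ▸ dvd_rfl)
          exact_mod_cast e
        rw [← map_ofNat (algebraMap F K) 3, h30, map_zero]
      have : (x - 1) ^ 3 = 0 := by linear_combination hx3 + (x - x ^ 2) * hc3
      rw [sub_eq_zero.1 ((pow_eq_zero_iff three_ne_zero).1 this), one_pow]
    · obtain ⟨s, hs⟩ : ∃ s, q ^ 2 = 3 * s + 1 := by
        obtain ⟨j, hj⟩ : ∃ j, q = 3 * j + 1 ∨ q = 3 * j + 2 := ⟨q / 3, by omega⟩
        rcases hj with rfl | rfl
        · exact ⟨3 * j ^ 2 + 2 * j, by ring⟩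
        · exact ⟨3 * j ^ 2 + 4 * j + 1, by ring⟩
      rw [hs, pow_succ, pow_mul, hx3, one_pow, one_mul]
  let s : K ≃ₐ[F] K := FiniteField.frobeniusAlgEquivOfAlgebraic F K
  let A : Subalgebra F K := AlgHom.equalizer (s : K →ₐ[F] K) (AlgHom.id F K)
  haveI := Subalgebra.isSimpleOrder_of_finrank_prime F K (hK.finrank_eq.symm ▸ Nat.prime_three)
  have hxA : x ∈ A := by
    show s x = x
    rw [Nat.card_eq_fintype_card] at hxF
    exact hxF
  rcases eq_bot_or_eq_top A with hA | hA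
  · rw [hA, Algebra.mem_bot] at hxA
    obtain ⟨b, hb⟩ := hxA
    exact ⟨b, ((congrArg Subtype.val hb).symm.trans (Algebra.algebraMap_eq_smul_one _))⟩
  · exfalso
    have hs1 : s = 1 := AlgEquiv.ext fun l => (hA ▸ Algebra.mem_top : l ∈ A)
    have h1 : orderOf s = Module.finrank F K := FiniteField.orderOf_frobeniusAlgEquivOfAlgebraic F K
    rw [hK.finrank_eq, orderOf_eq_iff (by norm_num)] at h1
    exact h1.2 1 (by norm_num) (by norm_num) (by rw [pow_one]; exact hs1)

/-- The orbits of the field elements on points all have one size. -/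
theorem exists_num : ∃ d m, Num q d m ∧ Nat.card (uC q K) = d * m ∧
    Nat.card {g : GL (Fin 3) F // g ∈ uC q K ∧ ∃ a : F, (g : Matrix (Fin 3) (Fin 3) F) = a • 1} = d ∧
    ∀ P : SL3.Plane.Pt F, Nat.card (MulAction.orbit (uC q K) P) = m := by
  have hq := CfsgLib.Forms.two_le_q hF
  have hcard := (uC_data hF hK hac).1
  let sc : Fˣ →* GL (Fin 3) F := Units.map (Matrix.scalar (Fin 3) : F →+* Matrix (Fin 3) (Fin 3) F).toMonoidHom
  have hsc : ∀ u, (sc u : Matrix (Fin 3) (Fin 3) F) = (u : F) • 1 := fun u => by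
    show Matrix.scalar (Fin 3) (u : F) = _
    rw [Matrix.scalar_apply, Matrix.smul_one_eq_diagonal]
  set d := Nat.gcd 3 (q + 1)
  have hscal : Nat.card {g : GL (Fin 3) F // g ∈ uC q K ∧ ∃ a : F, (g : Matrix (Fin 3) (Fin 3) F) = a • 1} = d := by
    have hd : Nat.gcd (Nat.card Fˣ) d = d := by
      refine Nat.gcd_eq_right ((Nat.gcd_dvd_right 3 (q + 1)).trans ?_)
      rw [Nat.card_units, hF]
      exact ⟨q - 1, by rw [← Nat.sq_sub_sq, one_pow]⟩
    conv_rhs => rw [← hd, ← IsCyclic.card_powMonoidHom_ker (G := Fˣ) d]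
    have hiff : ∀ u : Fˣ, u ^ d = 1 ↔ sc u ∈ uC q K := fun u => by
      have hGU : sc u ∈ Cfsg.GU 3 F q ↔ u ^ (q + 1) = 1 := by
        have hf := isUnitaryForm hF (n := 3)
        rw [mem_GU]
        refine ⟨fun h => ?_, fun h x y => ?_⟩
        · obtain ⟨x, y, hxy⟩ : ∃ x y, hh x y ≠ 0 := by
            obtain ⟨y, hy⟩ := (hf.nondegenerate _ (SL3.Singer.single_ne (F := F))).1
            exact ⟨_, _, hy⟩
          have := h x y
          rw [hsc, Matrix.smul_mulVec, Matrix.smul_mulVec, Matrix.one_mulVec, Matrix.one_mulVec, hf.smul_left,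
            Unit.smul_right hf, ← mul_assoc, frobEquiv_apply hF, ← pow_succ'] at this
          exact Units.ext (by rw [Units.val_pow_eq_pow_val, Units.val_one]; exact (mul_eq_right₀ hxy).1 this)
        · rw [hsc, Matrix.smul_mulVec, Matrix.smul_mulVec, Matrix.one_mulVec, Matrix.one_mulVec, hf.smul_left,
            Unit.smul_right hf, ← mul_assoc, frobEquiv_apply hF, ← pow_succ']
          have h' : (u : F) ^ (q + 1) = 1 := by rw [← Units.val_pow_eq_pow_val, h, Units.val_one]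
          rw [h', one_mul]
      have hSL : sc u ∈ specialLinear (Fin 3) F ↔ u ^ 3 = 1 := by
        rw [mem_specialLinear, hsc, Matrix.det_smul, Fintype.card_fin, Matrix.det_one, mul_one, ← Units.val_inj,
          Units.val_pow_eq_pow_val, Units.val_one]
      constructor
      · intro h
        have h3 : sc u ∈ specialLinear (Fin 3) F := hSL.2 (by
          obtain ⟨i, hi⟩ := Nat.gcd_dvd_left 3 (q + 1)
          rw [hi, pow_mul, h, one_pow])
        exact ⟨SL3.Singer.mem_cyc hK (by rw [hsc]; exact K.smul_mem K.one_mem _) h3, hGU.2 (by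
          obtain ⟨i, hi⟩ := Nat.gcd_dvd_right 3 (q + 1)
          rw [hi, pow_mul, h, one_pow]), h3⟩
      · rintro ⟨-, hu, h3⟩
        exact pow_gcd_eq_one.2 ⟨hSL.1 h3, hGU.1 hu⟩
    refine (Nat.card_congr (Equiv.ofBijective (fun u => ⟨sc u.1, (hiff _).1 u.2, u.1, hsc _⟩) ⟨?_, ?_⟩)).symm
    · intro u v h
      have h1 := congrArg (fun g : GL (Fin 3) F => (g : Matrix (Fin 3) (Fin 3) F) 0 0) (congrArg Subtype.val h)
      simp only [hsc, Matrix.smul_apply, Matrix.one_apply_eq, smul_eq_mul, mul_one] at h1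
      exact Subtype.ext (Units.ext h1)
    · rintro ⟨g, hg, a, ha⟩
      have ha0 : a ≠ 0 := fun e => g.ne_zero (by rw [ha, e, zero_smul])
      have he : sc (Units.mk0 a ha0) = g := Units.ext (by rw [hsc, ha]; rfl)
      exact ⟨⟨Units.mk0 a ha0, (hiff _).2 (he ▸ hg)⟩, Subtype.ext he⟩
  have hpt : ∀ P : SL3.Plane.Pt F, Nat.card (MulAction.orbit (uC q K) P) * d = Nat.card (uC q K) := fun P => by
    rw [← hscal]
    exact SL3.Singer.orbit_mul_card (uC q K) P (fun g hg => SL3.Singer.smul_eq_iff hK hg.1 P)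
  have hd0 : 0 < d := Nat.gcd_pos_of_pos_left _ (by norm_num)
  have hd : d = 1 ∨ d = 3 := (Nat.dvd_prime Nat.prime_three).1 (Nat.gcd_dvd_left _ _)
  obtain ⟨P₀⟩ : Nonempty (SL3.Plane.Pt F) := ⟨Projectivization.mk F _ (SL3.Singer.single_ne (F := F))⟩
  set m := Nat.card (MulAction.orbit (uC q K) P₀)
  have hdm : Nat.card (uC q K) = d * m := by rw [mul_comm, hpt]
  have hd3 : d = 3 ↔ q % 3 = 2 := by
    constructor
    · intro h
      have h1 : d ∣ q + 1 := Nat.gcd_dvd_right _ _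
      rw [h] at h1
      omega
    · intro h
      exact Nat.gcd_eq_left (by omega)
  refine ⟨d, m, ⟨by rw [← hdm]; exact hcard, ?_, ?_⟩, hdm, hscal,
    fun P => Nat.eq_of_mul_eq_mul_right hd0 ((hpt P).trans (hpt P₀).symm)⟩
  · rcases hd with h | h
    · exact Or.inl ⟨h, fun e => by rw [hd3.2 e] at h; omega⟩
    · exact Or.inr ⟨h, hd3.1 h⟩
  · rw [Nat.prime_three.coprime_iff_not_dvd]
    intro h3
    rw [hdm] at hcard
    obtain ⟨i, hi⟩ := h3
    rw [hi] at hcard
    obtain ⟨j, hj⟩ : ∃ j, q = 3 * j ∨ q = 3 * j + 1 ∨ q = 3 * j + 2 := ⟨q / 3, by omega⟩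
    rcases hd with h | h <;> rw [h] at hcard <;> rcases hj with e | e | e <;> rw [e] at hcard hd3 <;>
      ring_nf at hcard <;> omega

end CfsgLib.Geo.SU3.Singer
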