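/-
The unipotent parts of an overgroup with few transvections in SU of dimension three, and the order of SU.
-/
import Cfsg.Agent.Geo.SUThree.Orbit
import Cfsg.Agent.Unitary.Special

set_option autoImplicit false
set_option linter.unusedSectionVars false

namespace CfsgLib.Geo.SU3

open Matrix Cfsg Cfsg.Geo CfsgLib.Geo CfsgLib.Geo.UTv

variable {q : ℕ} {F : Type*} [Field F] [Finite F] (hF : Nat.card F = q ^ 2) {M : Subgroup (GL (Fin 3) F)}

local notation "hh" => Cfsg.hermForm 3 F q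

include hF

/-- The order of the special unitary group. -/
theorem card_suGL_three : Nat.card (suGL 3 F q) + q ^ 3 * (q + 1) ^ 2 * (q - 1) * q =
    q ^ 3 * (q + 1) ^ 2 * (q - 1) * (q ^ 2 + 1) := by
  have hq := CfsgLib.Forms.two_le_q hF
  let φ : suGL 3 F q ≃ (CfsgLib.Unitary.detGU (F := F) (q := q) 3).ker :=
    { toFun := fun g => ⟨⟨(g : GL (Fin 3) F), g.2.1⟩, Units.ext (mem_specialLinear.1 g.2.2)⟩
      invFun := fun x => ⟨(x.1 : GL (Fin 3) F), x.1.2, mem_specialLinear.2 (congrArg Units.val x.2)⟩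
      left_inv := fun g => rfl
      right_inv := fun g => rfl }
  have he : Nat.card (suGL 3 F q) = Nat.card (Cfsg.SU 3 F q) :=
    (Nat.card_congr φ).trans (Nat.card_congr (CfsgLib.Unitary.suEquiv (F := F) (q := q) 3).toEquiv).symm
  have hSU : Nat.card (Cfsg.SU 3 F q) = q ^ 3 * ((q ^ 2 - 1) * (q ^ 3 + 1)) := by
    have h := CfsgLib.Unitary.card_SU_mul hF (n := 3) (by norm_num)
    rw [CfsgLib.Unitary.card_GU hF, Finset.prod_range_succ, Finset.prod_range_succ, Finset.prod_range_one] at h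
    norm_num [show ¬ Even 1 from by decide, show Even 2 from by decide] at h
    apply Nat.eq_of_mul_eq_mul_left (show 0 < q + 1 by omega)
    rw [h]; ring
  rw [he, hSU, show q ^ 2 - 1 = (q + 1) * (q - 1) by rw [← Nat.sq_sub_sq, one_pow]]
  ring

/-- A `p`-group fixes an isotropic vector or is trivial. -/
theorem exists_pgroup_fixVec {p : ℕ} [Fact p.Prime] [CharP F p] (hMI : M ≤ suGL 3 F q)
    {Q : Subgroup (GL (Fin 3) F)} (hQM : Q ≤ M) (hQ : IsPGroup p Q) :
    Q = ⊥ ∨ ∃ e, e ≠ 0 ∧ hh e e = 0 ∧ Q ≤ fixVec M e := by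
  have hf := isUnitaryForm hF (n := 3)
  -- fixed vectors of invariant subspaces
  have hfix : ∀ W : Submodule F (Fin 3 → F), W ≠ ⊥ →
      (∀ g ∈ Q, ∀ y ∈ W, (g : Matrix (Fin 3) (Fin 3) F) *ᵥ y ∈ W) →
      ∃ y ∈ W, y ≠ 0 ∧ ∀ g ∈ Q, (g : Matrix (Fin 3) (Fin 3) F) *ᵥ y = y := by
    intro W hW hinv
    letI : MulAction Q W :=
      { smul := fun g y => ⟨((g : GL (Fin 3) F) : Matrix (Fin 3) (Fin 3) F) *ᵥ (y : Fin 3 → F), hinv g g.2 y y.2⟩
        one_smul := fun y => Subtype.ext (Matrix.one_mulVec _)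
        mul_smul := fun g h y => Subtype.ext (mul_mulVec _ _ _) }
    have hdvd : p ∣ Nat.card W := by
      obtain ⟨p', a, hpc, hp', hqa⟩ := CfsgLib.Forms.exists_charP_pow hF
      obtain rfl : p' = p := CharP.eq F hpc (by assumption)
      rw [Module.natCard_eq_pow_finrank (K := F) (V := W), hF, hqa, ← pow_mul, ← pow_mul]
      refine dvd_pow_self p' (Nat.mul_ne_zero ?_ (Nat.mul_ne_zero two_ne_zero ?_))
      · rintro rfl
        have := CfsgLib.Forms.two_le_q hF
        rw [hqa, pow_zero] at this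
        omega
      · rwa [Ne, Submodule.finrank_eq_zero]
    obtain ⟨y, hy, hy0⟩ := hQ.exists_fixed_point_of_prime_dvd_card_of_fixed_point W hdvd (a := (0 : W))
      (fun g => Subtype.ext (Matrix.mulVec_zero ((g : GL (Fin 3) F) : Matrix (Fin 3) (Fin 3) F)))
    exact ⟨y, y.2, fun h => hy0 (Subtype.ext h.symm), fun g hg => congrArg Subtype.val (hy ⟨g, hg⟩)⟩
  obtain ⟨x, -, hx0, hx⟩ := hfix ⊤ top_ne_bot fun _ _ _ _ => Submodule.mem_top
  by_cases hxx : hh x x = 0
  · exact Or.inr ⟨x, hx0, hxx, fun g hg => ⟨hQM hg, hx g hg⟩⟩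
  let L : (Fin 3 → F) → (Fin 3 → F) →ₗ[F] F := fun v => (Unit.linLeft hf).toLin v
  have hL : ∀ v y, L v y = hh y v := fun v y => rfl
  obtain ⟨y, hy, hy0, hyfix⟩ := hfix (LinearMap.ker (L x)) (fun h => by
      obtain ⟨z, hz, hz'⟩ := exists_pole hF x x
      obtain ⟨e, f, hB⟩ := exists_frame_perp hF hxx
      have : e ∈ LinearMap.ker (L x) := by rw [LinearMap.mem_ker, hL]; exact hB.ew hF
      rw [h, Submodule.mem_bot] at this
      exact hB.e_ne hF this)
    fun g hg y hy => by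
      rw [LinearMap.mem_ker, hL] at hy ⊢
      rw [← hx g hg, herm_mulVec (hMI (hQM hg)), hy]
  rw [LinearMap.mem_ker, hL] at hy
  by_cases hyy : hh y y = 0
  · exact Or.inr ⟨y, hy0, hyy, fun g hg => ⟨hQM hg, hyfix g hg⟩⟩
  obtain ⟨w, hwx, hwy, hww⟩ := exists_pole hF x y
  rw [herm_swap0 hF hy, zero_mul, sub_zero] at hww
  have hwne : hh w w ≠ 0 := by rw [hww]; exact mul_ne_zero hxx hyy
  obtain ⟨z, hz, hz0, hzfix⟩ := hfix (LinearMap.ker (L x) ⊓ LinearMap.ker (L y)) (fun h => by
      have : w ∈ LinearMap.ker (L x) ⊓ LinearMap.ker (L y) := ⟨hwx, hwy⟩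
      rw [h, Submodule.mem_bot] at this
      exact hwne (by rw [this, zero_left hF]))
    fun g hg v hv => by
      obtain ⟨h1, h2⟩ := hv
      refine ⟨?_, ?_⟩
      · show hh _ x = 0
        rw [← hx g hg, herm_mulVec (hMI (hQM hg))]; exact h1
      · show hh _ y = 0
        rw [← hyfix g hg, herm_mulVec (hMI (hQM hg))]; exact h2
  have hzx : hh z x = 0 := hz.1
  have hzy : hh z y = 0 := hz.2
  by_cases hzz : hh z z = 0
  · exact Or.inr ⟨z, hz0, hzz, fun g hg => ⟨hQM hg, hzfix g hg⟩⟩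
  refine Or.inl (Subgroup.eq_bot_iff_forall _ |>.2 fun g hg => gl_ext_mulVec fun v => ?_)
  let R : (Fin 3 → F) →ₗ[F] (Fin 3 → F) := LinearMap.pi fun j => L (![x, y, z] j)
  have hsurj : Function.Surjective R := fun t =>
    ⟨(t 0 / hh x x) • x + (t 1 / hh y y) • y + (t 2 / hh z z) • z, funext fun j => by
      show hh _ (![x, y, z] j) = t j
      fin_cases j <;>
        simp [hf.add_left, hf.smul_left, hy, hzx, hzy, herm_swap0 hF hy, herm_swap0 hF hzx, herm_swap0 hF hzy,
          hxx, hyy, hzz]⟩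
  rw [Units.val_one, Matrix.one_mulVec]
  refine LinearMap.injective_iff_surjective.2 hsurj (funext fun j => ?_)
  show hh _ (![x, y, z] j) = hh v (![x, y, z] j)
  have key : ∀ r, (g : Matrix (Fin 3) (Fin 3) F) *ᵥ r = r →
      hh ((g : Matrix (Fin 3) (Fin 3) F) *ᵥ v) r = hh v r := fun r hr => by
    conv_lhs => rw [← hr]
    exact herm_mulVec (hMI (hQM hg)) v r
  fin_cases j
  exacts [key x (hx g hg), key y (hyfix g hg), key z (hzfix g hg)]

namespace Frame

variable {e f w : Fin 3 → F} (hB : Frame q e f w) (hMI : M ≤ suGL 3 F q)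
include hB hMI

/-- With at most one transvection and even characteristic there are at most four directions. -/
theorem dirs_le_four (h2 : (2 : F) = 0) (hA : Nat.card (tvParam hF M e) ≤ 2) :
    Nat.card (hB.dirs hF hMI) ≤ 4 := by
  classical
  have hsq := fun z (hz : z ∈ hB.dirs hF hMI) => hB.sq_mem_param hF hMI h2 hz
  -- all nonzero directions have the same norm
  have hnorm : ∀ a ∈ hB.dirs hF hMI, ∀ b ∈ hB.dirs hF hMI, a ≠ 0 → b ≠ 0 →
      a * frobEquiv hF a = b * frobEquiv hF b := by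
    intro a ha b hb ha0 hb0
    by_contra hne
    have hinj : Function.Injective
        (![0, ⟨_, hsq a ha⟩, ⟨_, hsq b hb⟩] : Fin 3 → tvParam hF M e) := by
      have h1 : hh w w * (a * frobEquiv hF a) ≠ 0 :=
        mul_ne_zero hB.ww (mul_ne_zero ha0 ((map_ne_zero _).2 ha0))
      have h2 : hh w w * (b * frobEquiv hF b) ≠ 0 :=
        mul_ne_zero hB.ww (mul_ne_zero hb0 ((map_ne_zero _).2 hb0))
      intro i j h
      have h' := congrArg Subtype.val h
      fin_cases i <;> fin_cases j <;> first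
        | rfl
        | (exfalso; simp [hne, Ne.symm hne, hB.ww, ha0, hb0] at h')
    have := Nat.card_le_card_of_injective _ hinj
    rw [Nat.card_fin] at this
    omega
  by_contra hlt
  obtain ⟨a, ha, ha0⟩ : ∃ a ∈ hB.dirs hF hMI, a ≠ 0 := by
    by_contra h
    push Not at h
    haveI : Subsingleton (hB.dirs hF hMI) := ⟨fun x y => Subtype.ext ((h _ x.2).trans (h _ y.2).symm)⟩
    have := Finite.card_le_one_iff_subsingleton.2 (inferInstance : Subsingleton (hB.dirs hF hMI))
    omega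
  have hout : ∀ S : Finset F, S.card ≤ 4 → ∃ b ∈ hB.dirs hF hMI, b ∉ S := fun S hS => by
    by_contra h
    push Not at h
    have h' := Nat.card_le_card_of_injective (fun b : hB.dirs hF hMI => (⟨(b : F), h _ b.2⟩ : S))
      fun x y e => Subtype.ext (congrArg (fun z : S => (z : F)) e)
    rw [Nat.card_eq_fintype_card (α := S), Fintype.card_coe] at h'
    omega
  obtain ⟨b, hb, hbS⟩ := hout {0, a} ((Finset.card_insert_le _ _).trans (by simp))
  simp only [Finset.mem_insert, Finset.mem_singleton, not_or] at hbS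
  obtain ⟨c, hc, hcS⟩ := hout {0, a, b, a + b} (by
    refine (Finset.card_insert_le _ _).trans ?_
    refine Nat.succ_le_succ ((Finset.card_insert_le _ _).trans ?_)
    exact Nat.succ_le_succ ((Finset.card_insert_le _ _).trans (by simp)))
  simp only [Finset.mem_insert, Finset.mem_singleton, not_or] at hcS
  obtain ⟨hc0, hca, hcb, hcab⟩ := hcS
  have hneg : ∀ z : F, -z = z := fun z => by linear_combination (-z) * h2
  have hne : ∀ {x y : F}, x ≠ y → x + y ≠ 0 := fun {x y} h e => h (by rw [← hneg y]; linear_combination e)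
  have hab := (hB.dirs hF hMI).add_mem ha hb
  have n1 := hnorm _ ha _ hb ha0 hbS.1
  have n2 := hnorm _ ha _ hc ha0 hc0
  have n3 := hnorm _ ha _ hab ha0 (hne (Ne.symm hbS.2))
  have n4 := hnorm _ ha _ ((hB.dirs hF hMI).add_mem ha hc) ha0 (hne (Ne.symm hca))
  have n5 := hnorm _ ha _ ((hB.dirs hF hMI).add_mem hb hc) ha0 (hne (Ne.symm hcb))
  have n6 := hnorm _ ha _ ((hB.dirs hF hMI).add_mem hab hc) ha0 (hne (Ne.symm hcab))
  simp only [map_add] at n3 n4 n5 n6
  refine mul_ne_zero ha0 ((map_ne_zero (frobEquiv hF)).2 ha0) ?_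
  linear_combination n6 - n3 - n4 - n5 + n1 + n2

end Frame

end CfsgLib.Geo.SU3
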