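/-
The normaliser of an adjoint closed field of degree three is maximal in SU of dimension three, order not 3 or 5.
-/
import Cfsg.Agent.Geo.SUThree.SingerFrob
import Cfsg.Agent.Geo.SUThree.SingerSylow

set_option autoImplicit false
set_option linter.unusedSectionVars false

namespace CfsgLib.Geo.SU3.Singer

open Matrix Cfsg Cfsg.Geo CfsgLib.Geo CfsgLib.Geo.UTv

variable {q : ℕ} {F : Type*} [Field F] [Finite F] (hF : Nat.card F = q ^ 2)
  {K : Subalgebra F (Matrix (Fin 3) (Fin 3) F)} (hK : IsFieldSubalgebra 3 K)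
  (hac : IsAdjointClosedFor (Cfsg.hermForm 3 F q) K) {M : Subgroup (GL (Fin 3) F)}
  (hM : subalgebraNormalizer K ⊓ suGL 3 F q ≤ M) (hMI : M ≤ suGL 3 F q)

local notation "hh" => Cfsg.hermForm 3 F q

include hF hK hac hM hMI

/-- The field elements move every point. -/
lemma exists_move (hq : 4 ≤ q) (hq5 : q ≠ 5) {x : Fin 3 → F} (hx : x ≠ 0) :
    ∃ g ∈ uC q K, g ∈ M ∧ (g : Matrix (Fin 3) (Fin 3) F) *ᵥ x ∉ F ∙ x := by
  obtain ⟨d, m, hN, hdm, hscal, -⟩ := exists_num hF hK hac
  by_contra h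
  push Not at h
  have hall : ∀ g ∈ uC q K, ∃ a : F, (g : Matrix (Fin 3) (Fin 3) F) = a • 1 := fun g hg => by
    obtain ⟨a, ha⟩ := Submodule.mem_span_singleton.1 (h g hg (hM ((normalizer_data hF hK hac).2.1 hg)))
    exact ⟨a, SL3.Singer.scalar_of_eigen hK hg.1.1 hx ha.symm⟩
  have he : Nat.card (uC q K) = d := by
    rw [← hscal]
    exact Nat.card_congr
      { toFun := fun g => ⟨g, g.2, hall g g.2⟩
        invFun := fun g => ⟨g.1, g.2.1⟩
        left_inv := fun g => rfl
        right_inv := fun g => rfl }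
  have := hN.le hq hq5
  rw [hdm] at he
  have : d * 2 ≤ d * m := Nat.mul_le_mul_left d (by omega)
  rcases hN.cases with ⟨h1, -⟩ | ⟨h1, -⟩ <;> omega

/-- Four transvection parameters give a full centre. -/
lemma exists_full (hq : 4 ≤ q) (hq5 : q ≠ 5) {e : Fin 3 → F} (he0 : e ≠ 0) (hee : hh e e = 0)
    (h4 : 4 ≤ Nat.card (tvParam hF M e)) : ∃ v, v ≠ 0 ∧ Full q M v := by
  have hf := isUnitaryForm hF (n := 3)
  obtain ⟨d, m, hN, -, -, horb⟩ := exists_num hF hK hac
  obtain ⟨p, a, hpc, hp, hqa⟩ := CfsgLib.Forms.exists_charP_pow hF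
  haveI := hpc
  haveI := Fact.mk hp
  have hCe : IsCentre hF M e := ⟨he0, hee, fun h => by
    rw [h, AddSubgroup.card_bot] at h4
    omega⟩
  by_cases hfull : q ≤ Nat.card (tvParam hF M e)
  · exact ⟨e, he0, full_of_card_param hF hee hfull⟩
  exfalso
  have hframe : ∀ {v}, IsCentre hF M v → v ∉ F ∙ e → ∃ (c : F) (w : Fin 3 → F), c ≠ 0 ∧ Frame q e (c • v) w ∧ IsCentre hF M (c • v) := by
    intro v hv hve
    obtain ⟨c, hc0, hc⟩ := exists_unit_pair hF (u := e) (v := v) fun h =>
      hve (mem_span_of_orth hF he0 hee hv.2.1 (herm_swap0 hF h))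
    have hcv := centre_smul hF hc0 hv
    obtain ⟨w, hw⟩ := exists_frame_of_pair hF hee hcv.2.1 hc
    exact ⟨c, w, hc0, hw, hcv⟩
  obtain ⟨g, -, hgM, hge⟩ := exists_move hF hK hac hM hMI hq hq5 he0
  obtain ⟨c, w, hc0, hB, hCf⟩ := hframe (centre_conj hF hMI hgM hCe) hge
  set f := c • (g : Matrix (Fin 3) (Fin 3) F) *ᵥ e
  have htor : ∀ v, IsCentre hF M v → v ∉ F ∙ e → ∃ t ∈ M, ∃ lam : F,
      (t : Matrix (Fin 3) (Fin 3) F) *ᵥ e = lam • e ∧ (t : Matrix (Fin 3) (Fin 3) F) *ᵥ v ∈ F ∙ v ∧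
        lam * frobEquiv hF lam ≠ 1 := by
    intro v hv hve
    obtain ⟨c', w', hc', hB', hCv⟩ := hframe hv hve
    obtain ⟨t, ht, lam, h1, h2, h3⟩ := hB'.exists_torus hF hMI hqa hCe hCv h4
    refine ⟨t, ht, lam, h1, ?_, h3⟩
    rw [Matrix.mulVec_smul, Submodule.span_singleton_smul_eq (IsUnit.mk0 _ hc')] at h2
    have := Submodule.smul_mem (F ∙ v) c'⁻¹ h2
    rwa [smul_smul, inv_mul_cancel₀ hc', one_smul] at this
  have hZ := hB.card_centres hF hMI hCe htor hCf
  -- the centres form orbits of the field elements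
  have hm : m ∣ Nat.card {P : SL3.Plane.Pt F | IsCentre hF M P.rep} := by
    refine SL3.Plane.dvd_card_of_orbits (uC q K) _ (fun c hc P hP => ?_) (fun P _ => horb P)
    obtain ⟨b, hb0, hb⟩ := SL3.Plane.exists_rep_smul c P
    show IsCentre hF M (c • P).rep
    have := centre_smul hF (inv_ne_zero hb0)
      (centre_conj hF hMI (hM ((normalizer_data hF hK hac).2.1 hc)) (show IsCentre hF M P.rep from hP))
    rwa [hb, smul_smul, inv_mul_cancel₀ hb0, one_smul] at this
  rw [hZ, hB.card_fixVec hF hMI] at hm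
  obtain ⟨i, hi⟩ : ∃ i, i ≤ 4 * a ∧ Nat.card (tvParam hF M e) * Nat.card (hB.dirs hF hMI) = p ^ i := by
    refine (Nat.dvd_prime_pow hp).1 ?_
    rw [show 4 * a = 2 * a + 2 * a by ring, pow_add, mul_comm 2 a, pow_mul, ← hqa, ← hF]
    exact Nat.mul_dvd_mul (AddSubgroup.card_addSubgroup_dvd_card _) (AddSubgroup.card_addSubgroup_dvd_card _)
  have hA : Nat.card (tvParam hF M e) + 1 ≤ q := by omega
  have hD := hB.card_dirs_le hF hMI
  have hlt : p ^ i < q ^ 3 := by
    rw [← hi.2]
    have h1 : max (Nat.card (tvParam hF M e) ^ 2) q ≤ q ^ 2 :=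
      max_le (Nat.pow_le_pow_left (by omega) 2) (Nat.le_self_pow two_ne_zero q)
    calc _ ≤ Nat.card (tvParam hF M e) * q ^ 2 := Nat.mul_le_mul_left _ (hD.trans h1)
      _ < q * q ^ 2 := Nat.mul_lt_mul_of_pos_right (by omega) (by positivity)
      _ = q ^ 3 := by ring
  rw [hqa, ← pow_mul] at hlt
  have hia : i < a * 3 := (Nat.pow_lt_pow_iff_right hp.one_lt).1 hlt
  have := exp_eq hp hqa hN hq hq5 (x := i) (by omega) (hi.2 ▸ hm)
  omega

/-- Without four parameters at a point the order of a subgroup fixing it divides a small bound. -/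
lemma card_fixVec_dvd (hq : 4 ≤ q) (hsmall : ∀ v, v ≠ 0 → hh v v = 0 → Nat.card (tvParam hF M v) < 4)
    {e : Fin 3 → F} (he0 : e ≠ 0) (hee : hh e e = 0) {p a : ℕ} [Fact p.Prime] [CharP F p] (hqa : q = p ^ a) :
    Nat.card (fixVec M e) ∣ (if q % 3 = 0 then 3 * q else if q = 4 then 8 else q) ∧
      (p = 2 → Nat.card (fixVec M e) = 8 → Nat.card (tvParam hF M e) = 2) := by
  have hp : p.Prime := Fact.out
  obtain ⟨f, w, hB⟩ := exists_frame hF he0 hee
  have hA := hsmall e he0 hee
  obtain ⟨i, -, hi⟩ : ∃ i, i ≤ 2 * a ∧ Nat.card (tvParam hF M e) = p ^ i := by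
    refine (Nat.dvd_prime_pow hp).1 ?_
    rw [mul_comm, pow_mul, ← hqa, ← hF]
    exact AddSubgroup.card_addSubgroup_dvd_card _
  obtain ⟨j, -, hj⟩ : ∃ j, j ≤ 2 * a ∧ Nat.card (hB.dirs hF hMI) = p ^ j := by
    refine (Nat.dvd_prime_pow hp).1 ?_
    rw [mul_comm, pow_mul, ← hqa, ← hF]
    exact AddSubgroup.card_addSubgroup_dvd_card _
  have ha : 1 ≤ a := Nat.one_le_iff_ne_zero.2 fun h => by rw [hqa, h, pow_zero] at hq; omega
  have hdvd : ∀ {r b : ℕ}, p ^ r ≤ p ^ b → p ^ r ∣ p ^ b := fun h =>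
    Nat.pow_dvd_pow p ((Nat.pow_le_pow_iff_right hp.one_lt).1 h)
  have hdl := hB.card_dirs_le hF hMI
  rw [hB.card_fixVec hF hMI, hi, hj]
  rw [hi] at hA hdl
  rw [hj] at hdl
  rcases eq_or_ne p 2 with rfl | hp2
  · have h4 := hB.dirs_le_four hF hMI (by exact_mod_cast CharP.cast_eq_zero F 2) (by
      rw [hi]
      rcases Nat.lt_or_ge i 2 with h | h
      · calc 2 ^ i ≤ 2 ^ 1 := Nat.pow_le_pow_right (by norm_num) (by omega)
          _ = 2 := by norm_num
      · exfalso; have : 2 ^ 2 ≤ 2 ^ i := Nat.pow_le_pow_right (by norm_num) h; omega)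
    rw [hj] at h4
    have hi1 : i ≤ 1 := by
      by_contra h
      have : 2 ^ 2 ≤ 2 ^ i := Nat.pow_le_pow_right (by norm_num) (by omega)
      omega
    have hj2 : j ≤ 2 := (Nat.pow_le_pow_iff_right (show 1 < 2 by norm_num)).1 (h4.trans_eq (by norm_num))
    refine ⟨?_, fun _ h8 => ?_⟩
    · have h3 : q % 3 ≠ 0 := fun h => by
        have := (Nat.prime_dvd_prime_iff_eq Nat.prime_three Nat.prime_two).1
          (Nat.prime_three.dvd_of_dvd_pow (hqa ▸ Nat.dvd_of_mod_eq_zero h))
        omega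
      rw [if_neg h3]
      have h8 : 2 ^ i * 2 ^ j ∣ 2 ^ 3 := by rw [← pow_add]; exact Nat.pow_dvd_pow 2 (by omega)
      split_ifs with h
      · exact h8
      · refine h8.trans ?_
        rw [hqa]
        refine Nat.pow_dvd_pow 2 ?_
        by_contra h'
        apply h
        rw [hqa, show a = 2 by
          interval_cases a
          · norm_num at hqa; omega
          · rfl]
        norm_num
    · rw [← pow_add, show 8 = 2 ^ 3 from rfl] at h8
      have := Nat.pow_right_injective le_rfl h8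
      rw [show i = 1 by omega, pow_one]
  refine ⟨?_, fun h => absurd h hp2⟩
  rcases eq_or_ne p 3 with rfl | hp3
  · have h0 : q % 3 = 0 := Nat.mod_eq_zero_of_dvd (hqa ▸ dvd_pow_self 3 (by omega))
    rw [if_pos h0, hqa, ← pow_succ']
    have ha2 : 2 ≤ a := by
      by_contra h
      obtain rfl : a = 1 := by omega
      norm_num at hqa
      omega
    have hi1 : i ≤ 1 := by
      by_contra h
      have : 3 ^ 2 ≤ 3 ^ i := Nat.pow_le_pow_right (by norm_num) (by omega)
      omega
    have hja : j ≤ a := by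
      refine (Nat.pow_le_pow_iff_right (show 1 < 3 by norm_num)).1 (hdl.trans (max_le ?_ hqa.le))
      rw [← pow_mul]
      exact Nat.pow_le_pow_right (by norm_num) (by omega)
    rw [← pow_add]
    exact Nat.pow_dvd_pow 3 (by omega)
  · have h5 : 5 ≤ p := by
      have h := hp.two_le
      have : p ≠ 4 := fun h4 => by rw [h4] at hp; norm_num at hp
      omega
    have hi0 : i = 0 := by
      by_contra h
      have : p ≤ p ^ i := Nat.le_self_pow h p
      omega
    subst hi0
    rw [pow_zero, one_pow, max_eq_right (by omega)] at hdl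
    rw [pow_zero, one_mul]
    have h3 : q % 3 ≠ 0 := fun h => hp3 ((Nat.prime_dvd_prime_iff_eq Nat.prime_three hp).1
      (Nat.prime_three.dvd_of_dvd_pow (hqa ▸ Nat.dvd_of_mod_eq_zero h))).symm
    have h4 : q ≠ 4 := fun h => hp2 ((Nat.prime_dvd_prime_iff_eq hp Nat.prime_two).1
      (hp.dvd_of_dvd_pow (show p ∣ 2 ^ 2 from (show q = 2 ^ 2 by rw [h]; norm_num) ▸ hqa ▸ dvd_pow_self p (by omega))))
    rw [if_neg h3, if_neg h4]
    rw [hqa] at hdl ⊢
    exact hdvd hdl

/-- The index forty for four elements is impossible. -/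
lemma false_of_forty {e : Fin 3 → F} (hq : q = 4) (he0 : e ≠ 0) (hee : hh e e = 0)
    (hcard : Nat.card M = 1560) (hfix : Nat.card (fixVec M e) = 8) (hA : Nat.card (tvParam hF M e) = 2) : False := by
  classical
  have hf := isUnitaryForm hF (n := 3)
  obtain ⟨f, w, hB⟩ := exists_frame hF he0 hee
  set P := Projectivization.mk F e he0 with hP
  obtain ⟨b, hb0, hbe⟩ := SL3.Plane.exists_smul_of_mk he0 hP.symm
  have hmem : ∀ {g : GL (Fin 3) F}, g • P = P ↔ ∃ l : F, (g : Matrix (Fin 3) (Fin 3) F) *ᵥ e = l • e := fun {g} => by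
    rw [SL3.Plane.smul_eq_self_iff, hbe]
    refine exists_congr fun l => ?_
    rw [Matrix.mulVec_smul, smul_comm l b]
    exact (smul_right_injective _ hb0).eq_iff.symm
  let S : Subgroup (GL (Fin 3) F) := M ⊓ MulAction.stabilizer (GL (Fin 3) F) P
  have hex : ∀ g : S, ∃ l : Fˣ, ((g : GL (Fin 3) F) : Matrix (Fin 3) (Fin 3) F) *ᵥ e = (l : F) • e := fun g => by
    obtain ⟨l, hl⟩ := hmem.1 g.2.2
    exact ⟨Units.mk0 l fun h => SL3.Plane.mulVec_ne_zero' (g : GL (Fin 3) F) he0 (by rw [hl, h, zero_smul]), hl⟩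
  choose lam hlam using hex
  let φ : S →* Fˣ := MonoidHom.mk' lam fun g h => Units.ext (smul_left_injective F he0 (by
    show (lam (g * h) : F) • e = ((lam g : F) * (lam h : F)) • e
    rw [← hlam (g * h), Subgroup.coe_mul, mul_mulVec, hlam h, Matrix.mulVec_smul, hlam g, smul_smul, mul_comm]))
  have hker : Nat.card φ.ker = 8 := by
    rw [← hfix]
    exact Nat.card_congr
      { toFun := fun g => ⟨((g : S) : GL (Fin 3) F), (g : S).2.1, by
          rw [hlam g.1, show lam g.1 = 1 from g.2, Units.val_one, one_smul]⟩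
        invFun := fun g => ⟨⟨(g : GL (Fin 3) F), g.2.1, hmem.2 ⟨1, by rw [one_smul]; exact g.2.2⟩⟩,
          Units.ext (smul_left_injective F he0 ((hlam _).symm.trans (g.2.2.trans (one_smul F e).symm)))⟩
        left_inv := fun g => rfl
        right_inv := fun g => rfl }
  obtain ⟨c, hc, hc0⟩ : ∃ c ∈ tvParam hF M e, c ≠ 0 := by
    by_contra h
    push Not at h
    rw [show tvParam hF M e = ⊥ from (AddSubgroup.eq_bot_iff_forall _).2 h, AddSubgroup.card_bot] at hA
    omega
  have hrange : φ.range ≤ (powMonoidHom 5 : Fˣ →* Fˣ).ker := by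
    rintro _ ⟨g, rfl⟩
    show (lam g) ^ 5 = 1
    have h1 : c ∈ tvParam hF M (((g : GL (Fin 3) F) : Matrix (Fin 3) (Fin 3) F) *ᵥ e) := by
      rw [param_conj hF hMI g.2.1]; exact hc
    rw [hlam, mem_param_smul hF (lam g).ne_zero] at h1
    by_contra hne
    have hinj : Function.Injective (![0, ⟨c, hc⟩, ⟨_, h1⟩] : Fin 3 → tvParam hF M e) := by
      have hn : (lam g : F) * frobEquiv hF (lam g : F) ≠ 1 := fun h => hne (Units.ext (by
        rw [Units.val_pow_eq_pow_val, Units.val_one, ← h, frobEquiv_apply hF, hq]; ring))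
      intro i j h
      have h' := congrArg Subtype.val h
      have hl : (lam g : F) * frobEquiv hF (lam g : F) ≠ 0 :=
        mul_ne_zero (lam g).ne_zero ((map_ne_zero _).2 (lam g).ne_zero)
      fin_cases i <;> fin_cases j <;> first
        | rfl
        | (exfalso; simp [hc0, Ne.symm hc0, hl, hn] at h')
    have := Nat.card_le_card_of_injective _ hinj
    rw [Nat.card_fin, hA] at this
    omega
  have h5 : Nat.card φ.range ∣ 5 := by
    refine (Subgroup.card_dvd_of_le hrange).trans ?_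
    rw [IsCyclic.card_powMonoidHom_ker]
    exact Nat.gcd_dvd_right _ _
  have hS : Nat.card S = 8 * Nat.card φ.range := by
    rw [← hker, ← Subgroup.index_ker, Subgroup.card_mul_index]
  have horb : Nat.card (MulAction.orbit M P) * Nat.card S = 1560 := by
    rw [← hcard]
    have h1 := SL3.Singer.orbit_mul_card (G := GL (Fin 3) F) M P (p := fun g => g • P = P) (fun g _ => Iff.rfl)
    exact h1
  -- the elements fixing `e` act semiregularly on the rest of the orbit
  have hdvd : 8 ∣ Nat.card ((MulAction.orbit M P \ {P} : Set (SL3.Plane.Pt F))) := by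
    refine SL3.Plane.dvd_card_of_orbits (fixVec M e) _ (fun g hg Q hQ => ⟨?_, ?_⟩) (fun Q hQ => ?_)
    · obtain ⟨k, hk⟩ := hQ.1
      exact ⟨⟨g, hg.1⟩ * k, by show (g * (k : GL (Fin 3) F)) • P = g • Q; rw [mul_smul]; exact congrArg _ hk⟩
    · intro h
      refine hQ.2 ?_
      have hgP : g • P = P := hmem.2 ⟨1, by rw [one_smul]; exact hg.2⟩
      exact smul_left_cancel g (h.trans hgP.symm)
    · obtain ⟨⟨k, hk⟩, hkQ⟩ := hQ.1
      obtain ⟨b', hb', hb'e⟩ := SL3.Plane.exists_rep_smul k P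
      rw [show k • P = Q from hkQ] at hb'e
      have hQiso : hh Q.rep Q.rep = 0 := by
        have h1 : hh ((k : Matrix (Fin 3) (Fin 3) F) *ᵥ P.rep) ((k : Matrix (Fin 3) (Fin 3) F) *ᵥ P.rep) = 0 := by
          rw [herm_mulVec (hMI hk)]
          have h2 := hee
          rw [hbe, hf.smul_left, Unit.smul_right hf] at h2
          simpa [hb0, map_ne_zero] using h2
        rw [hb'e, hf.smul_left, Unit.smul_right hf] at h1
        simpa [hb', map_ne_zero] using h1
      have hQe : Q.rep ∉ F ∙ e := fun h => hQ.2 (by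
        obtain ⟨l, hl⟩ := Submodule.mem_span_singleton.1 h
        rw [Set.mem_singleton_iff, hP, ← Q.mk_rep]
        exact (Projectivization.mk_eq_mk_iff' F _ _ _ _).2 ⟨l, hl⟩)
      have h1 := SL3.Singer.orbit_mul_card (fixVec M e) Q (p := fun g => g = 1) (fun g hg => ⟨fun h => by
        obtain ⟨l, hl⟩ := (SL3.Plane.smul_eq_self_iff g Q).1 h
        exact hB.semiregular hF hMI hg hQiso hQe (Submodule.mem_span_singleton.2 ⟨l, hl.symm⟩),
        fun h => by rw [h, one_smul]⟩)
      rw [hfix] at h1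
      haveI : Subsingleton {g : GL (Fin 3) F // g ∈ fixVec M e ∧ g = 1} :=
        ⟨fun x y => Subtype.ext (x.2.2.trans y.2.2.symm)⟩
      haveI : Nonempty {g : GL (Fin 3) F // g ∈ fixVec M e ∧ g = 1} := ⟨⟨1, (fixVec M e).one_mem, rfl⟩⟩
      rw [show Nat.card {g : GL (Fin 3) F // g ∈ fixVec M e ∧ g = 1} = 1 from Nat.card_unique, mul_one] at h1
      exact h1
  rw [Nat.card_coe_set_eq, Set.ncard_sdiff_singleton_of_mem (MulAction.mem_orbit_self P),
    ← Nat.card_coe_set_eq] at hdvd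
  rcases (Nat.dvd_prime (by norm_num : Nat.Prime 5)).1 h5 with h | h <;> rw [h] at hS <;> rw [hS] at horb <;> omega

set_option maxHeartbeats 1000000 in
/-- The overgroups. -/
theorem key (hq : 4 ≤ q) (hq5 : q ≠ 5) (hMX : ¬ M ≤ subalgebraNormalizer K) : suGL 3 F q ≤ M := by
  classical
  by_cases h4 : ∃ v, v ≠ 0 ∧ hh v v = 0 ∧ 4 ≤ Nat.card (tvParam hF M v)
  · obtain ⟨e, he0, hee, h⟩ := h4
    obtain ⟨v, hv0, hv⟩ := exists_full hF hK hac hM hMI hq hq5 he0 hee h
    exact suGL_le_of_full_of_irred hF (by omega) hMI hv hv0 fun x hx => by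
      obtain ⟨g, -, hg, h'⟩ := exists_move hF hK hac hM hMI hq hq5 hx
      exact ⟨g, hg, h'⟩
  exfalso
  push Not at h4
  obtain ⟨d, m, hN, hdm, hscal, horb⟩ := exists_num hF hK hac
  obtain ⟨hXcard, hCX, hcube⟩ := normalizer_data hF hK hac
  set X : Subgroup (GL (Fin 3) F) := subalgebraNormalizer K ⊓ suGL 3 F q with hXdef
  have hCM : uC q K ≤ M := hCX.trans hM
  set X' : Subgroup M := X.subgroupOf M
  set k := Nat.card (M ⧸ X') with hkdef
  have hMcard : Nat.card M = 3 * (d * m) * k := by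
    rw [Subgroup.card_eq_card_quotient_mul_card_subgroup X', ← hkdef,
      Nat.card_congr (Subgroup.subgroupOfEquivOfLe hM).toEquiv, hXcard, hdm, mul_comm]
  have hk2 : 2 ≤ k := by
    by_contra hlt
    haveI : Subsingleton (M ⧸ X') := Finite.card_le_one_iff_subsingleton.1 (by omega)
    refine hMX fun g hg => ?_
    have h1 : ((⟨g, hg⟩ : M) : M ⧸ X') = ((1 : M) : M ⧸ X') := Subsingleton.elim _ _
    rw [QuotientGroup.eq, mul_one] at h1
    have h2 : g⁻¹ ∈ X := h1
    simpa using (subalgebraNormalizer K).inv_mem h2.1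
  have hkm : m ∣ k - 1 := by
    set base : M ⧸ X' := ((1 : M) : M ⧸ X')
    have hS : Nat.card {x : M ⧸ X' | x ≠ base} = k - 1 := by
      rw [Nat.card_coe_set_eq, show {x : M ⧸ X' | x ≠ base} = {base}ᶜ from rfl, Set.ncard_compl,
        Set.ncard_singleton]
    rw [← hS]
    set H : Subgroup M := (uC q K).subgroupOf M
    have hbase : ∀ h ∈ H, h • base = base := fun h hh' => by
      show ((h * 1 : M) : M ⧸ X') = _
      rw [mul_one, QuotientGroup.eq, mul_one]
      exact X.inv_mem (hCX hh')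
    refine SL3.Plane.dvd_card_of_orbits H _ (fun h hh' x hx e => hx ?_) fun x hx => ?_
    · rw [← inv_smul_smul h x, e, hbase _ (H.inv_mem hh')]
    have h1 := SL3.Singer.orbit_mul_card H x
      (p := fun g : M => ∃ a : F, ((g : GL (Fin 3) F) : Matrix (Fin 3) (Fin 3) F) = a • 1) fun c hc => ?_
    · have h2 : Nat.card {g : M // g ∈ H ∧ ∃ a : F, ((g : GL (Fin 3) F) : Matrix (Fin 3) (Fin 3) F) = a • 1} = d := by
        rw [← hscal]
        exact Nat.card_congr
          { toFun := fun g => ⟨g.1.1, g.2.1, g.2.2⟩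
            invFun := fun g => ⟨⟨g.1, hCM g.2.1⟩, g.2.1, g.2.2⟩
            left_inv := fun g => rfl
            right_inv := fun g => rfl }
      rw [h2, Nat.card_congr (Subgroup.subgroupOfEquivOfLe hCM).toEquiv, hdm, mul_comm d] at h1
      exact Nat.eq_of_mul_eq_mul_right (by rcases hN.cases with ⟨h, -⟩ | ⟨h, -⟩ <;> omega) h1
    · induction x using QuotientGroup.induction_on with
      | _ g =>
        show ((c * g : M) : M ⧸ X') = (g : M ⧸ X') ↔ _
        rw [eq_comm, QuotientGroup.eq]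
        constructor
        · intro h
          have h3 := hcube _ (show (g : GL (Fin 3) F)⁻¹ * (c * g) ∈ X from h)
          have h4 : ((g : GL (Fin 3) F)⁻¹ * ((c : GL (Fin 3) F) * g)) ^ 3 =
              (g : GL (Fin 3) F)⁻¹ * (c : GL (Fin 3) F) ^ 3 * g := by
            simp only [pow_succ, pow_zero, one_mul, mul_assoc, mul_inv_cancel_left]
          rw [h4] at h3
          by_contra hns
          push Not at hns
          have hg : (g : GL (Fin 3) F) ∈ subalgebraNormalizer K := by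
            refine SL3.Singer.mem_normalizer_of_conj hK
              (c := (((c : GL (Fin 3) F) ^ 3 : GL (Fin 3) F) : Matrix _ _ F)) ((uC q K).pow_mem hc 3).1.1
              (fun a ha => ?_) h3.1.1
            obtain ⟨b, hb⟩ := scalar_of_cube hF hK hac hc ha
            exact hns b hb
          refine hx ?_
          show ((g : M) : M ⧸ X') = base
          rw [QuotientGroup.eq, mul_one]
          exact X.inv_mem ⟨hg, hMI g.2⟩
        · rintro ⟨a, ha⟩
          have hcomm : (g : GL (Fin 3) F)⁻¹ * ((c : GL (Fin 3) F) * g) = c := by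
            have : (c : GL (Fin 3) F) * g = g * c := Units.ext (by
              rw [Units.val_mul, Units.val_mul, ha, Matrix.smul_mul, Matrix.mul_smul, one_mul, mul_one])
            rw [this, inv_mul_cancel_left]
          show (g : GL (Fin 3) F)⁻¹ * (c * g) ∈ X
          rw [hcomm]
          exact hCX hc
  -- the order divides a small bound times the prime to `p` part
  obtain ⟨p, a, hpc, hp, hqa⟩ := CfsgLib.Forms.exists_charP_pow hF
  haveI := hpc
  haveI := Fact.mk hp
  have hdm' : (d * m : ℕ) + q = q ^ 2 + 1 := hN.eq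
  set R := (q + 1) ^ 2 * (q - 1) * (d * m) with hR
  have hI : Nat.card (suGL 3 F q) = q ^ 3 * R := by
    have h := card_suGL_three hF
    rw [← hdm'] at h
    have e : q ^ 3 * (q + 1) ^ 2 * (q - 1) * (d * m + q) = q ^ 3 * R + q ^ 3 * (q + 1) ^ 2 * (q - 1) * q := by
      rw [hR]; ring
    omega
  let Q : Sylow p M := default
  obtain ⟨s, hs⟩ := IsPGroup.iff_card.1 Q.2
  set B := if q % 3 = 0 then 3 * q else if q = 4 then 8 else q
  obtain ⟨hB, hB8⟩ : p ^ s ∣ B ∧ (q = 4 → p ^ s = 8 →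
      ∃ e, e ≠ 0 ∧ hh e e = 0 ∧ Nat.card (fixVec M e) = 8 ∧ Nat.card (tvParam hF M e) = 2) := by
    have hQcard : Nat.card ((Q : Subgroup M).map M.subtype) = p ^ s := by
      rw [Subgroup.card_map_of_injective Subtype.val_injective, ← hs]
    rcases exists_pgroup_fixVec hF hMI (Q := (Q : Subgroup M).map M.subtype)
      (by rintro _ ⟨g, -, rfl⟩; exact g.2) (Q.2.map _) with h | ⟨e, he0, hee, hle⟩
    · rw [h, Subgroup.card_bot] at hQcard
      exact ⟨hQcard ▸ one_dvd _, fun _ h8 => by omega⟩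
    · obtain ⟨h1, h2⟩ := card_fixVec_dvd hF hK hac hM hMI hq h4 he0 hee hqa
      have h3 := Subgroup.card_dvd_of_le hle
      rw [hQcard] at h3
      refine ⟨h3.trans h1, fun hq4 h8 => ?_⟩
      have hf8 : Nat.card (fixVec M e) = 8 := by
        rw [if_neg (by omega : ¬ q % 3 = 0), if_pos hq4] at h1
        exact Nat.dvd_antisymm h1 (h8 ▸ h3)
      have hp2 : p = 2 := (Nat.prime_dvd_prime_iff_eq hp Nat.prime_two).1
        (hp.dvd_of_dvd_pow (show p ∣ 2 ^ 3 from (show p ^ s = 2 ^ 3 from h8) ▸ dvd_pow_self p (by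
          rintro rfl; simp at h8)))
      exact ⟨e, he0, hee, hf8, h2 hp2 hf8⟩
  have hdiv : 3 * k ∣ B * ((q + 1) ^ 2 * (q - 1)) := by
    have hidx : p.Coprime (Q : Subgroup M).index := hp.coprime_iff_not_dvd.2 Q.not_dvd_index
    have hcardM : p ^ s * (Q : Subgroup M).index = Nat.card M := by rw [← hs, Subgroup.card_mul_index]
    have h1 : (Q : Subgroup M).index ∣ R := by
      refine Nat.Coprime.dvd_of_dvd_mul_left (m := q ^ 3) ?_ ?_
      · rw [hqa]
        exact ((hidx.pow_left a).pow_left 3).symm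
      · rw [← hI]
        exact (Dvd.intro_left _ hcardM).trans (Subgroup.card_dvd_of_le hMI)
    have h2 : Nat.card M ∣ B * R := hcardM ▸ Nat.mul_dvd_mul hB h1
    rw [hMcard, hR, show 3 * (d * m) * k = 3 * k * (d * m) by ring, ← mul_assoc B] at h2
    exact Nat.dvd_of_mul_dvd_mul_right (by have := hN.le hq hq5; rcases hN.cases with ⟨rfl, -⟩ | ⟨rfl, -⟩ <;> omega) h2
  by_cases h3 : q % 3 = 0
  · rw [show B = 3 * q from if_pos h3] at hdiv
    refine noIndex_three hN (by
      by_contra h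
      interval_cases q <;> norm_num at h3
      · have h2 : 2 ∣ p ^ a := ⟨3, by omega⟩
        have h3' : 3 ∣ p ^ a := ⟨2, by omega⟩
        have e2 := (Nat.prime_dvd_prime_iff_eq Nat.prime_two hp).1 (Nat.prime_two.dvd_of_dvd_pow h2)
        have e3 := (Nat.prime_dvd_prime_iff_eq Nat.prime_three hp).1 (Nat.prime_three.dvd_of_dvd_pow h3')
        omega) h3 hkm hk2 (by convert hdiv using 1; ring)
  by_cases hq4 : q = 4
  · rw [show B = 8 from (if_neg h3).trans (if_pos hq4)] at hdiv hB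
    subst hq4
    have hd1 : d = 1 := by rcases hN.cases with ⟨h, -⟩ | ⟨-, h⟩ <;> omega
    have hm13 : m = 13 := by rw [hd1] at hdm'; omega
    have hk40 := index_four (k := k) (hm13 ▸ hkm) hk2 (by simpa using hdiv)
    rw [hd1, hm13, hk40] at hMcard
    obtain rfl : p = 2 := (Nat.prime_dvd_prime_iff_eq hp Nat.prime_two).1
      (hp.dvd_of_dvd_pow (show p ∣ 2 ^ 2 from (show p ^ a = 2 ^ 2 from hqa.symm) ▸ dvd_pow_self p (by
        rintro rfl; norm_num at hqa)))
    have hs3 : 2 ^ s = 8 := by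
      refine Nat.dvd_antisymm hB ?_
      refine (Nat.Coprime.dvd_of_dvd_mul_right (k := 8) (n := (Q : Subgroup M).index) ?_ ?_)
      · exact ((Nat.prime_two.coprime_iff_not_dvd.2 Q.not_dvd_index).pow_left 3)
      · rw [← hs, Subgroup.card_mul_index, hMcard]; norm_num
    obtain ⟨e, he0, hee, h1, h2⟩ := hB8 rfl hs3
    exact false_of_forty hF hK hac hM hMI rfl he0 hee hMcard h1 h2
  rw [show B = q from (if_neg h3).trans (if_neg hq4)] at hdiv
  refine noIndex hN (by
    by_contra h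
    interval_cases q <;> first
      | omega
      | (exfalso
         have h2 : 2 ∣ p ^ a := ⟨3, by omega⟩
         have h3' : 3 ∣ p ^ a := ⟨2, by omega⟩
         have e2 := (Nat.prime_dvd_prime_iff_eq Nat.prime_two hp).1 (Nat.prime_two.dvd_of_dvd_pow h2)
         have e3 := (Nat.prime_dvd_prime_iff_eq Nat.prime_three hp).1 (Nat.prime_three.dvd_of_dvd_pow h3')
         omega)) hkm hk2 (by rwa [mul_assoc])

omit hM hMI in
/-- The normaliser is proper. -/
theorem proper (hq : 2 ≤ q) : ¬ suGL 3 F q ≤ subalgebraNormalizer K := by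
  intro hle
  obtain ⟨hX, -, -⟩ := normalizer_data hF hK hac
  rw [inf_eq_right.2 hle] at hX
  obtain ⟨hC, -⟩ := uC_data hF hK hac
  have h := card_suGL_three hF
  rw [hX, ← hC] at h
  have h8 : 8 ≤ q ^ 3 * (q + 1) ^ 2 * (q - 1) := by
    have : 2 ^ 3 * 1 * 1 ≤ q ^ 3 * (q + 1) ^ 2 * (q - 1) :=
      Nat.mul_le_mul (Nat.mul_le_mul (Nat.pow_le_pow_left hq 3) (Nat.one_le_pow _ _ (by omega))) (by omega)
    simpa using this
  have hpos : 0 < Nat.card (uC q K) := Nat.card_pos
  have := Nat.mul_le_mul_right (Nat.card (uC q K)) h8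
  rw [mul_add] at h
  omega

omit hM hMI in
/-- The normaliser of the field is maximal. -/
theorem field_maximal (hq : 3 ≤ q) (hq3 : q ≠ 3) (hq5 : q ≠ 5) :
    IsMaximalIn (suGL 3 F q) (subalgebraNormalizer K ⊓ suGL 3 F q) :=
  isMaximalIn_of_key (proper hF hK hac (by omega)) fun _ hM hMI hMX => key hF hK hac hM hMI (by omega) hq5 hMX

end CfsgLib.Geo.SU3.Singer
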