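/-
Overgroups of a subfield group of odd index in SU of dimension three, subfield with at least four real elements.
-/
import Cfsg.Agent.Geo.SUThree.SubfieldBase
import Cfsg.Agent.Geo.SUThree.Orbit

set_option autoImplicit false
set_option linter.unusedSectionVars false

namespace CfsgLib.Geo.SU3

open Matrix Cfsg Cfsg.Geo CfsgLib.Geo CfsgLib.Geo.UTv
open scoped Classical

variable {q : ℕ} {F : Type*} [Field F] [Finite F] (hF : Nat.card F = q ^ 2) {F₀ : Subfield F}
  {P : GL (Fin 3) F} (hS : UnitSub 3 q F F₀ P) {M : Subgroup (GL (Fin 3) F)}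
  (hM : subfieldSubgroup F₀ P ⊓ suGL 3 F q ≤ M) (hMI : M ≤ suGL 3 F q)

local notation "hh" => Cfsg.hermForm 3 F q

include hF hS hM

/-- Rational transvection parameters. -/
lemma rat_mem_param {v : Fin 3 → F} (hv : InRS F₀ P v) (hvv : hh v v = 0) {c : F} (hc0 : c ∈ F₀)
    (hc : c + c ^ q = 0) : c ∈ tvParam hF M v :=
  (tv_mem_iff hF hvv hc).1 (hM (rat_utv_mem0 hF hS hv hvv hc0 hc))

/-- A rational isotropic vector is a centre. -/
lemma rat_centre {v : Fin 3 → F} (hv : InRS F₀ P v) (hvv : hh v v = 0) (hv0 : v ≠ 0) : IsCentre hF M v := by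
  obtain ⟨δ, hδF, hδ0, hδ⟩ := exists_skew0 hF hS
  refine ⟨hv0, hvv, fun h => hδ0 ?_⟩
  have h1 := rat_mem_param hF hS hM hv hvv hδF hδ
  rwa [h, AddSubgroup.mem_bot] at h1

/-- No point is fixed. -/
lemma irred_of_subfield : ∀ x : Fin 3 → F, x ≠ 0 → ∃ g ∈ M, (g : Matrix (Fin 3) (Fin 3) F) *ᵥ x ∉ F ∙ x := by
  have hf := isUnitaryForm hF (n := 3)
  obtain ⟨δ, hδF, hδ0, hδ⟩ := exists_skew0 hF hS
  obtain ⟨e, f, w, hB⟩ := exists_rat_frame hF hS
  intro x hx
  by_contra hcon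
  push Not at hcon
  have key : ∀ a b : Fin 3 → F, InRS F₀ P a → hh a a = 0 → hh a b = 1 → hh b b = 0 → InRS F₀ P b →
      hh x a = 0 := by
    intro a b ha haa hab hbb hb
    by_contra h0
    have ha0 : a ≠ 0 := fun e => by rw [e, zero_left hF] at hab; exact zero_ne_one hab
    have h1 := tv_fix hF haa hδ0 hx ?_ (utv_mulVec hF haa δ) (hcon _ (hM (rat_utv_mem0 hF hS ha haa hδF hδ))) ha0
    · obtain ⟨l, hl⟩ := Submodule.mem_span_singleton.1 h1
      apply h0
      rw [← hl, hf.smul_left, haa, mul_zero]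
    · -- the point is isotropic
      have h2 := hcon _ (hM (rat_utv_mem0 hF hS ha haa hδF hδ))
      rw [utv_mulVec hF haa] at h2
      have h3 : (δ * hh x a) • a ∈ F ∙ x := by simpa using (F ∙ x).sub_mem h2 (Submodule.mem_span_singleton_self x)
      obtain ⟨l, hl⟩ := Submodule.mem_span_singleton.1 h3
      have hl0 : l ≠ 0 := fun h => by
        rw [h, zero_smul] at hl
        exact smul_ne_zero (mul_ne_zero hδ0 h0) ha0 hl.symm
      have h4 := congrArg (fun y => hh y y) hl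
      simp only [hf.smul_left, Unit.smul_right hf, haa, mul_zero] at h4
      exact (mul_eq_zero.1 ((mul_eq_zero.1 h4).resolve_left hl0)).resolve_left ((map_ne_zero _).2 hl0)
  have hxe := key e f hB.e_mem hB.ee hB.ef hB.ff hB.f_mem
  have hxf := key f e hB.f_mem hB.ff (hB.toFrame.fe hF) hB.ee hB.e_mem
  have hxw := hB.toFrame.decomp hF x
  rw [hxe, hxf, zero_smul, zero_smul, zero_add, zero_add] at hxw
  set γ := hh x w / hh w w
  obtain ⟨s, hs0, hs⟩ := exists_trace0 hF hS hB.w_mem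
  obtain ⟨A, hA, hE⟩ := rat_eich_mem hF hS hB.e_mem hB.w_mem hB.ee hB.we hs0 hs
  obtain ⟨l, hl⟩ := Submodule.mem_span_singleton.1 (hcon A (hM hA))
  rw [hxw, Matrix.mulVec_smul, hE w, hB.we] at hl
  have h1 := congrArg (fun y => hh y f) hl
  simp only [sub_eq_add_neg, hf.add_left, hf.smul_left, hB.wf, hB.ef, mul_zero, zero_smul, zero_left hF,
    add_zero, zero_add, mul_one, zero_mul] at h1
  have hγ : γ ≠ 0 := fun h => hx (by rw [hxw, h, zero_smul])
  exact mul_ne_zero hγ (neg_ne_zero.2 hB.ww) h1.symm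

omit hM in
/-- Eichler elements give every rational direction. -/
lemma rat_dirs {e f w : Fin 3 → F} (hB : RatFrame q F₀ P e f w) (hM : subfieldSubgroup F₀ P ⊓ suGL 3 F q ≤ M)
    (hMI : M ≤ suGL 3 F q) {z : F} (hz : z ∈ F₀) : z ∈ hB.toFrame.dirs hF hMI := by
  have hf := isUnitaryForm hF (n := 3)
  obtain ⟨s, hs0, hs⟩ := exists_trace0 hF hS (hB.w_mem.smul hz)
  have hxe : hh (z • w) e = 0 := by rw [hf.smul_left, hB.we, mul_zero]
  obtain ⟨A, hA, hE⟩ := rat_eich_mem hF hS hB.e_mem (hB.w_mem.smul hz) hB.ee hxe hs0 hs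
  refine (hB.toFrame.mem_dirs hF hMI).2 ⟨A, ⟨hM hA, ?_⟩, ?_⟩
  · rw [hE e, hB.ee, herm_swap0 hF hxe]
    simp
  · rw [hE f, hB.toFrame.fe hF, one_smul]
    simp only [hf.add_left, hf.smul_left, hB.ew hF, hB.fw hF, mul_zero, add_zero, zero_add]
    rw [mul_div_cancel_right₀ _ hB.ww]

variable {q0 r : ℕ} (hr : r.Prime) (hcard : Nat.card F = Nat.card F₀ ^ r) (h0 : Nat.card F₀ = q0 ^ 2)
  (hq0 : 2 ≤ q0) (hσ : ∀ x ∈ F₀, x ^ q = x ^ q0)
include hMI hr hcard h0 hq0 hσ

/-- Without the whole group the parameters at a rational centre are rational. -/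
theorem param_rat (hq : 3 ≤ q) (hnot : ¬ suGL 3 F q ≤ M) {e f w : Fin 3 → F} (hB : RatFrame q F₀ P e f w) {c : F}
    (hc : c ∈ tvParam hF M e) : c ∈ F₀ := by
  have hf := isUnitaryForm hF (n := 3)
  obtain ⟨p, a, hpc, hp, hqa⟩ := CfsgLib.Forms.exists_charP_pow hF
  haveI := Fact.mk hp
  obtain ⟨δ, hδF, hδ0, hδ⟩ := exists_skew0 hF hS
  have hδ' : frobEquiv hF δ = -δ := by rw [frobEquiv_apply]; linear_combination hδ
  by_contra hcF
  have hreal : ∀ s ∈ F₀, frobEquiv hF s = s → s * δ ∈ tvParam hF M e := fun s hs hsf =>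
    rat_mem_param hF hS hM hB.e_mem hB.ee (F₀.mul_mem hs hδF) (by
      rw [← frobEquiv_apply hF, map_mul, hsf, hδ']; ring)
  have h4 : 4 ≤ Nat.card (tvParam hF M e) := by
    have h1 : Nat.card (Fin 2 × {x : F // x ∈ F₀ ∧ x + x ^ q = 0}) ≤ Nat.card (tvParam hF M e) := by
      refine Nat.card_le_card_of_injective (fun t => (⟨(if t.1 = 0 then 0 else c) + t.2.1, ?_⟩ : tvParam hF M e))
        fun x y hxy => ?_
      · refine (tvParam hF M e).add_mem ?_ (rat_mem_param hF hS hM hB.e_mem hB.ee t.2.2.1 t.2.2.2)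
        split
        · exact (tvParam hF M e).zero_mem
        · exact hc
      · obtain ⟨i, s, hs⟩ := x
        obtain ⟨j, t, ht⟩ := y
        simp only [Subtype.mk.injEq] at hxy
        fin_cases i <;> fin_cases j <;> simp at hxy
        · simp [hxy]
        · exact absurd (by rw [show c = s - t by linear_combination -hxy]; exact F₀.sub_mem hs.1 ht.1) hcF
        · exact absurd (by rw [show c = t - s by linear_combination hxy]; exact F₀.sub_mem ht.1 hs.1) hcF
        · simp [hxy]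
    rw [Nat.card_prod, Nat.card_fin, (card_real_skew hF h0 hσ).2] at h1
    omega
  obtain ⟨-, K, hKfix, hKrat, hKfull⟩ := hB.toFrame.exists_torus_field hF hMI hqa
    (rat_centre hF hS hM hB.e_mem hB.ee (hB.toFrame.e_ne hF)) (rat_centre hF hS hM hB.f_mem hB.ff (hB.toFrame.f_ne hF)) h4
  have hδA := rat_mem_param hF hS hM hB.e_mem hB.ee hδF hδ
  have hk0 : ∀ s ∈ F₀, frobEquiv hF s = s → s ∈ K := fun s hs hsf => by
    have := hKrat _ (hreal s hs hsf) _ hδA
    rwa [mul_div_cancel_right₀ _ hδ0] at this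
  set x0 := c / δ
  have hx0K : x0 ∈ K := hKrat _ hc _ hδA
  have hx0 : x0 ∉ F₀ := fun h => hcF (by
    have := F₀.mul_mem h hδF
    rwa [div_mul_cancel₀ _ hδ0] at this)
  obtain ⟨β, hβ, hne⟩ := hS.moves
  have hne' : β - frobEquiv hF β ≠ 0 := sub_ne_zero.2 (by rw [frobEquiv_apply hF]; exact Ne.symm hne)
  have hσβ : frobEquiv hF β ∈ F₀ := by rw [frobEquiv_apply hF]; exact pow_mem hβ q
  set tr := β + frobEquiv hF β
  set nm := β * frobEquiv hF β
  have htr : tr ∈ K := hk0 _ (F₀.add_mem hβ hσβ) (by simp only [tr, map_add, hf.involutive]; ring)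
  have hnm : nm ∈ K := hk0 _ (F₀.mul_mem hβ hσβ) (by simp only [nm, map_mul, hf.involutive]; ring)
  let S : Set F := {z | ∃ a ∈ K, ∃ b ∈ K, z = a + b * β}
  have hS0 : ∀ z ∈ F₀, z ∈ S := fun z hz => by
    have hσz : frobEquiv hF z ∈ F₀ := by rw [frobEquiv_apply hF]; exact pow_mem hz q
    set y := (z - frobEquiv hF z) / (β - frobEquiv hF β)
    have hy : y ∈ F₀ := F₀.div_mem (F₀.sub_mem hz hσz) (F₀.sub_mem hβ hσβ)
    have hyf : frobEquiv hF y = y := by
      simp only [y, map_div₀, map_sub, hf.involutive]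
      rw [← neg_sub, ← neg_sub β, neg_div_neg_eq]
    refine ⟨z - y * β, hk0 _ (F₀.sub_mem hz (F₀.mul_mem hy hβ)) ?_, y, hk0 _ hy hyf, by ring⟩
    rw [map_sub, map_mul, hyf]
    have : y * (β - frobEquiv hF β) = z - frobEquiv hF z := div_mul_cancel₀ _ hne'
    linear_combination this
  have huniv := SpTv.eq_univ_of_subring hr hcard (S := S) hS0
    (by rintro _ ⟨a, ha, b, hb, rfl⟩ _ ⟨a', ha', b', hb', rfl⟩
        exact ⟨a + a', K.add_mem ha ha', b + b', K.add_mem hb hb', by ring⟩)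
    (by rintro _ ⟨a, ha, b, hb, rfl⟩ _ ⟨a', ha', b', hb', rfl⟩
        refine ⟨a * a' - b * b' * nm, K.sub_mem (K.mul_mem ha ha') (K.mul_mem (K.mul_mem hb hb') hnm),
          a * b' + b * a' + b * b' * tr, K.add_mem (K.add_mem (K.mul_mem ha hb') (K.mul_mem hb ha'))
            (K.mul_mem (K.mul_mem hb hb') htr), ?_⟩
        simp only [tr, nm]
        ring)
    (c := x0) ⟨x0, hx0K, 0, K.zero_mem, by ring⟩ hx0
  let φ : K × K → F := fun z => (z.1 : F) + (z.2 : F) * β
  have hsurj : Function.Surjective φ := fun z => by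
    obtain ⟨a, ha, b, hb, e⟩ := huniv z
    exact ⟨(⟨a, ha⟩, ⟨b, hb⟩), e.symm⟩
  have h1 := Nat.card_le_card_of_surjective φ hsurj
  rw [Nat.card_prod, hF, pow_two] at h1
  obtain ⟨v, hv0, hv⟩ := hKfull (Nat.mul_self_le_mul_self_iff.1 h1)
  exact hnot (suGL_le_of_full_of_irred hF hq hMI hv hv0 (irred_of_subfield hF hS hM))

/-- The order of the group fixing a rational isotropic vector. -/
theorem card_fix_rat (hq : 3 ≤ q) (hnot : ¬ suGL 3 F q ≤ M) {e f w : Fin 3 → F} (hB : RatFrame q F₀ P e f w) :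
    Nat.card (fixVec M e) = q0 ^ 3 := by
  have hf := isUnitaryForm hF (n := 3)
  have hA : Nat.card (tvParam hF M e) = q0 := by
    refine Eq.trans (Nat.card_congr (Equiv.subtypeEquivRight fun c => ?_)) (card_real_skew hF h0 hσ).2
    exact ⟨fun h => ⟨param_rat hF hS hM hMI hr hcard h0 hq0 hσ hq hnot hB h, h.1⟩,
      fun h => rat_mem_param hF hS hM hB.e_mem hB.ee h.1 h.2⟩
  have hD : Nat.card (hB.toFrame.dirs hF hMI) = Nat.card F₀ := by
    refine Nat.card_congr (Equiv.subtypeEquivRight fun z => ⟨fun hz => ?_, rat_dirs hF hS hB hM hMI⟩)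
    have hww := herm_mem hS hB.w_mem hB.w_mem
    have key : ∀ b ∈ F₀, z * frobEquiv hF b - b * frobEquiv hF z ∈ F₀ := fun b hb => by
      have h1 := param_rat hF hS hM hMI hr hcard h0 hq0 hσ hq hnot hB
        (hB.toFrame.comm_mem_param hF hMI hz (rat_dirs hF hS hB hM hMI hb))
      have h2 := F₀.div_mem h1 hww
      rwa [mul_div_cancel_left₀ _ hB.ww] at h2
    obtain ⟨β, hβ, hne⟩ := hS.moves
    have hne' : frobEquiv hF β - β ≠ 0 := sub_ne_zero.2 (by rwa [frobEquiv_apply hF])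
    have h1 := key 1 F₀.one_mem
    rw [map_one, mul_one, one_mul] at h1
    have h2 := F₀.div_mem (F₀.sub_mem (key β hβ) (F₀.mul_mem hβ h1))
      (F₀.sub_mem (show frobEquiv hF β ∈ F₀ by rw [frobEquiv_apply hF]; exact pow_mem hβ q) hβ)
    rwa [show z * frobEquiv hF β - β * frobEquiv hF z - β * (z - frobEquiv hF z) = z * (frobEquiv hF β - β) by ring,
      mul_div_cancel_right₀ _ hne'] at h2
  rw [hB.toFrame.card_fixVec hF hMI, hA, hD, h0]
  ring

/-- The overgroups when the subfield has at least four real elements. -/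
theorem subfield_key_large (hq : 3 ≤ q) (hq4 : 4 ≤ q0) (hqr : q = q0 ^ r)
    (hMX : ¬ M ≤ subfieldSubgroup F₀ P) : suGL 3 F q ≤ M := by
  by_contra hnot
  obtain ⟨p, a, hpc, hp, hqa⟩ := CfsgLib.Forms.exists_charP_pow hF
  haveI := Fact.mk hp
  obtain ⟨e, f, w, hB⟩ := exists_rat_frame hF hS
  -- the group fixing `e` is rational
  set X := subfieldSubgroup F₀ P ⊓ suGL 3 F q with hX
  have hfix : fixVec M e = fixVec X e := by
    refine (Subgroup.eq_of_le_of_card_ge (H := fixVec X e) (K := fixVec M e) (fun g hg => ⟨hM hg.1, hg.2⟩) (le_of_eq ?_)).symm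
    rw [card_fix_rat hF hS hM hMI hr hcard h0 hq0 hσ hq hnot hB, card_fix_rat hF hS (M := X) le_rfl inf_le_right hr
      hcard h0 hq0 hσ hq (fun h => subfield_proper hF hS hr.two_le hq0 h0 hqr hσ (h.trans inf_le_left)) hB]
  have he := rat_centre hF hS hM hB.e_mem hB.ee (hB.toFrame.e_ne hF)
  have h4 : 4 ≤ Nat.card (tvParam hF M e) := by
    refine le_trans hq4 ((card_real_skew hF h0 hσ).2.symm.le.trans ?_)
    exact Nat.card_le_card_of_injective
      (fun x : {x : F // x ∈ F₀ ∧ x + x ^ q = 0} =>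
        (⟨x.1, rat_mem_param hF hS hM hB.e_mem hB.ee x.2.1 x.2.2⟩ : tvParam hF M e))
      fun x y h => Subtype.ext (congrArg (fun z : tvParam hF M e => (z : F)) h)
  have htor : ∀ v, IsCentre hF M v → v ∉ F ∙ e → ∃ g ∈ M, ∃ lam : F,
      (g : Matrix (Fin 3) (Fin 3) F) *ᵥ e = lam • e ∧ (g : Matrix (Fin 3) (Fin 3) F) *ᵥ v ∈ F ∙ v ∧
      lam * frobEquiv hF lam ≠ 1 := by
    intro v hv hve
    obtain ⟨hne, x, z, heq, hx⟩ := hB.toFrame.normal_form hF hv.2.1 hve
    set f' := x • e + f + z • w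
    have hef : hh e f' = 1 := by
      have h1 := hB.toFrame.coord_e hF x 1 z
      rw [one_smul F f] at h1
      rw [(isUnitaryForm hF).herm, h1, map_one]
    obtain ⟨w', hB'⟩ := exists_frame_of_pair hF hB.ee (by rw [hB.toFrame.unit_iso hF, hx]) hef
    have hfv : f' = (hh v e)⁻¹ • v :=
      ((inv_smul_eq_iff₀ hne).2 heq).symm
    have hf' : IsCentre hF M f' := hfv ▸ centre_smul hF (inv_ne_zero hne) hv
    obtain ⟨g, hg, lam, hlam, hgf, hN⟩ := hB'.exists_torus hF hMI hqa he hf' h4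
    refine ⟨g, hg, lam, hlam, ?_, hN⟩
    obtain ⟨k, hk⟩ := Submodule.mem_span_singleton.1 hgf
    rw [heq, Matrix.mulVec_smul, ← hk]
    exact Submodule.mem_span_singleton.2 ⟨k, by rw [smul_comm]⟩
  -- all centres are rational
  have hrat : ∀ v, IsCentre hF M v → IsPt F₀ P v := by
    intro v hv
    by_cases hve : v ∈ F ∙ e
    · obtain ⟨c, hc⟩ := Submodule.mem_span_singleton.1 hve
      exact ⟨c, e, hB.e_mem, hc.symm⟩
    · obtain ⟨u, hu, huv⟩ := hB.toFrame.orbit_centres hF hMI htor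
        (rat_centre hF hS hM hB.f_mem hB.ff (hB.toFrame.f_ne hF)) v hv hve
      rw [hfix] at hu
      have hr' := inRS_mulVec_of_fix hF hS hB hu.1.1 hu.2 hB.f_mem
      obtain ⟨c, hc⟩ := Submodule.mem_span_singleton.1 huv
      have hc0 : c ≠ 0 := fun h => by
        rw [h, zero_smul] at hc
        exact SL3.Plane.mulVec_ne_zero' u (hB.toFrame.f_ne hF) hc.symm
      exact ⟨c⁻¹, _, hr', by rw [← hc, smul_smul, inv_mul_cancel₀ hc0, one_smul]⟩
  refine hMX fun g hg => mem_of_iso_points hF hS (hMI hg) fun x hx hxx hx0 => hrat _ ?_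
  exact centre_conj hF hMI hg (rat_centre hF hS hM hx hxx hx0)

end CfsgLib.Geo.SU3
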