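/-
Overgroups of a subfield group of odd index in SU of dimension three, subfield with three real elements.
-/
import Cfsg.Agent.Geo.SUThree.SubfieldAniso
import Cfsg.Agent.Geo.SUThree.SubfieldLarge
import Cfsg.Agent.Geo.SUThree.FrameThree

set_option autoImplicit false
set_option linter.unusedSectionVars false

namespace CfsgLib.Geo.SU3

open Matrix Cfsg Cfsg.Geo CfsgLib.Geo CfsgLib.Geo.UTv
open scoped Classical

variable {q : ℕ} {F : Type*} [Field F] [Finite F] (hF : Nat.card F = q ^ 2) {F₀ : Subfield F}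
  {P : GL (Fin 3) F} (hS : UnitSub 3 q F F₀ P) {M : Subgroup (GL (Fin 3) F)}
  (hM : subfieldSubgroup F₀ P ⊓ suGL 3 F q ≤ M) (hMI : M ≤ suGL 3 F q)

local notation "hh" => Cfsg.hermForm 3 F q

include hF hS

/-- A rational anisotropic vector has a rational unit multiple. -/
lemma exists_unit_multiple {x : Fin 3 → F} (hx : InRS F₀ P x) (hxx : hh x x ≠ 0) :
    ∃ c ∈ F₀, c ≠ 0 ∧ hh (c • x) (c • x) = 1 := by
  have hf := isUnitaryForm hF (n := 3)
  have hf0 := isUnitaryForm0 hF hS
  obtain ⟨s, hs⟩ := Unit.exists_norm_eq hf0.ne_refl hf0.involutive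
    (t := ⟨(hh x x)⁻¹, F₀.inv_mem (herm_mem hS hx hx)⟩)
    (Subtype.ext (by rw [sig0_apply hF]; simp only [map_inv₀, Unit.sigma_self hf]))
  have hs' : (s : F) * frobEquiv hF (s : F) = (hh x x)⁻¹ := by
    have := congrArg Subtype.val hs
    rw [Subfield.coe_mul, sig0_apply hF] at this
    exact this
  refine ⟨s, s.2, fun h => inv_ne_zero hxx (by rw [← hs', h, zero_mul]), ?_⟩
  rw [hf.smul_left, Unit.smul_right hf, ← mul_assoc, hs', inv_mul_cancel₀ hxx]

/-- A rational orthonormal basis. -/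
lemma exists_rat_onb (h2 : (2 : F) ≠ 0) : ∃ u : Fin 3 → (Fin 3 → F), (∀ i, InRS F₀ P (u i)) ∧
    (∀ i j, hh (u i) (u j) = if i = j then 1 else 0) ∧
    ∀ x, x = hh x (u 0) • u 0 + hh x (u 1) • u 1 + hh x (u 2) • u 2 := by
  have hf := isUnitaryForm hF (n := 3)
  obtain ⟨e, f, w, hB⟩ := exists_rat_frame hF hS
  set a := e + f with ha
  set b := e - f with hb
  have hfe := hB.toFrame.fe hF
  have haa : hh a a = 2 := by
    simp only [ha, hf.add_left, Unit.add_right hf, hB.ee, hB.ff, hB.ef, hfe]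
    ring
  have hbb : hh b b = -2 := by
    simp only [hb, sub_eq_add_neg, ← neg_one_smul F f, hf.add_left, Unit.add_right hf, hf.smul_left,
      Unit.smul_right hf, hB.ee, hB.ff, hB.ef, hfe, map_neg, map_one]
    ring
  have hab : hh a b = 0 := by
    simp only [ha, hb, sub_eq_add_neg, ← neg_one_smul F f, hf.add_left, Unit.add_right hf,
      Unit.smul_right hf, hB.ee, hB.ff, hB.ef, hfe, map_neg, map_one]
    ring
  have haw : hh a w = 0 := by rw [ha, hf.add_left, hB.toFrame.ew hF, hB.toFrame.fw hF, add_zero]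
  have hbw : hh b w = 0 := by
    rw [hb, sub_eq_add_neg, ← neg_one_smul F f, hf.add_left, hf.smul_left, hB.toFrame.ew hF, hB.toFrame.fw hF,
      mul_zero, add_zero]
  have har : InRS F₀ P a := hB.e_mem.add hB.f_mem
  have hbr : InRS F₀ P b := hB.e_mem.sub hB.f_mem
  obtain ⟨ca, hca, hca0, hua⟩ := exists_unit_multiple hF hS har (by rw [haa]; exact h2)
  obtain ⟨cb, hcb, hcb0, hub⟩ := exists_unit_multiple hF hS hbr (by rw [hbb]; exact neg_ne_zero.2 h2)
  obtain ⟨cw, hcw, hcw0, huw⟩ := exists_unit_multiple hF hS hB.w_mem hB.ww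
  have hba := herm_swap0 hF hab
  have hwa := herm_swap0 hF haw
  have hwb := herm_swap0 hF hbw
  refine ⟨![ca • a, cb • b, cw • w], fun i => ?_, fun i j => ?_, fun x => ?_⟩
  · fin_cases i
    · exact har.smul hca
    · exact hbr.smul hcb
    · exact hB.w_mem.smul hcw
  · fin_cases i <;> fin_cases j <;>
      first
      | exact hua
      | exact hub
      | exact huw
      | simp [hf.smul_left, Unit.smul_right hf, hab, hba, haw, hwa, hbw, hwb]
  · have hNa : ca * frobEquiv hF ca * 2 = 1 := by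
      rw [← haa, mul_assoc, ← Unit.smul_right hf, ← hf.smul_left]; exact hua
    have hNb : cb * frobEquiv hF cb * -2 = 1 := by
      rw [← hbb, mul_assoc, ← Unit.smul_right hf, ← hf.smul_left]; exact hub
    have hNw : cw * frobEquiv hF cw * hh w w = 1 := by
      rw [mul_assoc, ← Unit.smul_right hf, ← hf.smul_left]; exact huw
    simp only [Matrix.cons_val_zero, Matrix.cons_val_one, Matrix.cons_val, Unit.smul_right hf, smul_smul]
    have hxa : hh x a = hh x e + hh x f := Unit.add_right hf x e f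
    have hxb : hh x b = hh x e - hh x f := by
      rw [hb, sub_eq_add_neg, ← neg_one_smul F f, Unit.add_right hf, Unit.smul_right hf, map_neg, map_one]; ring
    refine (hB.toFrame.decomp hF x).trans ?_
    rw [hxa, hxb, ha, hb]
    match_scalars
    · linear_combination (hh x e + hh x f) * (-1 / 2 : F) * hNa + (hh x e - hh x f) * (1 / 2 : F) * hNb +
        (-(hh x f) + (hh x e + hh x f) * (ca * frobEquiv hF ca) + (hh x e - hh x f) * (cb * frobEquiv hF cb)) *
          inv_mul_cancel₀ h2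
    · linear_combination (hh x e + hh x f) * (-1 / 2 : F) * hNa - (hh x e - hh x f) * (1 / 2 : F) * hNb +
        (-(hh x e) + (hh x e + hh x f) * (ca * frobEquiv hF ca) - (hh x e - hh x f) * (cb * frobEquiv hF cb)) *
          inv_mul_cancel₀ h2
    · field_simp [hB.ww]
      linear_combination -(hh x w) * hNw

include hM hMI

/-- The overgroups when the subfield has nine elements. -/
theorem subfield_key_three {r : ℕ} (hr : r.Prime) (h0 : Nat.card F₀ = 3 ^ 2) (hqr : q = 3 ^ r)
    (hσ : ∀ x ∈ F₀, x ^ q = x ^ 3) (hMX : ¬ M ≤ subfieldSubgroup F₀ P) : suGL 3 F q ≤ M := by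
  have hf := isUnitaryForm hF (n := 3)
  by_contra hnot
  have hq : 3 ≤ q := hqr ▸ Nat.le_self_pow hr.ne_zero 3
  obtain ⟨p, a, hpc, hp, hqa⟩ := CfsgLib.Forms.exists_charP_pow hF
  haveI := Fact.mk hp
  have hp3 : p = 3 := by
    have h : 3 ∣ p ^ a := by rw [← hqa, hqr]; exact dvd_pow_self 3 hr.ne_zero
    exact ((Nat.prime_dvd_prime_iff_eq Nat.prime_three hp).1 (Nat.prime_three.dvd_of_dvd_pow h)).symm
  subst hp3
  have h3 : (3 : F) = 0 := by exact_mod_cast CharP.cast_eq_zero F 3
  have h2 : (2 : F) ≠ 0 := fun h => one_ne_zero (by linear_combination h3 - h : (1 : F) = 0)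
  -- the scalar of order four
  obtain ⟨t0, ht0p, ht0o⟩ := exists_phase_gen (F := F₀) h0
  set t : F := (t0 : F)
  have htF : t ∈ F₀ := t0.2
  have htp : t * t ^ q = 1 := by
    rw [hσ t htF]
    exact congrArg Subtype.val (ht0p : t0 * t0 ^ 3 = 1)
  have hto : orderOf t = 4 := by
    rw [show orderOf t = orderOf t0 from orderOf_injective F₀.subtype.toMonoidHom Subtype.val_injective t0, ht0o]
  have hto3 : orderOf (t ^ 3) = 4 := by rw [orderOf_pow' t (by norm_num : (3 : ℕ) ≠ 0), hto]; norm_num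
  have ht0 : t ≠ 0 := fun h => by rw [h, zero_mul] at htp; exact zero_ne_one htp
  have hexp : ∀ q0 m : ℕ, 2 ≤ m → q0 ^ m = q → q0 = 3 := by
    intro q0 m hm hqm
    rw [hqr] at hqm
    have hd : q0 ∣ 3 ^ r := hqm ▸ dvd_pow_self q0 (by omega)
    obtain ⟨j, -, rfl⟩ := (Nat.dvd_prime_pow Nat.prime_three).1 hd
    rw [← pow_mul] at hqm
    have hjm : j * m = r := Nat.pow_right_injective (by norm_num) hqm
    rcases (Nat.dvd_prime hr).1 (Dvd.intro j (by rw [mul_comm]; exact hjm) : m ∣ r) with h | h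
    · omega
    · subst h
      have hj : j = 1 := (Nat.mul_eq_right hr.ne_zero).1 hjm
      rw [hj, pow_one]
  -- inner products of rational units and their images
  have key : ∀ g ∈ M, ∀ u u' : Fin 3 → F, InRS F₀ P u → InRS F₀ P u' → hh u u = 1 → hh u' u' = 1 →
      hh ((g : Matrix (Fin 3) (Fin 3) F) *ᵥ u') u * hh u ((g : Matrix (Fin 3) (Fin 3) F) *ᵥ u') ∈ F₀ := by
    intro g hg u u' hu hu' huu hu'u
    set v := (g : Matrix (Fin 3) (Fin 3) F) *ᵥ u' with hv
    by_contra hN
    have hv0 : hh v u ≠ 0 := fun h => hN (by rw [h, zero_mul]; exact F₀.zero_mem)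
    have hv1 : hh v u * hh u v ≠ 1 := fun h => hN (by rw [h]; exact F₀.one_mem)
    have hv2 : 2 * (hh v u * hh u v) ≠ 1 := fun h => hN (by
      rw [show hh v u * hh u v = -1 by linear_combination (hh v u * hh u v) * h3 - h]
      exact F₀.neg_mem F₀.one_mem)
    obtain ⟨x, hxs, hx⟩ := exists_homology hF huu htp
    obtain ⟨y, hys, hy⟩ := exists_homology hF hu'u htp
    have hy' : IsHom q (g * y * g⁻¹) v t := fun z => by
      rw [mul_mulVec, mul_mulVec, hy, Matrix.mulVec_add, Matrix.mulVec_smul, Matrix.mulVec_smul, Matrix.mulVec_smul,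
        mulVec_inv_mulVec]
      congr 3
      rw [hv, ← herm_mulVec (hMI hg), mulVec_inv_mulVec]
    have hsub : ∀ q0 m : ℕ, 2 ≤ m → q0 ^ m = q → 3 ≤ q0 → q0 + 1 < orderOf (t ^ 3) ∨
        (q0 = 3 ∧ orderOf (t ^ 3) = 4 ∧ 2 * (hh v u * hh u v) ≠ 1) :=
      fun q0 m hm hqm _ => Or.inr ⟨hexp q0 m hm hqm, hto3, hv2⟩
    obtain ⟨z, hz0, hz⟩ := full_of_homologies hF huu (by rw [hv, herm_mulVec (hMI hg), hu'u]) hqa hMI hv0 hv1 ht0
      (hM ⟨hom_rat hF hS hu htF hx, hxs⟩)
      (M.mul_mem (M.mul_mem hg (hM ⟨hom_rat hF hS hu' htF hy, hys⟩)) (M.inv_mem hg)) hx hy' (by omega)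
      (Or.inr (Or.inr (Or.inl ⟨rfl, hto3⟩))) hsub
    exact hnot (suGL_le_of_full_of_irred hF hq hMI hz hz0 (irred_of_subfield hF hS hM))
  obtain ⟨u, hur, huu, hdec⟩ := exists_rat_onb hF hS h2
  have hnot4 : t ^ 2 = -1 := by
    have h4 : t ^ 4 = 1 := hto ▸ pow_orderOf_eq_one t
    have h : (t ^ 2 - 1) * (t ^ 2 + 1) = 0 := by linear_combination h4
    rcases mul_eq_zero.1 h with h | h
    · have := Nat.le_of_dvd two_pos (orderOf_dvd_of_pow_eq_one (sub_eq_zero.1 h))
      omega
    · linear_combination h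
  have hσt : frobEquiv hF t = -t := by
    rw [frobEquiv_apply]
    refine mul_left_cancel₀ ht0 ?_
    linear_combination htp + hnot4
  obtain ⟨a0, ha0⟩ : ∃ a ∈ F₀, a * frobEquiv hF a = 2 := by
    have hf0 := isUnitaryForm0 hF hS
    obtain ⟨s, hs⟩ := Unit.exists_norm_eq hf0.ne_refl hf0.involutive (t := (2 : F₀)) (map_ofNat _ 2)
    have := congrArg Subtype.val hs
    rw [Subfield.coe_mul, sig0_apply hF] at this
    exact ⟨s, s.2, this⟩
  refine hMX fun g hg => mem_of_aniso_points hF hS (hMI hg) fun x hx hxx => ?_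
  obtain ⟨k, hk, hk0, hkx⟩ := exists_unit_multiple hF hS hx hxx
  set c := (g : Matrix (Fin 3) (Fin 3) F) *ᵥ (k • x)
  set co : Fin 3 → F := fun i => hh c (u i)
  have hN : ∀ i, co i * frobEquiv hF (co i) ∈ F₀ := fun i => by
    have := key g hg (u i) (k • x) (hur i) (hx.smul hk) (by rw [huu, if_pos rfl]) hkx
    rwa [hf.herm (u i)] at this
  have hD : ∀ i j, co i * frobEquiv hF (co j) ∈ F₀ := by
    intro i j
    rcases eq_or_ne i j with rfl | hij
    · exact hN i
    set D := co i * frobEquiv hF (co j)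
    have hcross : ∀ η ∈ F₀, η * frobEquiv hF η = 1 → η * D + frobEquiv hF (η * D) ∈ F₀ := by
      intro η hη hηN
      set w := a0 • u i + (a0 * η) • u j with hw
      have hww : hh w w = 1 := by
        simp only [hw, hf.add_left, Unit.add_right hf, hf.smul_left, Unit.smul_right hf, huu, if_pos, if_neg hij,
          if_neg (Ne.symm hij), map_mul]
        linear_combination (1 + η * frobEquiv hF η) * ha0.2 + 2 * hηN + h3
      have h1 := key g hg w (k • x) (((hur i).smul ha0.1).add ((hur j).smul (F₀.mul_mem ha0.1 hη))) (hx.smul hk) hww hkx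
      rw [hf.herm w, hw, Unit.add_right hf, Unit.smul_right hf, Unit.smul_right hf] at h1
      have h2' := F₀.sub_mem (F₀.sub_mem h1 (F₀.mul_mem (F₀.mul_mem ha0.1
        (show frobEquiv hF a0 ∈ F₀ by rw [frobEquiv_apply hF]; exact pow_mem ha0.1 q)) (hN i)))
        (F₀.mul_mem (F₀.mul_mem ha0.1 (show frobEquiv hF a0 ∈ F₀ by rw [frobEquiv_apply hF]; exact pow_mem ha0.1 q)) (hN j))
      have h4 := F₀.div_mem h2' (show (2 : F) ∈ F₀ from ofNat_mem F₀ 2)
      convert h4 using 1
      rw [eq_div_iff h2]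
      simp only [D, map_mul, map_add, hf.involutive]
      show _ = _
      linear_combination (-(co j * frobEquiv hF (co i) * frobEquiv hF η) - η * (co i * frobEquiv hF (co j))) * ha0.2 -
        (a0 * frobEquiv hF a0 * (co j * frobEquiv hF (co j))) * hηN
    have p1 := hcross 1 F₀.one_mem (by rw [map_one, one_mul])
    have p2 := hcross t htF (by rw [hσt]; linear_combination -hnot4)
    rw [one_mul] at p1
    rw [map_mul, hσt] at p2
    have p3 := F₀.div_mem (F₀.add_mem p1 (F₀.div_mem p2 htF)) (show (2 : F) ∈ F₀ from ofNat_mem F₀ 2)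
    convert p3 using 1
    field_simp
    ring
  obtain ⟨i, hi⟩ : ∃ i, co i ≠ 0 := by
    by_contra h
    push Not at h
    have hc := hdec c
    rw [show hh c (u 0) = 0 from h 0, show hh c (u 1) = 0 from h 1, show hh c (u 2) = 0 from h 2] at hc
    have h1 := congrArg (fun y => hh y c) hc
    simp only [zero_smul, add_zero, zero_left hF, c, herm_mulVec (hMI hg), hkx] at h1
    exact one_ne_zero h1
  have hσi : frobEquiv hF (co i) ≠ 0 := (map_ne_zero _).2 hi
  refine ⟨k⁻¹ * (frobEquiv hF (co i))⁻¹, frobEquiv hF (co i) • c, ?_, ?_⟩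
  · conv => arg 3; rw [hdec c]
    rw [smul_add, smul_add, smul_smul, smul_smul, smul_smul]
    exact (((hur 0).smul (by rw [mul_comm]; exact hD 0 i)).add ((hur 1).smul (by rw [mul_comm]; exact hD 1 i))).add
      ((hur 2).smul (by rw [mul_comm]; exact hD 2 i))
  · simp only [c, Matrix.mulVec_smul, smul_smul]
    rw [show k⁻¹ * (frobEquiv hF (co i))⁻¹ * (frobEquiv hF (co i) * k) = 1 by field_simp, one_smul]

end CfsgLib.Geo.SU3
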