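/-
Overgroups of a subfield group of odd index in SU of dimension three, subfield with two real elements: the
transvections are isolated involutions.
-/
import Cfsg.Agent.Geo.SUThree.SubfieldThree
import Cfsg.Agent.Invol.IsolatedApps

set_option autoImplicit false
set_option linter.unusedSectionVars false

namespace CfsgLib.Geo.SU3

open Matrix Cfsg Cfsg.Geo CfsgLib.Geo CfsgLib.Geo.UTv
open scoped Classical

variable {q : ℕ} {F : Type*} [Field F] [Finite F] (hF : Nat.card F = q ^ 2) {F₀ : Subfield F}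
  {P : GL (Fin 3) F} (hS : UnitSub 3 q F F₀ P) {M : Subgroup (GL (Fin 3) F)}
  (hM : subfieldSubgroup F₀ P ⊓ suGL 3 F q ≤ M) (hMI : M ≤ suGL 3 F q)

local notation "hh" => Cfsg.hermForm 3 F q

include hF hS

/-- A rational anisotropic vector is the pole of a rational frame. -/
lemma exists_frame_of_aniso {x : Fin 3 → F} (hx : InRS F₀ P x) (hxx : hh x x ≠ 0) :
    ∃ e f, RatFrame q F₀ P e f x := by
  have hf := isUnitaryForm hF (n := 3)
  obtain ⟨r1, hr1, hr11, hr1x⟩ := exists_rs_aniso hF hS (k := 1) ![x] (fun j => by fin_cases j; exact hx)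
    (by norm_num)
  have hr1x' : hh r1 x = 0 := hr1x 0
  obtain ⟨z, hzx, hzr, hzz⟩ := exists_pole hF x r1
  have hzn : hh z z ≠ 0 := by
    rw [hzz, hr1x', mul_zero, sub_zero]
    exact mul_ne_zero hxx hr11
  obtain ⟨i, hi⟩ : ∃ i, hh z ((P : Matrix (Fin 3) (Fin 3) F) *ᵥ Pi.single i 1) ≠ 0 := by
    by_contra h
    push Not at h
    exact hzn (by rw [exists_cols_ne hS h hF, zero_left hF])
  set y := (P : Matrix (Fin 3) (Fin 3) F) *ᵥ Pi.single i 1
  set r2 := y + (-(hh y x / hh x x)) • x + (-(hh y r1 / hh r1 r1)) • r1 with hr2def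
  have hy : InRS F₀ P y := inRS_col i
  have hr2 : InRS F₀ P r2 :=
    (hy.add (hx.smul (F₀.neg_mem (F₀.div_mem (herm_mem hS hy hx) (herm_mem hS hx hx))))).add
      (hr1.smul (F₀.neg_mem (F₀.div_mem (herm_mem hS hy hr1) (herm_mem hS hr1 hr1))))
  have hr2x : hh r2 x = 0 := by
    simp only [hr2def, hf.add_left, hf.smul_left, hr1x', neg_mul, div_mul_cancel₀ _ hxx]
    ring
  have hind : r2 ∉ F ∙ r1 := fun h => by
    obtain ⟨l, hl⟩ := Submodule.mem_span_singleton.1 h
    have h1 := congrArg (fun m => hh z m) hl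
    simp only [hr2def, Unit.add_right hf, Unit.smul_right hf, hzx, hzr, mul_zero, add_zero] at h1
    exact hi h1.symm
  obtain ⟨a, b, he, he0, hee⟩ := exists_rs_isotropic hF hS hr1 hr2 (fun h => hr11 (by rw [h, zero_left hF])) hind
  set e := a • r1 + b • r2
  have hex : hh e x = 0 := by simp only [e, hf.add_left, hf.smul_left, hr1x', hr2x, mul_zero, add_zero]
  have hnot : e ∉ Submodule.span F (Set.range ![x]) := fun h => by
    rw [Submodule.mem_span_range_iff_exists_fun] at h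
    obtain ⟨k, hk⟩ := h
    rw [Fin.sum_univ_one, Matrix.cons_val_zero] at hk
    have h1 : k 0 * hh x x = 0 := by rw [← hf.smul_left, hk, hex]
    rw [(mul_eq_zero.1 h1).resolve_right hxx, zero_smul] at hk
    exact he0 hk.symm
  obtain ⟨f, hf', hff, hef, -, hfx⟩ := exists_iso_dual hF hS ![x] (fun j => by fin_cases j; exact hx) he hee
    (fun j => by fin_cases j; exact hex) hnot
  exact ⟨e, f, ⟨hee, hff, hef, herm_swap0 hF hex, herm_swap0 hF (hfx 0), hxx⟩, he, hf', hx⟩

include hM hMI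

/-- The overgroups when the subfield has four elements. -/
theorem subfield_key_two {r : ℕ} (hr : r.Prime) (hcard : Nat.card F = Nat.card F₀ ^ r) (h0 : Nat.card F₀ = 2 ^ 2)
    (hqr : q = 2 ^ r) (hσ : ∀ x ∈ F₀, x ^ q = x ^ 2) (hMX : ¬ M ≤ subfieldSubgroup F₀ P) :
    suGL 3 F q ≤ M := by
  have hf := isUnitaryForm hF (n := 3)
  by_contra hnot
  obtain ⟨p, a, hpc, hp, hqa⟩ := CfsgLib.Forms.exists_charP_pow hF
  have hp2 : p = 2 := by
    have h : 2 ∣ p ^ a := by rw [← hqa, hqr]; exact dvd_pow_self 2 hr.ne_zero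
    exact ((Nat.prime_dvd_prime_iff_eq Nat.prime_two hp).1 (Nat.prime_two.dvd_of_dvd_pow h)).symm
  subst hp2
  have h2 : (2 : F) = 0 := by exact_mod_cast CharP.cast_eq_zero F 2
  have hneg : ∀ x : F, -x = x := fun x => by linear_combination (-x) * h2
  have hq : 3 ≤ q := by
    rw [hqr]
    exact le_trans (by norm_num) (Nat.pow_le_pow_right two_pos hr.two_le)
  have hskew : ∀ c ∈ F₀, c + c ^ q = 0 → c = 0 ∨ c = 1 := fun c hc h => by
    rw [hσ c hc] at h
    have h1 : c * (c - 1) = 0 := by linear_combination h - c * h2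
    exact (mul_eq_zero.1 h1).imp id sub_eq_zero.1
  have h1skew : (1 : F) + (1 : F) ^ q = 0 := by rw [one_pow]; linear_combination h2
  set X := subfieldSubgroup F₀ P ⊓ suGL 3 F q with hX
  have hfix : ∀ {e f w : Fin 3 → F}, RatFrame q F₀ P e f w → fixVec M e = fixVec X e ∧ Nat.card (fixVec M e) = 8 := by
    intro e f w hB
    have h8 := card_fix_rat hF hS hM hMI hr hcard h0 le_rfl hσ hq hnot hB
    refine ⟨(Subgroup.eq_of_le_of_card_ge (H := fixVec X e) (K := fixVec M e) (fun g hg => ⟨hM hg.1, hg.2⟩)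
      (le_of_eq ?_)).symm, by rw [h8]; norm_num⟩
    rw [h8, card_fix_rat hF hS (M := X) le_rfl inf_le_right hr hcard h0 le_rfl hσ hq
      (fun h => subfield_proper hF hS hr.two_le le_rfl h0 hqr hσ (h.trans inf_le_left)) hB]
  -- the involution of a rational isotropic point
  have hTex : ∀ {e f w : Fin 3 → F}, RatFrame q F₀ P e f w → ∃ T : ↥M,
      (∀ y, ((T : GL (Fin 3) F) : Matrix (Fin 3) (Fin 3) F) *ᵥ y = y + hh y e • e) ∧
      T * T = 1 ∧ Cfsg.IsIsolatedInvolution T := by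
    intro e f w hB
    let T : ↥M := ⟨tvec e (uax q e 1) (uax_dot_self hB.ee 1), hM (rat_utv_mem0 hF hS hB.e_mem hB.ee F₀.one_mem h1skew)⟩
    have hT : ∀ y, ((T : GL (Fin 3) F) : Matrix (Fin 3) (Fin 3) F) *ᵥ y = y + hh y e • e := fun y => by
      show (tvec e (uax q e 1) (uax_dot_self hB.ee 1) : Matrix (Fin 3) (Fin 3) F) *ᵥ y = _
      rw [utv_mulVec hF hB.ee, one_mul]
    have hsq : T * T = 1 := Subtype.ext (gl_ext_mulVec fun y => by
      rw [Subgroup.coe_mul, mul_mulVec, hT, hT, hf.add_left, hf.smul_left, hB.ee, Subgroup.coe_one, Units.val_one,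
        Matrix.one_mulVec, show hh y e + hh y e * 0 = hh y e by ring, add_assoc, ← add_smul,
        show hh y e + hh y e = 0 by linear_combination hh y e * h2, zero_smul, add_zero])
    have hT1 : T ≠ 1 := fun h => by
      have h1 := hT f
      rw [h, Subgroup.coe_one, Units.val_one, Matrix.one_mulVec, hB.toFrame.fe hF, one_smul, left_eq_add] at h1
      exact hB.toFrame.e_ne hF h1
    refine ⟨T, hT, hsq, orderOf_eq_prime (by rw [pow_two, hsq]) hT1, fun g hg => ?_⟩
    set v := ((g : GL (Fin 3) F) : Matrix (Fin 3) (Fin 3) F) *ᵥ e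
    have hconj : ∀ y, (((g * T * g⁻¹ : ↥M) : GL (Fin 3) F) : Matrix (Fin 3) (Fin 3) F) *ᵥ y = y + hh y v • v := fun y => by
      rw [Subgroup.coe_mul, Subgroup.coe_mul, Subgroup.coe_inv, mul_mulVec, mul_mulVec, hT, Matrix.mulVec_add,
        Matrix.mulVec_smul, mulVec_inv_mulVec]
      congr 2
      rw [← herm_mulVec (hMI g.2), mulVec_inv_mulVec]
    have hvv : hh v v = 0 := by rw [herm_mulVec (hMI g.2)]; exact hB.ee
    have hve : v ∈ F ∙ e := by
      refine mem_span_of_orth hF (hB.toFrame.e_ne hF) hB.ee hvv ?_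
      by_contra hne
      have hev : hh e v ≠ 0 := fun h => hne (herm_swap0 hF h)
      have hg' := hg.eq
      generalize g * T * g⁻¹ = C at hg' hconj
      have h1 := congrArg (fun G : ↥M => ((G : GL (Fin 3) F) : Matrix (Fin 3) (Fin 3) F) *ᵥ f) hg'
      simp only [Subgroup.coe_mul, mul_mulVec, hconj, hT, hf.add_left, hf.smul_left,
        hB.toFrame.fe hF, add_smul, one_smul] at h1
      have h2' : (hh f v * hh v e) • e = hh e v • v := by
        linear_combination (norm := module) h1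
      obtain ⟨l, hl⟩ := Submodule.mem_span_singleton.1 (show v ∈ F ∙ e from
        Submodule.mem_span_singleton.2 ⟨(hh e v)⁻¹ * (hh f v * hh v e), by
          rw [mul_smul, h2', smul_smul, inv_mul_cancel₀ hev, one_smul]⟩)
      exact hev (by rw [← hl, Unit.smul_right hf, hB.ee, mul_zero])
    obtain ⟨l, hl⟩ := Submodule.mem_span_singleton.1 hve
    have hN : l * frobEquiv hF l ∈ tvParam hF M e := by
      refine (tv_mem_iff hF hB.ee (by
        rw [← frobEquiv_apply hF, map_mul, hf.involutive]; linear_combination (l * frobEquiv hF l) * h2)).1 ?_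
      convert (g * T * g⁻¹).2 using 1
      refine gl_ext_mulVec fun y => ?_
      rw [hconj, utv_mulVec hF hB.ee, ← hl, Unit.smul_right hf, smul_smul]
      congr 2
      ring
    have hl0 : l ≠ 0 := fun h => by
      rw [h, zero_smul] at hl
      exact SL3.Plane.mulVec_ne_zero' (g : GL (Fin 3) F) (hB.toFrame.e_ne hF) hl.symm
    have hl1 : l * frobEquiv hF l = 1 := (hskew _
      (param_rat hF hS hM hMI hr hcard h0 le_rfl hσ hq hnot hB hN) hN.1).resolve_left
        (mul_ne_zero hl0 ((map_ne_zero _).2 hl0))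
    refine Subtype.ext (gl_ext_mulVec fun y => ?_)
    rw [hconj, hT, ← hl, Unit.smul_right hf, smul_smul,
      show frobEquiv hF l * hh y e * l = hh y e by linear_combination hh y e * hl1]
  obtain ⟨e, f, w, hB⟩ := exists_rat_frame hF hS
  obtain ⟨T, hT, hTT, hiso⟩ := hTex hB
  set K := Cfsg.oddCore ↥M
  -- the centraliser of the involution
  have hcent : ∀ c : ↥M, c * T = T * c → ∃ lam : F, lam * frobEquiv hF lam = 1 ∧
      ((c : GL (Fin 3) F) : Matrix (Fin 3) (Fin 3) F) *ᵥ e = lam • e := by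
    intro c hc
    have h1 := congrArg (fun G : ↥M => ((G : GL (Fin 3) F) : Matrix (Fin 3) (Fin 3) F) *ᵥ f) hc
    simp only [Subgroup.coe_mul, mul_mulVec, hT, hB.toFrame.fe hF, one_smul, Matrix.mulVec_add, add_right_inj] at h1
    exact ⟨_, (hB.toFrame.stab_form hF (hMI c.2) h1).2.1, h1⟩
  obtain ⟨u0, hu0, hu0d⟩ := (hB.toFrame.mem_dirs hF hMI).1 (rat_dirs hF hS hB hM hMI F₀.one_mem)
  set κ := -(hh w w * frobEquiv hF (1 : F))
  have hκ0 : κ ≠ 0 := neg_ne_zero.2 (mul_ne_zero hB.ww (by rw [map_one]; exact one_ne_zero))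
  have hu0w : (u0 : Matrix (Fin 3) (Fin 3) F) *ᵥ w = κ • e + w := by
    rw [(hB.toFrame.fixVec_w hF hMI hu0).2, hu0d]
  have hscal : ∀ {lam : F}, lam ^ 3 = 1 → lam * frobEquiv hF lam = 1 →
      ∃ S ∈ X, ∀ y, (S : Matrix (Fin 3) (Fin 3) F) *ᵥ y = lam • y := by
    intro lam h3 hN
    have hl0 : lam ≠ 0 := fun h => by rw [h, zero_mul] at hN; exact zero_ne_one hN
    refine ⟨Units.map (Matrix.scalar (Fin 3) : F →+* Matrix (Fin 3) (Fin 3) F).toMonoidHom (Units.mk0 lam hl0),
      ⟨?_, mem_GU.2 fun y z => ?_, mem_specialLinear.2 ?_⟩, fun y => ?_⟩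
    · refine mem_subfield_of_scaled_rs (inv_ne_zero hl0) fun y hy => ?_
      simpa [Matrix.mulVec, dotProduct, Matrix.diagonal_apply, hl0, smul_smul, Pi.smul_def] using hy
    · have e1 : ∀ y : Fin 3 → F, Matrix.scalar (Fin 3) lam *ᵥ y = lam • y := fun y => by simp
      show hh (Matrix.scalar (Fin 3) lam *ᵥ y) (Matrix.scalar (Fin 3) lam *ᵥ z) = _
      rw [e1, e1, hf.smul_left, Unit.smul_right hf, ← mul_assoc, hN, one_mul]
    · simpa using h3
    · show Matrix.scalar (Fin 3) lam *ᵥ y = _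
      simp
  have hkscal : ∀ c : ↥M, c ∈ K → c * T = T * c → (c : GL (Fin 3) F) ∈ scalars (Fin 3) F := by
    intro c hcK hc
    obtain ⟨lam, hN, hce⟩ := hcent c hc
    obtain ⟨hl0, -, c0, hcw⟩ := hB.toFrame.stab_form hF (hMI c.2) hce
    -- it centralises the group fixing `e`
    set U : ↥M := ⟨u0, hu0.1⟩
    set d := c * U * c⁻¹ * U⁻¹
    have hdK : d ∈ K := by
      have h1 := (Solvable.pPrimeCore_normal (G := ↥M) 2).conj_mem _ (K.inv_mem hcK) U
      have : d = c * (U * c⁻¹ * U⁻¹) := by simp [d, mul_assoc]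
      rw [this]
      exact K.mul_mem hcK h1
    have hcie : (((c : GL (Fin 3) F)⁻¹ : GL (Fin 3) F) : Matrix (Fin 3) (Fin 3) F) *ᵥ e = lam⁻¹ • e := by
      conv_lhs => rw [show e = lam⁻¹ • ((c : GL (Fin 3) F) : Matrix (Fin 3) (Fin 3) F) *ᵥ e by
        rw [hce, smul_smul, inv_mul_cancel₀ hl0, one_smul], Matrix.mulVec_smul, inv_mulVec_mulVec]
    have hdS : (d : GL (Fin 3) F) ∈ fixVec M e := by
      refine ⟨d.2, ?_⟩
      simp only [d, U, Subgroup.coe_mul, Subgroup.coe_inv, mul_mulVec, ((fixVec M e).inv_mem hu0).2, hcie,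
        Matrix.mulVec_smul, hu0.2, hce, smul_smul, inv_mul_cancel₀ hl0, one_smul]
    have hd1 : d = 1 := by
      have ho1 := (CfsgLib.IsoApps.odd_of_mem_oddCore hdK)
      have ho2 : orderOf d ∣ 2 ^ 3 := by
        rw [← Subgroup.orderOf_coe, show (2 : ℕ) ^ 3 = Nat.card (fixVec M e) by rw [(hfix hB).2]; norm_num]
        exact Subgroup.orderOf_dvd_natCard _ hdS
      exact orderOf_eq_one_iff.1 (Nat.Coprime.eq_one_of_dvd
        (Nat.Coprime.pow_right 3 (Nat.coprime_two_right.2 ho1)) ho2)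
    have hcomm : c * U = U * c := by
      have h1 : c * U * c⁻¹ = U := mul_inv_eq_one.1 hd1
      exact mul_inv_eq_iff_eq_mul.1 h1
    have h1 := congrArg (fun G : ↥M => ((G : GL (Fin 3) F) : Matrix (Fin 3) (Fin 3) F) *ᵥ w) hcomm
    simp only [U, Subgroup.coe_mul, mul_mulVec, hu0w, Matrix.mulVec_add, Matrix.mulVec_smul, hce, hcw, hu0.2] at h1
    have h3 := congrArg (fun y => hh y f) h1
    simp only [hf.add_left, hf.smul_left, hB.ef, hB.wf, mul_zero, add_zero, mul_one] at h3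
    have hμ : frobEquiv hF lam / lam = lam := mul_left_cancel₀ hκ0 (by linear_combination -h3)
    have hl3 : lam ^ 3 = 1 := by
      rw [div_eq_iff hl0] at hμ
      linear_combination hN - lam * hμ
    obtain ⟨S, hS', hSy⟩ := hscal hl3 hN
    let S' : ↥M := ⟨S, hM hS'⟩
    have hfixed : (S : GL (Fin 3) F)⁻¹ * (c : GL (Fin 3) F) ∈ fixVec M e := by
      refine ⟨M.mul_mem (M.inv_mem (hM hS')) c.2, ?_⟩
      rw [mul_mulVec, hce, ← hSy, inv_mulVec_mulVec]
    have hSc : Commute S (c : GL (Fin 3) F) := gl_ext_mulVec fun y => by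
      rw [mul_mulVec, mul_mulVec, hSy, hSy, Matrix.mulVec_smul]
    have hS3 : S ^ 3 = 1 := gl_ext_mulVec fun y => by
      rw [pow_succ, pow_succ, pow_one, mul_mulVec, mul_mulVec, hSy, hSy, hSy, smul_smul, smul_smul,
        show lam * lam * lam = 1 by linear_combination hl3, one_smul, Units.val_one, Matrix.one_mulVec]
    have hord : orderOf ((S : GL (Fin 3) F)⁻¹ * (c : GL (Fin 3) F)) ∣ 3 * orderOf c := by
      refine orderOf_dvd_of_pow_eq_one ?_
      rw [hSc.inv_left.mul_pow, inv_pow, pow_mul, hS3, one_pow, inv_one, one_mul, mul_comm, pow_mul,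
        ← Subgroup.orderOf_coe, pow_orderOf_eq_one, one_pow]
    have hodd : Odd (3 * orderOf c) := Nat.odd_mul.2 ⟨by decide, CfsgLib.IsoApps.odd_of_mem_oddCore hcK⟩
    have hone : (S : GL (Fin 3) F)⁻¹ * (c : GL (Fin 3) F) = 1 := orderOf_eq_one_iff.1
      (Nat.Coprime.eq_one_of_dvd ((Nat.coprime_two_right.2 (hodd.of_dvd_nat hord)).pow_right 3)
        (by rw [show (2 : ℕ) ^ 3 = Nat.card (fixVec M e) by rw [(hfix hB).2]; norm_num]
            exact Subgroup.orderOf_dvd_natCard _ hfixed))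
    rw [← inv_mul_eq_one.1 hone, mem_scalars_iff]
    refine ⟨Units.mk0 lam hl0, Matrix.toLin'.injective (LinearMap.ext fun y => ?_)⟩
    simp [hSy, Matrix.smul_mulVec]
  -- the odd core is abelian modulo scalars
  let π := QuotientGroup.mk' (scalars (Fin 3) F)
  have hinv : ∀ k : ↥M, k ∈ K → π (T : GL (Fin 3) F) * π (k : GL (Fin 3) F) * π (T : GL (Fin 3) F) =
      (π (k : GL (Fin 3) F))⁻¹ := by
    intro k hk
    have hnT : ∀ h ∈ K, T * h * T⁻¹ ∈ K := fun h hh' => (Solvable.pPrimeCore_normal (G := ↥M) 2).conj_mem h hh' T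
    let C := (K ⊓ Subgroup.centralizer ({T} : Set ↥M)).subgroupOf K
    let ψ : {x : ↥M // x ∈ K ∧ T * x * T⁻¹ = x⁻¹} → K ⧸ C := fun x => QuotientGroup.mk ⟨x.1, x.2.1⟩
    have hTi : T⁻¹ = T := inv_eq_of_mul_eq_one_right hTT
    have hCs : ∀ c : K, c ∈ C → ((c : ↥M) : GL (Fin 3) F) ∈ scalars (Fin 3) F := fun c hc =>
      hkscal _ c.2 (Subgroup.mem_centralizer_singleton_iff.1 hc.2)
    have hsc : ∀ d : ↥M, d ∈ K → d * T = T * d → ∀ a : ↥M, a * d = d * a := fun d hdK hdC a => by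
      refine Subtype.ext (gl_ext_mulVec fun v => ?_)
      obtain ⟨l, hl⟩ := (mem_scalars_iff _).1 (hkscal d hdK hdC)
      rw [Subgroup.coe_mul, Subgroup.coe_mul, mul_mulVec, mul_mulVec, hl, Matrix.smul_mulVec, Matrix.smul_mulVec,
        Matrix.one_mulVec, Matrix.one_mulVec, Matrix.mulVec_smul]
    have hψ : Function.Injective ψ := fun x y h => by
      have h1 : (⟨x.1, x.2.1⟩ : K)⁻¹ * ⟨y.1, y.2.1⟩ ∈ C := QuotientGroup.eq.1 h
      set d : ↥M := x.1⁻¹ * y.1
      have hdC : d * T = T * d := Subgroup.mem_centralizer_singleton_iff.1 h1.2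
      have hdK : d ∈ K := K.mul_mem (K.inv_mem x.2.1) y.2.1
      have hxd : x.1 * d = d * x.1 := hsc d hdK hdC x.1
      have hy : y.1 = x.1 * d := by simp [d]
      have h3 : T * d * T⁻¹ = d := by rw [← hdC, mul_inv_cancel_right]
      have h4 : T * y.1 * T⁻¹ = x.1⁻¹ * d := by
        rw [hy, show T * (x.1 * d) * T⁻¹ = T * x.1 * T⁻¹ * (T * d * T⁻¹) by group, x.2.2, h3]
      rw [y.2.2, hy, _root_.mul_inv_rev] at h4
      have h5 : d * d = 1 := by
        have h6 : d⁻¹ * x.1⁻¹ = d * x.1⁻¹ := h4.trans ((Commute.inv_left hxd).eq)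
        have h7 := mul_right_cancel h6
        calc d * d = d⁻¹ * d := by rw [h7]
          _ = 1 := inv_mul_cancel d
      have hd1 : d = 1 := orderOf_eq_one_iff.1 (Nat.Coprime.eq_one_of_dvd
        (Nat.coprime_two_right.2 (CfsgLib.IsoApps.odd_of_mem_oddCore hdK))
        (orderOf_dvd_of_pow_eq_one (by rw [pow_two, h5])))
      exact Subtype.ext (inv_mul_eq_one.1 hd1)
    have hsurj := ((Nat.bijective_iff_injective_and_card ψ).2 ⟨hψ, (CfsgLib.IsoApps.relIndex_eq_card_inverted hTT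
      CfsgLib.IsoApps.odd_oddCore hnT).symm⟩).2
    obtain ⟨x, hx⟩ := hsurj (QuotientGroup.mk ⟨k, hk⟩)
    have h1 := hCs _ (QuotientGroup.eq.1 hx)
    have e1 : π ((x.1 : ↥M) : GL (Fin 3) F) = π (k : GL (Fin 3) F) := (QuotientGroup.eq (s := scalars (Fin 3) F)).2 h1
    have e2 := congrArg (fun G : ↥M => π (G : GL (Fin 3) F)) x.2.2
    simp only [Subgroup.coe_mul, Subgroup.coe_inv, map_mul, map_inv] at e2
    have hTinv : (π (T : GL (Fin 3) F))⁻¹ = π (T : GL (Fin 3) F) := inv_eq_of_mul_eq_one_right (by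
      rw [← map_mul, ← Subgroup.coe_mul, hTT, Subgroup.coe_one, map_one])
    rwa [hTinv, e1] at e2
  have habel : ∀ k l : ↥M, k ∈ K → l ∈ K → π (k : GL (Fin 3) F) * π (l : GL (Fin 3) F) =
      π (l : GL (Fin 3) F) * π (k : GL (Fin 3) F) := by
    intro k l hk hl
    have h1 := hinv (k * l) (K.mul_mem hk hl)
    have hT2 : π (T : GL (Fin 3) F) * π (T : GL (Fin 3) F) = 1 := by
      rw [← map_mul, ← Subgroup.coe_mul, hTT, Subgroup.coe_one, map_one]
    rw [Subgroup.coe_mul, map_mul, _root_.mul_inv_rev, show π (T : GL (Fin 3) F) * (π k * π l) * π T =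
        π T * π k * π T * (π T * π l * π T) by
      simp only [mul_assoc]; rw [← mul_assoc (π (T : GL (Fin 3) F)) (π (T : GL (Fin 3) F)), hT2, one_mul],
      hinv k hk, hinv l hl] at h1
    have h2' := congrArg (fun z => z⁻¹) h1
    simp only [_root_.mul_inv_rev, inv_inv] at h2'
    exact h2'.symm
  -- the centraliser is rational
  have hcX : ∀ c : ↥M, c * T = T * c → (c : GL (Fin 3) F) ∈ subfieldSubgroup F₀ P := by
    intro c hc
    obtain ⟨lam, hN, hce⟩ := hcent c hc
    obtain ⟨hl0, -, c0, hcw⟩ := hB.toFrame.stab_form hF (hMI c.2) hce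
    have hcie : (((c : GL (Fin 3) F)⁻¹ : GL (Fin 3) F) : Matrix (Fin 3) (Fin 3) F) *ᵥ e = lam⁻¹ • e := by
      conv_lhs => rw [show e = lam⁻¹ • ((c : GL (Fin 3) F) : Matrix (Fin 3) (Fin 3) F) *ᵥ e by
        rw [hce, smul_smul, inv_mul_cancel₀ hl0, one_smul], Matrix.mulVec_smul, inv_mulVec_mulVec]
    set u' := (c : GL (Fin 3) F) * u0 * (c : GL (Fin 3) F)⁻¹
    have hu' : u' ∈ fixVec M e := by
      refine ⟨M.mul_mem (M.mul_mem c.2 hu0.1) (M.inv_mem c.2), ?_⟩
      simp only [u', mul_mulVec, hcie, Matrix.mulVec_smul, hu0.2, hce, smul_smul, inv_mul_cancel₀ hl0, one_smul]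
    have hu'r : InRS F₀ P ((u' : Matrix (Fin 3) (Fin 3) F) *ᵥ w) := by
      have h := hu'
      rw [(hfix hB).1] at h
      exact inRS_mulVec_of_fix hF hS hB h.1.1 h.2 hB.w_mem
    have hu'w : (u' : Matrix (Fin 3) (Fin 3) F) *ᵥ w = (κ * lam ^ 3) • e + w := by
      have h1 : (u' : Matrix (Fin 3) (Fin 3) F) *ᵥ (((c : GL (Fin 3) F) : Matrix (Fin 3) (Fin 3) F) *ᵥ w) =
          ((c : GL (Fin 3) F) : Matrix (Fin 3) (Fin 3) F) *ᵥ ((u0 : Matrix (Fin 3) (Fin 3) F) *ᵥ w) := by
        simp only [u', mul_mulVec, inv_mulVec_mulVec]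
      rw [hu0w, hcw, Matrix.mulVec_add, Matrix.mulVec_add, Matrix.mulVec_smul, Matrix.mulVec_smul, hu'.2,
        Matrix.mulVec_smul, hce, hcw] at h1
      have hμ : frobEquiv hF lam / lam ≠ 0 := div_ne_zero ((map_ne_zero _).2 hl0) hl0
      refine smul_right_injective _ hμ ?_
      have hμ3 : frobEquiv hF lam / lam * (κ * lam ^ 3) = κ * lam := by
        field_simp
        linear_combination hN
      simp only [smul_add, smul_smul, hμ3]
      linear_combination (norm := module) h1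
    have hκF : κ ∈ F₀ := F₀.neg_mem (F₀.mul_mem (herm_mem hS hB.w_mem hB.w_mem) (by rw [map_one]; exact F₀.one_mem))
    have hl3 : lam ^ 3 ∈ F₀ := by
      have h1 := herm_mem hS hu'r hB.f_mem
      rw [hu'w, hf.add_left, hf.smul_left, hB.ef, hB.wf, mul_one, add_zero] at h1
      have h3 := F₀.div_mem h1 hκF
      rwa [mul_div_cancel_left₀ _ hκ0] at h3
    obtain ⟨s, hs, hs0, hsu⟩ := exists_unit_multiple hF hS hB.w_mem hB.ww
    obtain ⟨D, hDs, hD⟩ := exists_homology hF hsu (t := lam) (by rw [← frobEquiv_apply hF]; exact hN)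
    have hDX : D ∈ subfieldSubgroup F₀ P := mem_subfield_of_scaled_rs (inv_ne_zero hl0) fun z hz => by
      rw [hD z, smul_add, smul_smul, smul_smul, smul_smul, inv_mul_cancel₀ hl0, one_smul]
      refine hz.add ((hB.w_mem.smul hs).smul ?_)
      rw [show lam⁻¹ * (((lam ^ 2)⁻¹ - lam)) * hh z (s • w) = ((lam ^ 3)⁻¹ - 1) * hh z (s • w) by field_simp]
      exact F₀.mul_mem (F₀.sub_mem (F₀.inv_mem hl3) F₀.one_mem) (herm_mem hS hz (hB.w_mem.smul hs))
    have hDe : (D : Matrix (Fin 3) (Fin 3) F) *ᵥ e = lam • e :=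
      hD.apply_perp hF (by rw [Unit.smul_right hf, hB.toFrame.ew hF, mul_zero])
    have hmem : D⁻¹ * (c : GL (Fin 3) F) ∈ fixVec M e := by
      refine ⟨M.mul_mem (M.inv_mem (hM ⟨hDX, hDs⟩)) c.2, ?_⟩
      rw [mul_mulVec, hce, ← hDe, inv_mulVec_mulVec]
    rw [(hfix hB).1] at hmem
    have := (subfieldSubgroup F₀ P).mul_mem hDX hmem.1.1
    rwa [mul_inv_cancel_left] at this
  -- the odd core is rational
  have hKX : ∀ k : ↥M, k ∈ K → (k : GL (Fin 3) F) ∈ subfieldSubgroup F₀ P := by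
    intro k hk
    refine mem_of_aniso_points hF hS (hMI k.2) fun x hx hxx => ?_
    obtain ⟨e', f', hB'⟩ := exists_frame_of_aniso hF hS hx hxx
    obtain ⟨T', hT', hTT', hiso'⟩ := hTex hB'
    have hB'' : RatFrame q F₀ P f' e' x := ⟨hB'.toFrame.symm hF, hB'.f_mem, hB'.e_mem, hB'.w_mem⟩
    obtain ⟨S', hS', hSS', -⟩ := hTex hB''
    have hd : ∀ v : Fin 3 → F, v + v = 0 := fun v => by rw [← two_smul F v, h2, zero_smul]
    set Y := T' * S'
    have hYe : ((Y : GL (Fin 3) F) : Matrix (Fin 3) (Fin 3) F) *ᵥ e' = f' := by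
      simp only [Y, Subgroup.coe_mul, mul_mulVec, hS', hB'.ef, one_smul, hT', hf.add_left, hB'.toFrame.fe hF, hB'.ee,
        zero_add]
      linear_combination (norm := module) hd e'
    have hYf : ((Y : GL (Fin 3) F) : Matrix (Fin 3) (Fin 3) F) *ᵥ f' = e' + f' := by
      simp only [Y, Subgroup.coe_mul, mul_mulVec, hS', hB'.ff, zero_smul, add_zero, hT', hB'.toFrame.fe hF, one_smul]
      rw [add_comm]
    have hYw : ((Y : GL (Fin 3) F) : Matrix (Fin 3) (Fin 3) F) *ᵥ x = x := by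
      simp only [Y, Subgroup.coe_mul, mul_mulVec, hS', hB'.wf, zero_smul, add_zero, hT', hB'.we]
    have hY3 : Y ^ 3 = 1 := Subtype.ext (gl_ext_mulVec fun y => by
      rw [hB'.toFrame.decomp hF y, Subgroup.coe_pow, Subgroup.coe_one, Units.val_one, Matrix.one_mulVec, pow_succ,
        pow_succ, pow_one]
      simp only [mul_mulVec, Matrix.mulVec_add, Matrix.mulVec_smul, hYe, hYf, hYw]
      linear_combination (norm := module) (hh y f') • hd f' + (hh y e') • hd (e' + f'))
    have hYK : Y ∈ K := by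
      refine CfsgLib.IsoApps.mem_oddCore_of_inverted hiso' ?_ ?_
      · exact (by decide : Odd 3).of_dvd_nat (orderOf_dvd_of_pow_eq_one hY3)
      · rw [_root_.mul_inv_rev, inv_eq_of_mul_eq_one_right hTT', inv_eq_of_mul_eq_one_right hSS']
        simp only [Y, ← mul_assoc, hTT', one_mul]
    have hYpi := habel k Y hk hYK
    rw [← map_mul, ← map_mul, QuotientGroup.mk'_eq_mk'] at hYpi
    obtain ⟨z, hz, hzeq⟩ := hYpi
    obtain ⟨γ, hγ⟩ := (mem_scalars_iff z).1 hz
    set v := ((k : GL (Fin 3) F) : Matrix (Fin 3) (Fin 3) F) *ᵥ x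
    have hYv : ((Y : GL (Fin 3) F) : Matrix (Fin 3) (Fin 3) F) *ᵥ v = (γ : F) • v := by
      have h1 := congrArg (fun G : GL (Fin 3) F => (G : Matrix (Fin 3) (Fin 3) F) *ᵥ x) hzeq
      simp only [mul_mulVec, hγ, Matrix.smul_mulVec, Matrix.one_mulVec, Matrix.mulVec_smul, hYw] at h1
      exact h1.symm
    set A := hh v f'
    set B := hh v e'
    set C := hh v x / hh x x
    have hdecv := hB'.toFrame.decomp hF v
    rw [hdecv] at hYv
    simp only [Matrix.mulVec_add, Matrix.mulVec_smul, hYe, hYf, hYw, smul_add, smul_smul] at hYv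
    obtain ⟨c1, c2, c3⟩ := hB'.toFrame.inj hF (a := B) (b := A + B) (c := C) (a' := γ * A) (b' := γ * B) (c' := γ * C)
      (by linear_combination (norm := module) hYv)
    rcases eq_or_ne B 0 with hB0 | hB0
    · have hA0 : A = 0 := by linear_combination c2 + (γ - 1) * hB0
      refine ⟨C, x, hx, ?_⟩
      conv_lhs => rw [hdecv]
      rw [show hh v e' = 0 from hB0, show hh v f' = 0 from hA0, zero_smul, zero_smul, zero_add, zero_add]
    · have hC0 : C = 0 := by
        have h' : ((γ : F) - 1) * C = 0 := by linear_combination -c3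
        refine (mul_eq_zero.1 h').resolve_left fun hγ1 => hB0 ?_
        have e1 : (γ : F) = 1 := sub_eq_zero.1 hγ1
        rw [e1] at c1 c2
        linear_combination c2 + c1
      set ρ := A / B
      have hρq : ρ * ρ + ρ + 1 = 0 := by
        have hγρ : (γ : F) = ρ + 1 := by
          simp only [ρ]; field_simp
          linear_combination -c2
        have : ρ * (γ : F) = 1 := by
          simp only [ρ]; field_simp
          linear_combination -c1
        rw [hγρ] at this
        linear_combination this + h2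
      have hρ : ρ ∈ F₀ := by
        -- the roots lie in the field with four elements
        obtain ⟨ω, hω, hω0, hω1⟩ : ∃ ω ∈ F₀, ω ≠ 0 ∧ ω ≠ 1 := by
          by_contra hcon
          push Not at hcon
          have hle : Nat.card F₀ ≤ Nat.card (Fin 2) := Nat.card_le_card_of_injective
            (fun z : F₀ => if (z : F) = 0 then (0 : Fin 2) else 1) fun z z' hzz => by
              by_cases hz0 : (z : F) = 0 <;> by_cases hz0' : (z' : F) = 0 <;> simp [hz0, hz0'] at hzz
              · exact Subtype.ext (hz0.trans hz0'.symm)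
              · exact Subtype.ext ((hcon _ z.2 hz0).trans (hcon _ z'.2 hz0').symm)
          rw [h0, Nat.card_fin] at hle
          omega
        have hω4 : ω ^ 4 = ω := by
          haveI := Fintype.ofFinite F₀
          have h1 := congrArg Subtype.val (FiniteField.pow_card (⟨ω, hω⟩ : F₀))
          rw [SubmonoidClass.coe_pow, ← Nat.card_eq_fintype_card, h0] at h1
          exact h1
        have hωq : ω * ω + ω + 1 = 0 := by
          have h1 : (ω * (ω - 1)) * (ω * ω + ω + 1) = 0 := by linear_combination hω4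
          exact (mul_eq_zero.1 h1).resolve_left (mul_ne_zero hω0 (sub_ne_zero.2 hω1))
        have : (ρ - ω) * (ρ - (ω + 1)) = 0 := by linear_combination hρq - hωq - (ρ * ω + ρ - ω * ω - ω) * h2
        rcases mul_eq_zero.1 this with h | h <;> rw [sub_eq_zero.1 h]
        · exact hω
        · exact F₀.add_mem hω F₀.one_mem
      refine ⟨B, ρ • e' + f', (hB'.e_mem.smul hρ).add hB'.f_mem, ?_⟩
      conv_lhs => rw [hdecv]
      rw [show hh v x / hh x x = 0 from hC0, zero_smul, add_zero, smul_add, smul_smul, mul_div_cancel₀ _ hB0]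
  refine hMX fun g hg => ?_
  obtain ⟨k, hk, c, hc, hkc⟩ := CfsgLib.IsoApps.exists_mul hiso (⟨g, hg⟩ : ↥M)
  have hgc : g = (k : GL (Fin 3) F) * (c : GL (Fin 3) F) := congrArg Subtype.val hkc
  rw [hgc]
  exact (subfieldSubgroup F₀ P).mul_mem (hKX k hk) (hcX c (Subgroup.mem_centralizer_singleton_iff.1 hc))

end CfsgLib.Geo.SU3
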