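/-
The subfield groups of odd prime index are maximal in SU of dimension three.
-/
import Cfsg.Agent.Geo.SUThree.SubfieldTwo
import Cfsg.Agent.Geo.UnitSubfieldOvergroup

set_option autoImplicit false

namespace CfsgLib.Geo.SU3

open Matrix Cfsg Cfsg.Geo CfsgLib.Geo CfsgLib.Geo.UTv

variable {q : ℕ} {F : Type*} [Field F] [Finite F] (hF : Nat.card F = q ^ 2)

include hF

/-- A subfield group of odd prime index is maximal. -/
theorem subfield_maximal (hq : 3 ≤ q) {F₀ : Subfield F} {P : GL (Fin 3) F} {r : ℕ} (hr : r.Prime) (hro : Odd r)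
    (hcard : Nat.card F = Nat.card F₀ ^ r)
    (hP : IsFormRationalStructure (Cfsg.hermForm 3 F q) F₀ 1 P) :
    IsMaximalIn (suGL 3 F q) (subfieldSubgroup F₀ P ⊓ suGL 3 F q) := by
  have hS : UnitSub 3 q F F₀ P := ⟨moves_of_odd hF hr hro hcard, hP⟩
  obtain ⟨q0, hq0, h0, hqr, hσ⟩ := exists_subfield_card hF hro hcard
  refine isMaximalIn_of_key (subfield_proper hF hS hr.two_le hq0 h0 hqr hσ) fun M hM hMI hMX => ?_
  rcases lt_trichotomy q0 3 with h | rfl | h
  · obtain rfl : q0 = 2 := by omega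
    exact subfield_key_two hF hS hM hMI hr hcard h0 hqr hσ hMX
  · exact subfield_key_three hF hS hM hMI hr h0 hqr hσ hMX
  · exact subfield_key_large hF hS hM hMI hr hcard h0 hq0 hσ hq (by omega) hqr hMX

end CfsgLib.Geo.SU3
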